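import Cfsg.Agent.Lib.NineThree.Frame

/-!
# Finite facts on the centraliser of a three-cycle in `3^3 : S4`
-/

set_option autoImplicit false
set_option maxRecDepth 100000
set_option synthInstance.maxSize 2000
set_option synthInstance.maxHeartbeats 200000

namespace Cfsg.Lib.NineThree

open Cfsg.Lib.Recog.ThreeCubedFour

/-- The element of order four centralising the first three-cycle. -/
def kA : Model := ⟨⟨1, 0, 2, 0⟩, rfl⟩

theorem rotA_base : InBase rotA ∧ rotA ≠ 1 ∧ InBase rotB ∧ InBase rotC := by decide +kernel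

theorem kA_facts : kA * rotA = rotA * kA ∧ ¬ InBase (kA * kA) := by decide +kernel

theorem cent_rotA : ∀ y : Model, y * rotA = rotA * y → nine y = 1 → InBase y := by decide +kernel

theorem cent_mod_rotA : ∀ m : Model, m * rotA = rotA * m →
    ∀ i j k : Fin 3, rotA ^ i.val * rotB ^ j.val * rotC ^ k.val ∉ [1, rotA, rotA * rotA] →
      m * (rotA ^ i.val * rotB ^ j.val * rotC ^ k.val) * m⁻¹ *
          (rotA ^ i.val * rotB ^ j.val * rotC ^ k.val)⁻¹ ∈ [1, rotA, rotA * rotA] →
        InBase m := by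
  decide +kernel

/-- Each coset of the three-cycle contains a double three-cycle. -/
theorem coset_cubB : ∀ i j k : Fin 3, rotA ^ i.val * rotB ^ j.val * rotC ^ k.val ∉ [1, rotA, rotA * rotA] →
    ∃ z ∈ [1, rotA, rotA * rotA], ∃ g : Model,
      g * cubB * g⁻¹ = z * (rotA ^ i.val * rotB ^ j.val * rotC ^ k.val) := by
  have h : ∀ i j k : Fin 3, rotA ^ i.val * rotB ^ j.val * rotC ^ k.val ∉ [1, rotA, rotA * rotA] →
      ∃ g : Model, g * cubB * g⁻¹ * (rotA ^ i.val * rotB ^ j.val * rotC ^ k.val)⁻¹ ∈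
        [1, rotA, rotA * rotA] := by
    decide +kernel
  intro i j k hl
  obtain ⟨g, hg⟩ := h i j k hl
  exact ⟨_, hg, g, (inv_mul_cancel_right _ _).symm⟩

/-- The base modulo the three-cycle is irreducible. -/
theorem irreducible_mod_rotA : ∀ i j k : Fin 3,
    rotA ^ i.val * rotB ^ j.val * rotC ^ k.val ∉ [1, rotA, rotA * rotA] →
    ∀ t ∈ [rotB, rotC], ∃ p q : Fin 3, ∃ z ∈ [1, rotA, rotA * rotA],
      t = z * ((rotA ^ i.val * rotB ^ j.val * rotC ^ k.val) ^ p.val *
        (kA * (rotA ^ i.val * rotB ^ j.val * rotC ^ k.val) * kA⁻¹) ^ q.val) := by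
  decide +kernel

theorem not_conj_mod_rotA : ∀ g : Model,
    g * rotB * g⁻¹ * (rotB * rotC)⁻¹ ∉ [1, rotA, rotA * rotA] := by
  decide +kernel

theorem gen_mod_base : ∀ m : Model, m * rotA = rotA * m → ¬ InBase (m * m) →
    ∀ x : Model, x * rotA = rotA * x →
      InBase x ∨ InBase (x * m) ∨ InBase (x * (m * m)) ∨ InBase (x * (m * m * m)) := by
  decide +kernel

theorem base_complement : ∀ i j k : Fin 3,
    (rotB ^ j.val * rotC ^ k.val = rotA ^ i.val → rotA ^ i.val = 1) := by
  decide +kernel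

end Cfsg.Lib.NineThree
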