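import Cfsg.Agent.Lib.NineThree.CentC
import Cfsg.Agent.Lib.NineThree.CentAModel
import Cfsg.Agent.S3701
import Cfsg.Agent.Lib.Recog.ThreeCubedFour.Chars
import Cfsg.Agent.Lib.Recog.ThreeCubedFour.Inner

/-!
# All centralisers inside the model subgroup
-/

set_option autoImplicit false
set_option linter.unusedSectionVars false
set_option linter.style.haveILetI false
set_option synthInstance.maxSize 2000
set_option synthInstance.maxHeartbeats 200000

namespace Cfsg.Lib.Recog.ThreeCubedFour

universe u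

variable {G : Type u} [Group G] [Finite G]

/-- The model subgroup containing all centralisers of its subgroup of order 27 is everything. -/
theorem Setting.H_eq_top (X : Setting G) : X.H = ⊤ := by
  classical
  obtain ⟨M, hMn, hM⟩ := X.exists_normal
  have hJM : X.J ≤ M := by
    intro j hj
    rw [show j = X.hom (X.φ ⟨j, X.J_le hj⟩) from (X.hom_φ ⟨j, X.J_le hj⟩).symm, hM]
    exact ((X.mem_J ⟨j, X.J_le hj⟩).mp hj).1
  have hMp : ∀ x : X.H, (x : G) ∈ M → X.φ x ∈ blockStab := by
    intro x hx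
    exact (hM (X.φ x)).mp (by rw [show X.hom (X.φ x) = (x : G) from X.hom_φ x]; exact hx)
  let ψ : ↥(X.H.subgroupOf M) ≃* ↥blockStab :=
    { toFun := fun x => ⟨X.φ ⟨x.1.1, x.2⟩, hMp ⟨x.1.1, x.2⟩ x.1.2⟩
      invFun := fun y => ⟨⟨X.hom y.1, (hM y.1).mpr y.2⟩, X.hom_mem y.1⟩
      left_inv := fun x => Subtype.ext (Subtype.ext (X.hom_φ ⟨x.1.1, x.2⟩))
      right_inv := fun y => Subtype.ext (X.φ_hom y.1)
      map_mul' := fun x y => Subtype.ext (map_mul X.φ ⟨x.1.1, x.2⟩ ⟨y.1.1, y.2⟩) }
  have hcard : Nat.card X.J = 27 := by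
    rw [show (27 : ℕ) = (Finset.univ.filter fun x : Model => InBase x).card by decide +kernel,
      ← Fintype.card_subtype, ← Nat.card_eq_fintype_card]
    exact Nat.card_congr
      { toFun := fun j => ⟨X.φ ⟨j, X.J_le j.2⟩, (X.mem_J _).mp j.2⟩
        invFun := fun x => ⟨X.hom x.1, X.hom_mem_J.mpr x.2⟩
        left_inv := fun j => Subtype.ext (X.hom_φ ⟨j.1, X.J_le j.2⟩)
        right_inv := fun x => Subtype.ext (X.φ_hom x.1) }
  have hnorm : ∀ h ∈ X.H, ∀ j ∈ X.J, h * j * h⁻¹ ∈ X.J := fun h hh _ hj =>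
    X.conj_mem_J (fun m hm => mul_mem (mul_mem hh (X.J_le hm)) (inv_mem hh)) hj
  have htop : X.H.subgroupOf M = ⊤ := by
    refine Cfsg.Agent.S3701.result (X.H.subgroupOf M)
      ⟨ψ.trans ((Subgroup.equivMapOfInjective _ _ modelPerm_injective).trans
        (MulEquiv.subgroupCongr map_blockStab))⟩
      (X.J.subgroupOf M) (fun x hx => X.J_le hx) ?_ ?_ ?_
    · rw [Nat.card_congr (Subgroup.subgroupOfEquivOfLe hJM).toEquiv, hcard]
    · ext n
      constructor
      · intro hn
        refine X.mem_H_of_normalize (n := (n : G)) fun j hj => ?_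
        exact (Subgroup.mem_normalizer_iff.mp hn ⟨j, hJM hj⟩).mp hj
      · intro hn
        refine Subgroup.mem_normalizer_iff.mpr fun t => ⟨fun ht => hnorm _ hn _ ht, fun ht => ?_⟩
        have := hnorm _ (inv_mem hn) _ ht
        simpa [Subgroup.mem_subgroupOf, mul_assoc] using this
    · intro t ht ht1 c hc
      refine X.cent_le t ht (fun e => ht1 (Subtype.ext e)) ?_
      rw [Subgroup.mem_centralizer_singleton_iff] at hc ⊢
      exact congrArg Subtype.val hc
  rw [Subgroup.subgroupOf_eq_top] at htop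
  rw [eq_top_iff]
  intro g _
  exact X.mem_H_of_normalize fun j hj =>
    X.conj_mem_J (fun m hm => htop (hMn.conj_mem m (hJM hm) g)) hj

end Cfsg.Lib.Recog.ThreeCubedFour

namespace Cfsg.Lib.NineThree

open Cfsg.Lib.Recog.ThreeCubedFour Subgroup

universe u

namespace Frame

variable {G : Type u} [Group G] [Finite G] (F : Frame G)

/-- If the centraliser of the three-cycle lies in the model subgroup then so does everything. -/
theorem range_eq_top (hA : centralizer ({F.φ rotA} : Set G) ≤ F.φ.range) : F.φ.range = ⊤ := by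
  refine Setting.H_eq_top
    { H := F.φ.range
      φ := (MonoidHom.ofInjective F.inj).symm
      J := F.J
      J_le := map_le_range _ _
      mem_J := fun x => by
        obtain ⟨m, hm⟩ := (MonoidHom.ofInjective F.inj).surjective x
        rw [← hm, MulEquiv.symm_apply_apply]
        exact F.mem_J
      cent_le := ?_ }
  rintro _ ⟨x, hx, rfl⟩ hx1
  have hx1' : x ≠ 1 := fun e => hx1 (by rw [e, map_one])
  rcases base_classes x hx hx1' with ⟨g, hg⟩ | ⟨g, hg⟩ | ⟨g, hg⟩
  · obtain ⟨-, -, -, ⟨k, hk⟩, -⟩ := kernel_conj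
    exact F.cent_conj_le hA (show g * k * rotA * (g * k)⁻¹ = x by
      rw [← hg, cubA, ← hk]; group)
  · exact F.cent_conj_le F.cent_cubB_le hg
  · exact F.cent_conj_le (F.cent_cC_eq.le.trans F.P_le_H) hg

end Frame

end Cfsg.Lib.NineThree
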