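import Cfsg.Agent.Lib.NineThree.EndEven
import Cfsg.Agent.Lib.NineThree.Small
import Cfsg.Agent.Lib.AltEightNine.Core.Main

/-!
# Recognition of the alternating group of degree nine from the normaliser of its elementary
subgroup of order twenty-seven
-/

set_option autoImplicit false
set_option linter.unusedSectionVars false
set_option linter.style.haveILetI false
set_option maxHeartbeats 1000000
set_option maxRecDepth 100000
set_option synthInstance.maxSize 2000
set_option synthInstance.maxHeartbeats 200000

namespace Cfsg.Lib.NineThree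

open Cfsg.Lib.Recog.ThreeCubedFour Subgroup Equiv

universe u

/-- The points other than the one fixed by the long involution. -/
def relab : Fin 8 ≃ {x : Fin 9 // x ≠ 2} := finSuccAboveEquiv 2

/-- The stabiliser of that point. -/
def i8 : AltEightNine.A8 →* A9 where
  toFun a := ⟨Perm.extendDomain a.1 relab, Perm.mem_alternatingGroup.2 (by
    rw [Perm.sign_extendDomain]; exact Perm.mem_alternatingGroup.1 a.2)⟩
  map_one' := Subtype.ext (Perm.extendDomain_one relab)
  map_mul' a b := Subtype.ext (Perm.extendDomain_mul relab a.1 b.1).symm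

theorem i8_injective : Function.Injective i8 := fun _ _ h =>
  Subtype.ext (Perm.extendDomainHom_injective relab (congrArg Subtype.val h))

theorem i8_facts : i8 AltEightNine.z8 = tA ∧ (i8 AltEightNine.w8 : Perm (Fin 9)).support.card = 4 ∧
    i8 AltEightNine.w8 * i8 AltEightNine.w8 = 1 := by
  decide +kernel

theorem mem_range_i8 {p : A9} (h : (p : Perm (Fin 9)) 2 = 2) : p ∈ i8.range := by
  have hiff : ∀ x : Fin 9, (p : Perm (Fin 9)) x ≠ 2 ↔ x ≠ 2 := fun x => by
    constructor <;> intro hx e
    · exact hx (by rw [e, h])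
    · exact hx ((p : Perm (Fin 9)).injective (e.trans h.symm))
  let q : Perm (Fin 8) := relab.symm.permCongr ((p : Perm (Fin 9)).subtypePerm hiff)
  have e : q.extendDomain relab = (p : Perm (Fin 9)) := by
    ext x
    by_cases hx : x ≠ 2
    · rw [Perm.extendDomain_apply_subtype q relab (b := x) hx]
      simp [q, Equiv.permCongr_apply]
    · rw [Perm.extendDomain_apply_not_subtype q relab (b := x) hx]
      push Not at hx
      rw [hx, h]
  refine ⟨⟨q, Perm.mem_alternatingGroup.2 ?_⟩, Subtype.ext e⟩
  rw [← Perm.sign_extendDomain q relab, e]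
  exact Perm.mem_alternatingGroup.1 p.2

namespace NineEmb

variable {G : Type u} [Group G] [Finite G] {F : Frame G} (E : NineEmb F)

/-- The embedded alternating group of degree eight. -/
def emb8 : AltEightNine.Emb G where
  ψ := E.ψ.comp i8
  inj := E.inj.comp i8_injective
  cent := by
    intro c hc
    rw [MonoidHom.comp_apply, i8_facts.1] at hc
    obtain ⟨p, rfl⟩ := E.Ct_le hc
    have he := congrArg (fun s : Perm (Fin 9) => s 2) (E.comm_iff.1 (mem_centralizer_singleton_iff.1 hc))
    have hfix : ∀ x, (tA : Perm (Fin 9)) x = x ↔ x = 2 := by decide +kernel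
    obtain ⟨a, ha⟩ := mem_range_i8 (p := p) ((hfix _).1 (he.symm.trans (congrArg _ ((hfix 2).2 rfl))))
    exact ⟨a, congrArg E.ψ ha⟩
  fus := by
    intro h
    rw [MonoidHom.comp_apply, MonoidHom.comp_apply, i8_facts.1] at h
    exact E.not_fused i8_facts.2.2 i8_facts.2.1 basics9.2.2.2.2.2.1 moved9.2.2.2.2.1 h.symm

include E in
/-- The group is alternating of degree nine. -/
theorem equiv_nine : Nonempty (G ≃* alternatingGroup (Fin 9)) := by
  refine E.emb8.classify.resolve_left ?_
  rintro ⟨e⟩
  have h1 : Nat.card Model ∣ Nat.card G := card_dvd_of_injective F.φ F.inj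
  rw [Nat.card_eq_fintype_card, card_model, Nat.card_congr e.toEquiv, nat_card_alternatingGroup,
    Nat.card_fin] at h1
  revert h1
  decide +kernel

end NineEmb

/-- The recognition theorem. -/
theorem Frame.recognised {G : Type u} [Group G] [Finite G] (F : Frame G) :
    F.φ.range = ⊤ ∨ Nonempty (G ≃* alternatingGroup (Fin 9)) := by
  rcases F.cent_rotA_cases with h | ⟨⟨B⟩⟩
  · exact Or.inl (F.range_eq_top h)
  · obtain ⟨Z⟩ := B.exists_nOne
    obtain ⟨E⟩ := Z.exists_nineEmb
    exact Or.inr E.equiv_nine

end Cfsg.Lib.NineThree
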