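import Cfsg.Agent.Lib.Recog.ThreeCubedFour.Setting
import Cfsg.Agent.Lib.Core.Cores
import Mathlib.GroupTheory.Sylow

/-!
# A subgroup `3^3 : S4` that is the normaliser of its subgroup of order 27
-/

set_option autoImplicit false
set_option linter.unusedSectionVars false
set_option linter.style.haveILetI false
set_option maxRecDepth 100000
set_option synthInstance.maxSize 2000
set_option synthInstance.maxHeartbeats 200000

namespace Cfsg.Lib.NineThree

open Cfsg.Lib.Recog.ThreeCubedFour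
open scoped Pointwise

universe u

/-- A model subgroup `3^3 : S4` equal to the normaliser of its subgroup of order 27, whose nonidentity
elements have centralisers without normal subgroups of order prime to three. -/
structure Frame (G : Type u) [Group G] where
  /-- the embedding -/
  φ : Model →* G
  inj : Function.Injective φ
  norm : ∀ g : G, (∀ x : Model, InBase x → g * φ x * g⁻¹ ∈ baseSub.map φ) → g ∈ φ.range
  core : ∀ x : Model, InBase x → x ≠ 1 →
    Cfsg.pPrimeCore 3 ↥(Subgroup.centralizer ({φ x} : Set G)) = ⊥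

/-- The elements of the Sylow 3-subgroup. -/
def InSyl (x : Model) : Prop :=
  odd x.1.p = false ∧ odd x.1.a = false ∧ odd x.1.b = false ∧ odd x.1.c = false

instance inSylDec : DecidablePred InSyl := fun x =>
  inferInstanceAs (Decidable (odd x.1.p = false ∧ odd x.1.a = false ∧ odd x.1.b = false ∧ odd x.1.c = false))

theorem inSyl_iff : ∀ x : Model, InSyl x ↔ odd x.1.p = false ∧ ∀ j, odd (x.1.comp j) = false := by
  intro x
  constructor
  · rintro ⟨h, ha, hb, hc⟩
    exact ⟨h, fun j => by fin_cases j <;> assumption⟩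
  · rintro ⟨h, hj⟩
    exact ⟨h, hj 0, hj 1, hj 2⟩

/-- The Sylow 3-subgroup. -/
def sylSub : Subgroup Model where
  carrier := {x | InSyl x}
  one_mem' := by decide
  mul_mem' := fun {x y} hx hy => by
    rw [Set.mem_ofPred_eq, inSyl_iff] at *
    refine ⟨?_, fun j => ?_⟩
    · show odd (mulTab x.1.p y.1.p) = false
      rw [odd_mul, hx.1, hy.1]; rfl
    · show odd ((x.1 * y.1).comp j) = false
      rw [Wr.comp_mul, odd_mul, hx.2, hy.2]; rfl
  inv_mem' := fun {x} hx => by
    rw [Set.mem_ofPred_eq, inSyl_iff] at *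
    have hodd : ∀ a, odd (invTab a) = odd a := by decide
    refine ⟨?_, fun j => ?_⟩
    · show odd (invTab x.1.p) = false
      rw [hodd, hx.1]
    · show odd (x.1⁻¹.comp j) = false
      rw [Wr.comp_inv, hodd, hx.2]

theorem mem_sylSub {x : Model} : x ∈ sylSub ↔ InSyl x := Iff.rfl

theorem base_le_syl : baseSub ≤ sylSub := by
  rintro x ⟨hp, ha, hb, hc⟩
  refine ⟨?_, ha, hb, hc⟩
  rw [show x.1.p = 0 from hp]; rfl

theorem inSyl_nine : ∀ x : Model, InSyl x → nine x = 1 := by decide +kernel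

theorem card_inBase : (Finset.univ.filter fun x : Model => InBase x).card = 27 := by decide +kernel

theorem card_baseSub : Nat.card baseSub = 27 := by
  rw [Nat.card_congr (show baseSub ≃ {x : Model // InBase x} from Equiv.refl _),
    Nat.card_eq_fintype_card, Fintype.card_subtype]
  exact card_inBase

theorem inBase_commute : ∀ x y : Model, InBase x → InBase y → x * y = y * x := by
  intro x y hx hy
  refine Subtype.ext (Wr.ext_comp ?_ fun j => ?_)
  · show mulTab x.1.p y.1.p = mulTab y.1.p x.1.p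
    rw [show x.1.p = 0 from hx.1, show y.1.p = 0 from hy.1]
  · show (x.1 * y.1).comp j = (y.1 * x.1).comp j
    rw [inBase_iff_comp] at hx hy
    have h0 : ∀ i, tab 0 i = i := by decide
    have hc : ∀ a b, odd a = false → odd b = false → mulTab a b = mulTab b a := by decide
    rw [Wr.comp_mul, Wr.comp_mul, hx.1, hy.1, h0]
    exact hc _ _ (hx.2 j) (hy.2 j)

theorem base_normal (x g : Model) (hx : InBase x) : InBase (g * x * g⁻¹) :=
  baseSub_normal.conj_mem x hx g

namespace Frame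

variable {G : Type u} [Group G] (F : Frame G)

/-- The subgroup of order 27. -/
abbrev J : Subgroup G := baseSub.map F.φ

/-- The Sylow 3-subgroup. -/
abbrev P : Subgroup G := sylSub.map F.φ

theorem mem_H (x : Model) : F.φ x ∈ F.φ.range := ⟨x, rfl⟩

theorem mem_J {x : Model} : F.φ x ∈ F.J ↔ InBase x :=
  (Subgroup.mem_map_iff_mem F.inj).trans Iff.rfl

theorem mem_P {x : Model} : F.φ x ∈ F.P ↔ InSyl x :=
  (Subgroup.mem_map_iff_mem F.inj).trans Iff.rfl

theorem J_le_P : F.J ≤ F.P := Subgroup.map_mono base_le_syl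

theorem P_le_H : F.P ≤ F.φ.range := Subgroup.map_le_range _ _

theorem mem_cent {x y : Model} :
    F.φ y ∈ Subgroup.centralizer ({F.φ x} : Set G) ↔ y * x = x * y := by
  rw [Subgroup.mem_centralizer_singleton_iff, ← map_mul, ← map_mul]
  exact ⟨fun h => F.inj h, fun h => congrArg F.φ h⟩

theorem J_le_cent {x : Model} (hx : InBase x) : F.J ≤ Subgroup.centralizer ({F.φ x} : Set G) := by
  rintro _ ⟨y, hy, rfl⟩
  exact F.mem_cent.2 (inBase_commute y x hy hx)

theorem card_J : Nat.card F.J = 27 := by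
  rw [Subgroup.card_map_of_injective F.inj, card_baseSub]

theorem P_isPGroup : IsPGroup 3 F.P := by
  rintro ⟨_, x, hx, rfl⟩
  refine ⟨2, Subtype.ext ?_⟩
  show F.φ x ^ 3 ^ 2 = 1
  rw [← map_pow, show (3 : ℕ) ^ 2 = 9 by norm_num, ← nine_eq, inSyl_nine x hx, map_one]

/-- An element carrying the subgroup of order 27 into the model subgroup lies in the model subgroup. -/
theorem mem_of_conj_le {g : G} (h : ∀ x : Model, InBase x → g * F.φ x * g⁻¹ ∈ F.φ.range) :
    g ∈ F.φ.range := by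
  classical
  refine F.norm g fun x hx => ?_
  choose ι hι using h
  have hx' := hι x hx
  rw [← hx', F.mem_J]
  by_contra hb
  have hw3 : ι x hx ^ 3 = 1 := by
    refine F.inj ?_
    rw [map_pow, hι x hx, map_one, conj_pow, ← map_pow, inBase_cube x hx, map_one, mul_one,
      mul_inv_cancel]
  have hsmall := base_of_large _ hw3 hb
  let f : {m : Model // InBase m} → {z : Model // z * ι x hx = ι x hx * z} := fun m =>
    ⟨ι m.1 m.2, F.inj (by
      rw [map_mul, map_mul, hι m.1 m.2, hι x hx]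
      calc g * F.φ m.1 * g⁻¹ * (g * F.φ x * g⁻¹) = g * (F.φ m.1 * F.φ x) * g⁻¹ := by group
        _ = g * (F.φ x * F.φ m.1) * g⁻¹ := by rw [← map_mul, inBase_commute m.1 x m.2 hx, map_mul]
        _ = _ := by group)⟩
  have hf : Function.Injective f := by
    intro a b hab
    have h1 := congrArg (fun z : {z : Model // z * ι x hx = ι x hx * z} => F.φ z.1) hab
    simp only [f, hι] at h1
    exact Subtype.ext (F.inj (mul_left_cancel (mul_right_cancel h1)))
  have hle := Fintype.card_le_of_injective f hf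
  rw [Fintype.card_subtype, Fintype.card_subtype, card_inBase] at hle
  omega

variable [Finite G]

/-- A subgroup between the subgroup of order 27 and the model subgroup is Sylow where its normaliser
allows nothing more. -/
theorem exists_sylow (X : Subgroup G) (S : Subgroup Model) (hS : S ≤ sylSub) (hJS : baseSub ≤ S)
    (hSX : S.map F.φ ≤ X)
    (hmax : ∀ y : Model, nine y = 1 → F.φ y ∈ X → (∀ s ∈ S, y * s * y⁻¹ ∈ S) → y ∈ S) :
    ∃ Q : Sylow 3 X, (Q : Subgroup X) = (S.map F.φ).subgroupOf X := by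
  classical
  set R := (S.map F.φ).subgroupOf X
  have hR : IsPGroup 3 R := by
    intro r
    obtain ⟨k, hk⟩ := F.P_isPGroup ⟨((r : X) : G), Subgroup.map_mono hS r.2⟩
    exact ⟨k, Subtype.ext (Subtype.ext (by simpa using congrArg Subtype.val hk))⟩
  obtain ⟨Q, hQ⟩ := hR.exists_le_sylow
  refine ⟨Q, le_antisymm ?_ hQ⟩
  by_contra hle
  haveI : Fact (Nat.Prime 3) := ⟨Nat.prime_three⟩
  haveI : Group.IsNilpotent (Q : Subgroup X) := Q.isPGroup'.isNilpotent
  have hlt : R.subgroupOf (Q : Subgroup X) < ⊤ := by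
    rw [lt_top_iff_ne_top, Ne, Subgroup.subgroupOf_eq_top]
    exact hle
  have hgrow := normalizerCondition_of_isNilpotent (R.subgroupOf (Q : Subgroup X)) hlt
  obtain ⟨n, hn, hnR⟩ := SetLike.exists_of_lt hgrow
  have hnorm : ∀ s ∈ S, ((n : X) : G) * F.φ s * ((n : X) : G)⁻¹ ∈ S.map F.φ := by
    intro s hs
    have hsX : F.φ s ∈ X := hSX ⟨s, hs, rfl⟩
    have hsR : (⟨F.φ s, hsX⟩ : X) ∈ R := ⟨s, hs, rfl⟩
    exact (Subgroup.mem_normalizer_iff.1 hn ⟨⟨F.φ s, hsX⟩, hQ hsR⟩).1 hsR
  obtain ⟨y, hy⟩ := F.mem_of_conj_le (g := ((n : X) : G))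
    fun x hx => (Subgroup.map_le_range _ _) (hnorm x (hJS hx))
  obtain ⟨k, hk⟩ := Q.isPGroup' n
  refine hnR (show ((n : X) : G) ∈ S.map F.φ from hy ▸ Subgroup.mem_map_of_mem _ (hmax y ?_ ?_ ?_))
  · refine pow_of_three (k := k) (F.inj ?_)
    rw [map_pow, hy, map_one]
    simpa using congrArg (fun z : (Q : Subgroup X) => ((z : X) : G)) hk
  · rw [hy]; exact (n : X).2
  · intro s hs
    obtain ⟨t, ht, e⟩ := hnorm s hs
    rw [← hy, ← map_inv, ← map_mul, ← map_mul] at e
    rwa [← F.inj e]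

theorem sylow_max : ∀ y : Model, nine y = 1 →
    (∀ s ∈ [rotA, rotB, rotC, blkCyc], InSyl (y * s * y⁻¹)) → InSyl y := by
  decide +kernel

/-- The image of `sylSub` is a Sylow subgroup. -/
theorem exists_sylow_P : ∃ Q : Sylow 3 G, (Q : Subgroup G) = F.P := by
  obtain ⟨Q, hQ⟩ := F.exists_sylow ⊤ sylSub le_rfl base_le_syl le_top fun y h9 _ h => by
    refine sylow_max y h9 fun s hs => h s ?_
    have : ∀ s ∈ [rotA, rotB, rotC, blkCyc], InSyl s := by decide +kernel
    exact this s hs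
  obtain ⟨R, hR⟩ := (F.P_isPGroup).exists_le_sylow
  refine ⟨R, le_antisymm ?_ hR⟩
  have hmax := Q.3 (R.isPGroup'.comap_subtype (K := (⊤ : Subgroup G))) (by
    rw [hQ]; exact fun z hz => hR hz)
  intro r hr
  have : (⟨r, Subgroup.mem_top r⟩ : (⊤ : Subgroup G)) ∈ (Q : Subgroup (⊤ : Subgroup G)) := hmax ▸ hr
  rw [hQ] at this
  exact this

/-- Two conjugates of the subgroup of order 27 in one 3-group differ by an element of the model. -/
theorem mem_of_common {S : Subgroup G} (hS : IsPGroup 3 S) (hJ : F.J ≤ S) {g : G}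
    (hg : ∀ x : Model, InBase x → g * F.φ x * g⁻¹ ∈ S) : g ∈ F.φ.range := by
  haveI : Fact (Nat.Prime 3) := ⟨Nat.prime_three⟩
  obtain ⟨Q, hQ⟩ := F.exists_sylow_P
  obtain ⟨R, hR⟩ := hS.exists_le_sylow
  obtain ⟨k, hk⟩ := MulAction.exists_smul_eq G Q R
  have hmem : ∀ z ∈ S, k⁻¹ * z * k ∈ F.φ.range := by
    intro z hz
    have h1 : z ∈ MulAut.conj k • (Q : Subgroup G) := by rw [← Sylow.coe_subgroup_smul, hk]; exact hR hz
    rw [Subgroup.mem_pointwise_smul_iff_inv_smul_mem, hQ] at h1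
    exact F.P_le_H (by simpa [MulAut.smul_def] using h1)
  have h1 : k⁻¹ ∈ F.φ.range := F.mem_of_conj_le fun x hx => by
    rw [inv_inv]; exact hmem _ (hJ (F.mem_J.2 hx))
  have h2 : k⁻¹ * g ∈ F.φ.range := F.mem_of_conj_le fun x hx => by
    rw [show k⁻¹ * g * F.φ x * (k⁻¹ * g)⁻¹ = k⁻¹ * (g * F.φ x * g⁻¹) * k by group]
    exact hmem _ (hg x hx)
  simpa using mul_mem (inv_mem h1) h2

/-- Fusion in the subgroup of order 27 is controlled by the model subgroup. -/
theorem fusion {g : G} {x y : Model} (hx : InBase x) (hy : InBase y)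
    (h : g * F.φ x * g⁻¹ = F.φ y) :
    ∃ c ∈ Subgroup.centralizer ({F.φ y} : Set G), ∃ m : Model, g = c * F.φ m ∧ m * x * m⁻¹ = y := by
  classical
  haveI : Fact (Nat.Prime 3) := ⟨Nat.prime_three⟩
  set X := Subgroup.centralizer ({F.φ y} : Set G) with hX
  set A := F.J.map (MulAut.conj g).toMonoidHom
  have hJp : IsPGroup 3 F.J := F.P_isPGroup.to_le F.J_le_P
  have hAX : A ≤ X := by
    rintro _ ⟨_, ⟨z, hz, rfl⟩, rfl⟩
    rw [hX, Subgroup.mem_centralizer_singleton_iff, ← h]
    show g * F.φ z * g⁻¹ * (g * F.φ x * g⁻¹) = g * F.φ x * g⁻¹ * (g * F.φ z * g⁻¹)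
    calc g * F.φ z * g⁻¹ * (g * F.φ x * g⁻¹) = g * (F.φ z * F.φ x) * g⁻¹ := by group
      _ = g * (F.φ x * F.φ z) * g⁻¹ := by rw [← map_mul, inBase_commute z x hz hx, map_mul]
      _ = _ := by group
  obtain ⟨S, hS⟩ := (hJp.comap_subtype (K := X)).exists_le_sylow
  obtain ⟨T, hT⟩ := ((hJp.map (MulAut.conj g).toMonoidHom).comap_subtype (K := X)).exists_le_sylow
  obtain ⟨k, hk⟩ := MulAction.exists_smul_eq X T S
  have hkg : (k : G) * g ∈ F.φ.range := by
    refine F.mem_of_common (S := (S : Subgroup X).map X.subtype) (S.isPGroup'.map _) ?_ ?_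
    · intro z hz
      exact ⟨⟨z, F.J_le_cent hy hz⟩, hS hz, rfl⟩
    · intro z hz
      have hzA : g * F.φ z * g⁻¹ ∈ A := ⟨F.φ z, F.mem_J.2 hz, rfl⟩
      refine ⟨k * ⟨_, hAX hzA⟩ * k⁻¹, ?_, by simp [mul_assoc]⟩
      rw [← hk]
      exact Subgroup.mem_map.mpr ⟨_, hT (show (⟨_, hAX hzA⟩ : X) ∈ A.comap X.subtype from hzA), rfl⟩
  obtain ⟨m, hm⟩ := hkg
  refine ⟨(k : G)⁻¹, inv_mem k.2, m, by rw [hm, inv_mul_cancel_left], F.inj ?_⟩
  rw [map_mul, map_mul, map_inv, hm]
  have hc : (k : G) * F.φ y = F.φ y * k := Subgroup.mem_centralizer_singleton_iff.1 k.2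
  calc (k : G) * g * F.φ x * ((k : G) * g)⁻¹ = (k : G) * (g * F.φ x * g⁻¹) * (k : G)⁻¹ := by group
    _ = F.φ y := by rw [h, hc, mul_inv_cancel_right]

end Frame

end Cfsg.Lib.NineThree
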