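import Cfsg.Agent.Lib.NineThree.CentB
import Cfsg.Agent.Lib.NineThree.CentAModel
import Cfsg.Agent.S3341
import Cfsg.Agent.S0051

/-!
# The centraliser of a three-cycle: inside the model, or three times the alternating group of degree six
-/

set_option autoImplicit false
set_option linter.unusedSectionVars false
set_option linter.style.haveILetI false
set_option maxHeartbeats 1000000
set_option synthInstance.maxSize 2000
set_option synthInstance.maxHeartbeats 200000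

namespace Cfsg.Lib.NineThree

open Cfsg.Lib.Recog.ThreeCubedFour Subgroup Equiv
open scoped Pointwise

universe u

/-- The centraliser of the three-cycle is the product with a copy of the alternating group of
degree six. -/
structure Big {G : Type u} [Group G] (F : Frame G) where
  /-- the complement -/
  L : Subgroup G
  /-- the identification -/
  θ : L →* Perm (Fin 6)
  θ_inj : Function.Injective θ
  θ_range : θ.range = alternatingGroup (Fin 6)
  L_le : L ≤ centralizer ({F.φ rotA} : Set G)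
  disjoint : ∀ x ∈ L, x ∈ zpowers (F.φ rotA) → x = 1
  decomp : ∀ x ∈ centralizer ({F.φ rotA} : Set G), ∃ z ∈ zpowers (F.φ rotA), ∃ l ∈ L, x = z * l

/-- A Sylow 3-subgroup of the alternating group of degree six, with an element of order four normalising it. -/
theorem altSix_three : ∃ (P0 : Subgroup (alternatingGroup (Fin 6))) (k0 : alternatingGroup (Fin 6)),
    Nat.card P0 = 9 ∧ (∀ x ∈ P0, x ^ 3 = 1) ∧ (∀ x ∈ P0, k0 * x * k0⁻¹ ∈ P0) ∧ k0 * k0 ∉ P0 := by
  set a : alternatingGroup (Fin 6) := ⟨swap 0 1 * swap 1 2, Perm.mem_alternatingGroup.2 (by decide)⟩ with ha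
  set b : alternatingGroup (Fin 6) := ⟨swap 3 4 * swap 4 5, Perm.mem_alternatingGroup.2 (by decide)⟩ with hb
  let P0 : Subgroup (alternatingGroup (Fin 6)) := centralizer {a, b}
  have hmem : ∀ x, x ∈ P0 ↔ a * x = x * a ∧ b * x = x * b := fun x => by
    show x ∈ centralizer _ ↔ _
    rw [mem_centralizer_iff]
    simp
  let k0 : alternatingGroup (Fin 6) :=
    ⟨swap 0 3 * swap 3 1 * swap 1 4 * swap 2 5, Perm.mem_alternatingGroup.2 (by decide)⟩
  refine ⟨P0, k0, ?_, fun x hx => ?_, fun x hx => (hmem _).2 ?_, fun h => ?_⟩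
  · rw [Nat.card_congr (Equiv.subtypeEquivRight hmem), Nat.card_eq_fintype_card, Fintype.card_subtype, ha, hb]
    decide +kernel
  · have h := (hmem x).1 hx
    rw [ha, hb] at h
    clear hx
    revert x
    decide +kernel
  · have h := (hmem x).1 hx
    show a * (k0 * x * k0⁻¹) = k0 * x * k0⁻¹ * a ∧ b * (k0 * x * k0⁻¹) = k0 * x * k0⁻¹ * b
    rw [ha, hb] at h ⊢
    clear hx
    revert x
    decide +kernel
  · have h := (hmem _).1 h
    rw [ha, hb] at h
    revert h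
    decide +kernel

namespace Frame

variable {G : Type u} [Group G] [Finite G] (F : Frame G)

/-- The dichotomy for the centraliser of a three-cycle. -/
theorem cent_rotA_cases : centralizer ({F.φ rotA} : Set G) ≤ F.φ.range ∨ Nonempty (Big F) := by
  classical
  haveI : Fact (Nat.Prime 3) := ⟨Nat.prime_three⟩
  haveI := F.cyc_normal rotA
  obtain ⟨hb, hb1, hB, hC⟩ := rotA_base
  set X := centralizer ({F.φ rotA} : Set G) with hX
  set Z := F.cyc rotA
  set π := QuotientGroup.mk' Z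
  obtain ⟨JX, hJX⟩ := F.exists_sylow X baseSub base_le_syl le_rfl (F.J_le_cent hb)
    fun y h9 hy _ => cent_rotA y (F.mem_cent.1 hy) h9
  set JY := JX.mapSurjective (QuotientGroup.mk'_surjective Z)
  have hJY : (JY : Subgroup (X ⧸ Z)) = (JX : Subgroup X).map π := rfl
  have hZJ : Z ≤ (JX : Subgroup X) := hJX ▸ F.cyc_le hb
  have pre : ∀ x : X, π x ∈ (JY : Subgroup (X ⧸ Z)) → (x : G) ∈ F.J := by
    intro x hx
    have h1 : x ∈ ((JX : Subgroup X).map π).comap π := hx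
    rw [comap_map_eq, QuotientGroup.ker_mk', sup_eq_left.2 hZJ, hJX] at h1
    exact h1
  have mkJ : ∀ {s : Model}, InBase s → ∀ h : F.φ s ∈ X, π ⟨F.φ s, h⟩ ∈ (JY : Subgroup (X ⧸ Z)) := by
    intro s hs h
    exact mem_map_of_mem π (hJX ▸ (F.mem_J.2 hs : F.φ s ∈ F.J))
  have hJmem : ∀ q ∈ (JY : Subgroup (X ⧸ Z)), ∃ (s : Model) (h : F.φ s ∈ X), InBase s ∧ π ⟨F.φ s, h⟩ = q := by
    intro q hq
    obtain ⟨x, hx, rfl⟩ := hq
    rw [SetLike.mem_coe, hJX] at hx
    obtain ⟨s, hs, e⟩ := hx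
    exact ⟨s, F.J_le_cent hb ⟨s, hs, rfl⟩, hs, congrArg π (Subtype.ext e)⟩
  have hcomm : IsMulCommutative (JY : Subgroup (X ⧸ Z)) := by
    refine ⟨⟨fun a b => Subtype.ext ?_⟩⟩
    obtain ⟨s, hs', hs, es⟩ := hJmem a a.2
    obtain ⟨t, ht', ht, et⟩ := hJmem b b.2
    show (a : X ⧸ Z) * b = b * a
    rw [← es, ← et, ← map_mul, ← map_mul]
    congr 1
    exact Subtype.ext (show F.φ s * F.φ t = F.φ t * F.φ s by rw [← map_mul, inBase_commute s t hs ht, map_mul])
  haveI := hcomm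
  have hπ1 : ∀ (s : Model) (hs : F.φ s ∈ X), s ∈ [1, rotA, rotA * rotA] → π ⟨F.φ s, hs⟩ = 1 := by
    intro s hs hl
    rw [QuotientGroup.mk'_apply, QuotientGroup.eq_one_iff]
    simp only [List.mem_cons, List.not_mem_nil, or_false] at hl
    rcases hl with rfl | rfl | rfl
    · rw [show (⟨F.φ 1, hs⟩ : X) = 1 from Subtype.ext (map_one _)]; exact one_mem _
    · exact mem_zpowers _
    · rw [show (⟨F.φ (rotA * rotA), hs⟩ : X) = ⟨F.φ rotA, mem_centralizer_singleton_iff.2 rfl⟩ *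
        ⟨F.φ rotA, mem_centralizer_singleton_iff.2 rfl⟩ from Subtype.ext (map_mul _ _ _)]
      exact mul_mem (mem_zpowers _) (mem_zpowers _)
  have hπeq : ∀ (s t : Model) (hs : F.φ s ∈ X) (ht : F.φ t ∈ X),
      π ⟨F.φ s, hs⟩ = π ⟨F.φ t, ht⟩ → t⁻¹ * s ∈ [1, rotA, rotA * rotA] := by
    intro s t hs ht h
    have h1 : ((⟨F.φ t, ht⟩ : X)⁻¹ * ⟨F.φ s, hs⟩) ∈ Z := by
      rw [← QuotientGroup.eq_one_iff, ← QuotientGroup.mk'_apply, map_mul, map_inv]
      show (π ⟨F.φ t, ht⟩)⁻¹ * π ⟨F.φ s, hs⟩ = 1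
      rw [h, inv_mul_cancel]
    have hmem : F.φ (t⁻¹ * s) ∈ X := by rw [map_mul, map_inv]; exact mul_mem (inv_mem ht) hs
    refine F.cyc_list hb hmem ?_
    rw [show (⟨F.φ (t⁻¹ * s), hmem⟩ : X) = (⟨F.φ t, ht⟩ : X)⁻¹ * ⟨F.φ s, hs⟩ from
      Subtype.ext (by simp [map_mul, map_inv])]
    exact h1
  have normH : ∀ x : X, π x ∈ normalizer ((JY : Subgroup (X ⧸ Z)) : Set (X ⧸ Z)) → (x : G) ∈ F.φ.range := by
    intro x hx
    refine F.norm _ fun s hs => ?_
    have h := (mem_normalizer_iff.1 hx (π ⟨F.φ s, F.J_le_cent hb (F.mem_J.2 hs)⟩)).1 (mkJ hs _)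
    rw [← map_inv, ← map_mul, ← map_mul] at h
    exact pre _ h
  have nontriv : ∀ (s : Model) (h : F.φ s ∈ X), π ⟨F.φ s, h⟩ ≠ 1 → s ∉ [1, rotA, rotA * rotA] :=
    fun s h hne hl => hne (hπ1 s h hl)
  -- the centralisers of the nontrivial elements
  have hcent : ∀ y ∈ (JY : Subgroup (X ⧸ Z)), y ≠ 1 →
      centralizer ({y} : Set (X ⧸ Z)) = (JY : Subgroup (X ⧸ Z)) := by
    intro y hy hy1
    refine le_antisymm (fun q hq => ?_) (fun q hq => ?_)
    · obtain ⟨s, hs', hs, rfl⟩ := hJmem y hy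
      obtain ⟨i, j, k, rfl⟩ := (inBase_iff s).1 hs
      obtain ⟨z, hz, g, hg⟩ := coset_cubB i j k (nontriv _ hs' hy1)
      set s := rotA ^ i.val * rotB ^ j.val * rotC ^ k.val with hsdef
      have hzb : InBase z := by
        simp only [List.mem_cons, List.not_mem_nil, or_false] at hz
        rcases hz with rfl | rfl | rfl
        · exact baseSub.one_mem
        · exact hb
        · exact baseSub.mul_mem hb hb
      have hzs : InBase (z * s) := baseSub.mul_mem hzb hs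
      have hzs' := F.J_le_cent hb (F.mem_J.2 hzs)
      have e : π ⟨F.φ (z * s), hzs'⟩ = π ⟨F.φ s, hs'⟩ := by
        rw [show (⟨F.φ (z * s), hzs'⟩ : X) = ⟨F.φ z, F.J_le_cent hb (F.mem_J.2 hzb)⟩ * ⟨F.φ s, hs'⟩ from
          Subtype.ext (map_mul _ _ _), map_mul, hπ1 z _ hz, one_mul]
      obtain ⟨x, rfl⟩ := QuotientGroup.mk'_surjective Z q
      have hc := mem_centralizer_singleton_iff.1 hq
      rw [← e] at hc
      -- the image of the double three-cycle
      have h1 : π (x * ⟨F.φ (z * s), hzs'⟩ * x⁻¹) = π ⟨F.φ (z * s), hzs'⟩ := by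
        rw [map_mul, map_mul, map_inv, hc, mul_inv_cancel_right]
      have hJ1 := pre _ (h1 ▸ mkJ hzs hzs')
      obtain ⟨y', hy', ey⟩ := hJ1
      obtain ⟨c, hc', m, hgm, hm⟩ := F.fusion hzs hy' ey.symm
      have hle : centralizer ({F.φ y'} : Set G) ≤ F.φ.range :=
        F.cent_conj_le F.cent_cubB_le (show m * g * cubB * (m * g)⁻¹ = y' by
          rw [← hm, ← hg]; group)
      obtain ⟨n, hn⟩ : (x : G) ∈ F.φ.range := by rw [hgm]; exact mul_mem (hle hc') (F.mem_H m)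
      have hnX : F.φ n ∈ X := hn ▸ x.2
      have hx : x = ⟨F.φ n, hnX⟩ := Subtype.ext hn.symm
      subst hx
      refine mkJ (cent_mod_rotA n (F.mem_cent.1 hnX) i j k (nontriv _ hs' hy1) ?_) hnX
      have h2 : π (⟨F.φ n, hnX⟩ * ⟨F.φ s, hs'⟩ * (⟨F.φ n, hnX⟩ : X)⁻¹) = π ⟨F.φ s, hs'⟩ := by
        rw [map_mul, map_mul, map_inv, mem_centralizer_singleton_iff.1 hq, mul_inv_cancel_right]
      have hmem : F.φ (n * s * n⁻¹) ∈ X := F.J_le_cent hb (F.mem_J.2 (base_normal s n hs))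
      rw [show (⟨F.φ n, hnX⟩ : X) * ⟨F.φ s, hs'⟩ * (⟨F.φ n, hnX⟩ : X)⁻¹ = ⟨_, hmem⟩ from
        Subtype.ext (by simp [map_mul, map_inv])] at h2
      have h3 := hπeq _ _ hmem hs' h2
      rwa [inBase_commute _ _ (baseSub.inv_mem hs) (base_normal s n hs)] at h3
    · rw [mem_centralizer_singleton_iff]
      exact congrArg Subtype.val (mul_comm' (⟨q, hq⟩ : (JY : Subgroup (X ⧸ Z))) ⟨y, hy⟩)
  by_cases hnormal : (JY : Subgroup (X ⧸ Z)).Normal
  · exact Or.inl fun g hg => normH ⟨g, hg⟩ (by rw [normalizer_eq_top_iff.2 hnormal]; exact mem_top _)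
  right
  have hcore := core_quotient_bot Z (F.cyc_central rotA) (F.cyc_isPGroup hb) (F.core rotA hb hb1)
  have hkX : F.φ kA ∈ X := F.mem_cent.2 kA_facts.1
  have hJgen : ∀ q ∈ (JY : Subgroup (X ⧸ Z)), ∀ R : Subgroup (X ⧸ Z),
      π ⟨F.φ rotB, F.J_le_cent hb (F.mem_J.2 hB)⟩ ∈ R →
      π ⟨F.φ rotC, F.J_le_cent hb (F.mem_J.2 hC)⟩ ∈ R → q ∈ R := by
    intro q hq R h1 h2
    obtain ⟨s, hs', hs, rfl⟩ := hJmem q hq
    obtain ⟨i, j, k, rfl⟩ := (inBase_iff s).1 hs
    rw [show (⟨F.φ (rotA ^ i.val * rotB ^ j.val * rotC ^ k.val), hs'⟩ : X) =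
      ⟨F.φ rotA, mem_centralizer_singleton_iff.2 rfl⟩ ^ i.val *
        ⟨F.φ rotB, F.J_le_cent hb (F.mem_J.2 hB)⟩ ^ j.val *
        ⟨F.φ rotC, F.J_le_cent hb (F.mem_J.2 hC)⟩ ^ k.val from
      Subtype.ext (by simp [map_mul, map_pow]), map_mul, map_mul, map_pow, map_pow, map_pow,
      hπ1 rotA _ (by simp), one_pow, one_mul]
    exact mul_mem (pow_mem h1 _) (pow_mem h2 _)
  -- the base is irreducible
  have hirr : ∀ R : Subgroup (X ⧸ Z), (∀ r ∈ R, π ⟨F.φ kA, hkX⟩ * r * (π ⟨F.φ kA, hkX⟩)⁻¹ ∈ R) →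
      (∃ y ∈ (JY : Subgroup (X ⧸ Z)), y ∈ R ∧ y ≠ 1) → (JY : Subgroup (X ⧸ Z)) ≤ R := by
    intro R hR hex q hq
    obtain ⟨y, hy, hyR, hy1⟩ := hex
    obtain ⟨s, hs', hs, rfl⟩ := hJmem y hy
    obtain ⟨i, j, k, rfl⟩ := (inBase_iff s).1 hs
    set s := rotA ^ i.val * rotB ^ j.val * rotC ^ k.val with hsdef
    have key : ∀ t ∈ [rotB, rotC], ∀ ht : F.φ t ∈ X, π ⟨F.φ t, ht⟩ ∈ R := by
      intro t htl ht
      obtain ⟨p, r, z, hz, e⟩ := irreducible_mod_rotA i j k (nontriv _ hs' hy1) t htl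
      have hzX : F.φ z ∈ X := by
        simp only [List.mem_cons, List.not_mem_nil, or_false] at hz
        rcases hz with rfl | rfl | rfl
        · rw [map_one]; exact one_mem _
        · exact mem_centralizer_singleton_iff.2 rfl
        · rw [map_mul]; exact mul_mem (mem_centralizer_singleton_iff.2 rfl) (mem_centralizer_singleton_iff.2 rfl)
      rw [show (⟨F.φ t, ht⟩ : X) = ⟨F.φ z, hzX⟩ * ((⟨F.φ s, hs'⟩ : X) ^ p.val *
        (⟨F.φ kA, hkX⟩ * ⟨F.φ s, hs'⟩ * (⟨F.φ kA, hkX⟩ : X)⁻¹) ^ r.val) from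
        Subtype.ext (by simp [e, hsdef, map_mul, map_pow, map_inv]), map_mul π, hπ1 z hzX hz, one_mul,
        map_mul π, map_pow π, map_pow π, map_mul π, map_mul π, map_inv π]
      exact mul_mem (pow_mem hyR _) (pow_mem (hR _ hyR) _)
    exact hJgen q hq R (key _ (by simp) _) (key _ (by simp) _)
  have hZY : Nontrivial (X ⧸ Z) := by
    refine ⟨⟨π ⟨F.φ rotB, F.J_le_cent hb (F.mem_J.2 hB)⟩, 1, fun h => ?_⟩⟩
    have := hπeq rotB 1 (F.J_le_cent hb (F.mem_J.2 hB)) (by rw [map_one]; exact one_mem _) (by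
      rw [h, show (⟨F.φ 1, by rw [map_one]; exact one_mem _⟩ : X) = 1 from Subtype.ext (map_one _), map_one])
    revert this
    decide +kernel
  obtain ⟨N, -, ⟨hNn, hN1⟩, hNmin⟩ := exists_minimal_le_of_wellFoundedLT
    (fun M : Subgroup (X ⧸ Z) => M.Normal ∧ M ≠ ⊥) ⊤ ⟨inferInstance, top_ne_bot⟩
  haveI := hNn
  have hdvd : 3 ∣ Nat.card N := by
    by_contra h
    exact hN1 (le_bot_iff.1 (hcore ▸ Core.le_pPrimeCore' hNn
      ((Nat.Prime.coprime_iff_not_dvd Nat.prime_three).2 h).symm))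
  -- elements of order three can be moved into the base
  have intoJ : ∀ x : X ⧸ Z, orderOf x = 3 → ∃ g : X ⧸ Z, g * x * g⁻¹ ∈ (JY : Subgroup (X ⧸ Z)) := by
    intro x hx
    have hp : IsPGroup 3 (zpowers x) := IsPGroup.of_card (n := 1) (by rw [Nat.card_zpowers, hx, pow_one])
    obtain ⟨Q, hQ⟩ := hp.exists_le_sylow
    obtain ⟨g, hg⟩ := MulAction.exists_smul_eq (X ⧸ Z) Q JY
    exact ⟨g, hg ▸ ⟨x, hQ (mem_zpowers x), rfl⟩⟩
  have hJN : (JY : Subgroup (X ⧸ Z)) ≤ N := by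
    refine hirr N (fun r hr => hNn.conj_mem r hr _) ?_
    obtain ⟨x, hx⟩ := exists_prime_orderOf_dvd_card' 3 hdvd
    obtain ⟨g, hg⟩ := intoJ x (by rw [orderOf_coe, hx])
    refine ⟨_, hg, hNn.conj_mem _ x.2 g, fun h => ?_⟩
    rw [mul_inv_eq_one, mul_eq_left] at h
    rw [← orderOf_coe, h, orderOf_one] at hx
    norm_num at hx
  set Q := JY.subtype hJN with hQdef
  have hQ : (Q : Subgroup N) = (JY : Subgroup (X ⧸ Z)).subgroupOf N := rfl
  -- a normal subgroup of `N` meets the base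
  have meet : ∀ M : Subgroup N, M.Normal → M ≠ ⊥ → ∃ y : N, y ∈ M ∧ (y : X ⧸ Z) ∈ (JY : Subgroup (X ⧸ Z)) ∧ y ≠ 1 := by
    intro M hMn hM
    have h3 : 3 ∣ Nat.card M := by
      by_contra h
      refine hM ?_
      have hle := Core.le_pPrimeCore' hMn ((Nat.Prime.coprime_iff_not_dvd Nat.prime_three).2 h).symm
      have h2 := Core.pPrimeCore_map_le_of_normal (p := 3) (H := N) (K := ⊤) le_top inferInstance
      have h4 : (Cfsg.pPrimeCore 3 (⊤ : Subgroup (X ⧸ Z))).map (⊤ : Subgroup (X ⧸ Z)).subtype = ⊥ := by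
        have := Core.map_pPrimeCore_equiv (p := 3) (Subgroup.topEquiv (G := X ⧸ Z))
        rw [hcore] at this
        exact this
      rw [h4, le_bot_iff, Subgroup.map_eq_bot_iff_of_injective _ N.subtype_injective] at h2
      rw [h2, le_bot_iff] at hle
      exact hle
    obtain ⟨x, hx⟩ := exists_prime_orderOf_dvd_card' 3 h3
    have hp : IsPGroup 3 (zpowers (x : N)) :=
      IsPGroup.of_card (n := 1) (by rw [Nat.card_zpowers, orderOf_coe, hx, pow_one])
    obtain ⟨R, hR⟩ := hp.exists_le_sylow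
    obtain ⟨g, hg⟩ := MulAction.exists_smul_eq N R Q
    refine ⟨g * x * g⁻¹, hMn.conj_mem _ x.2 g, ?_, fun h => ?_⟩
    · have : g * (x : N) * g⁻¹ ∈ (Q : Subgroup N) := hg ▸ ⟨_, hR (mem_zpowers _), rfl⟩
      exact this
    · rw [mul_inv_eq_one, mul_eq_left] at h
      rw [← orderOf_coe, h, orderOf_one] at hx
      norm_num at hx
  have hcentN : ∀ y : N, (y : X ⧸ Z) ∈ (JY : Subgroup (X ⧸ Z)) → y ≠ 1 →
      centralizer ({y} : Set N) = (Q : Subgroup N) := by
    intro y hy hy1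
    have h := hcent y hy fun e => hy1 (Subtype.ext e)
    ext z
    rw [hQ, mem_subgroupOf, ← h, mem_centralizer_singleton_iff, mem_centralizer_singleton_iff]
    exact ⟨fun e => congrArg Subtype.val e, fun e => Subtype.ext e⟩
  -- two nontrivial normal subgroups of `N` meet
  have cross : ∀ M M' : Subgroup N, M.Normal → M'.Normal → M ≠ ⊥ → M' ≠ ⊥ → M ⊓ M' ≠ ⊥ := by
    intro M M' hMn hM'n hM hM' hbot
    obtain ⟨y, hyM, hyJ, hy1⟩ := meet M hMn hM
    have hle : M' ≤ (Q : Subgroup N) := by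
      intro x hx
      rw [← hcentN y hyJ hy1, mem_centralizer_singleton_iff]
      exact (commute_of_normal_of_disjoint M M' hMn hM'n (disjoint_iff.2 hbot) y x hyM hx).eq.symm
    have hp : IsPGroup 3 M' := Q.isPGroup'.to_le hle
    have hle2 := Core.le_pCore' hM'n hp
    have hcoreN : ((Cfsg.pCore 3 N).map N.subtype).Normal :=
      ConjAct.normal_of_characteristic_of_normal
    obtain ⟨y', hy'M, hy'J, hy'1⟩ := meet M' hM'n hM'
    have hP : IsPGroup 3 ((Cfsg.pCore 3 N).map N.subtype) := (Core.pCore_isPGroup 3 N).map _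
    have hJle : (JY : Subgroup (X ⧸ Z)) ≤ (Cfsg.pCore 3 N).map N.subtype :=
      hirr _ (fun r hr => hcoreN.conj_mem r hr _)
        ⟨y', hy'J, mem_map_of_mem _ (hle2 hy'M), fun e => hy'1 (Subtype.ext e)⟩
    exact hnormal (JY.3 hP hJle ▸ hcoreN)
  haveI : Nontrivial N := (Subgroup.nontrivial_iff_ne_bot N).2 hN1
  haveI hsimple : IsSimpleGroup N := by
    refine ⟨fun M hMn => ?_⟩
    by_contra hM
    push Not at hM
    obtain ⟨M₀, hM₀le, ⟨hM₀n, hM₀⟩, hmin⟩ := exists_minimal_le_of_wellFoundedLT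
      (fun T : Subgroup N => T.Normal ∧ T ≠ ⊥) M ⟨hMn, hM.1⟩
    have hnY : (M₀.map N.subtype).Normal := by
      refine ⟨fun x hx g => ?_⟩
      obtain ⟨x, hxM, rfl⟩ := hx
      let α : N ≃* N := MulAut.conjNormal g
      have hαn : (M₀.map α.toMonoidHom).Normal := hM₀n.map _ α.surjective
      have hαb : M₀.map α.toMonoidHom ≠ ⊥ := fun e =>
        hM₀ ((Subgroup.map_eq_bot_iff_of_injective _ α.injective).1 e)
      have hne := cross M₀ _ hM₀n hαn hM₀ hαb
      have hle := hmin ⟨normal_inf_normal M₀ _, hne⟩ inf_le_left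
      have hle' : M₀ ≤ M₀.map α.toMonoidHom := le_trans hle inf_le_right
      have heq : M₀.map α.toMonoidHom = M₀ :=
        (eq_of_le_of_card_ge hle' (Subgroup.card_map_of_injective α.injective).le).symm
      exact ⟨α x, by have := mem_map_of_mem α.toMonoidHom hxM; rwa [heq] at this, MulAut.conjNormal_apply _ _⟩
    have htopM : N ≤ M₀.map N.subtype := hNmin ⟨hnY, fun e =>
      hM₀ ((Subgroup.map_eq_bot_iff_of_injective _ N.subtype_injective).1 e)⟩ (map_subtype_le M₀)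
    refine hM.2 (eq_top_iff.2 fun x _ => hM₀le ?_)
    obtain ⟨x', hx', e⟩ := htopM x.2
    exact (N.subtype_injective e) ▸ hx'
  have hQcard : Nat.card (Q : Subgroup N) = 9 := by
    have h2 : Nat.card ((JY : Subgroup (X ⧸ Z)).comap π) = Nat.card (JY : Subgroup (X ⧸ Z)) * Nat.card Z := by
      rw [Core.card_comap_eq _ (QuotientGroup.mk'_surjective Z), QuotientGroup.ker_mk', mul_comm]
    rw [hJY, comap_map_eq, QuotientGroup.ker_mk', sup_eq_left.2 hZJ, hJX,
      Nat.card_congr (subgroupOfEquivOfLe (F.J_le_cent hb)).toEquiv, F.card_J] at h2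
    have h3 : Nat.card Z = 3 := by
      rw [Nat.card_zpowers]
      refine orderOf_eq_prime (Subtype.ext (F.cube_one hb)) fun e => hb1 (F.inj ?_)
      rw [map_one]; exact congrArg Subtype.val e
    rw [h3] at h2
    rw [hQ, Nat.card_congr (subgroupOfEquivOfLe hJN).toEquiv, hJY, hJX]
    omega
  have hexp : ∀ a ∈ (Q : Subgroup N), a ^ 3 = 1 := by
    intro a ha
    obtain ⟨s, hs', hs, e⟩ := hJmem a ha
    refine Subtype.ext ?_
    rw [Subgroup.coe_pow, ← e, ← map_pow, show (⟨F.φ s, hs'⟩ : X) ^ 3 = 1 from Subtype.ext (F.cube_one hs),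
      map_one]
    rfl
  have hQcomm : IsMulCommutative (Q : Subgroup N) := ⟨⟨fun a b => Subtype.ext (Subtype.ext
    (show ((a : N) : X ⧸ Z) * ((b : N) : X ⧸ Z) = (b : N) * ((a : N) : X ⧸ Z) by
      exact congrArg Subtype.val (mul_comm' (⟨((a : N) : X ⧸ Z), a.2⟩ : (JY : Subgroup (X ⧸ Z)))
        ⟨((b : N) : X ⧸ Z), b.2⟩)))⟩⟩
  have hmX : ∀ t ∈ [rotB, rotB * rotC], F.φ t ∈ X := by
    intro t ht
    refine F.J_le_cent hb (F.mem_J.2 ?_)
    simp only [List.mem_cons, List.not_mem_nil, or_false] at ht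
    rcases ht with rfl | rfl
    · exact hB
    · exact baseSub.mul_mem hB hC
  have hne : ∀ t ∈ [rotB, rotB * rotC], ∀ h : F.φ t ∈ X, InBase t → ∀ hN : π ⟨F.φ t, h⟩ ∈ N,
      orderOf (⟨π ⟨F.φ t, h⟩, hN⟩ : N) = 3 := by
    intro t ht h hbt hN
    refine orderOf_eq_prime (hexp _ (mkJ hbt h)) fun e => ?_
    have e' := congrArg Subtype.val e
    have := hπeq t 1 h (by rw [map_one]; exact one_mem _) (by
      rw [show (⟨F.φ 1, by rw [map_one]; exact one_mem _⟩ : X) = 1 from Subtype.ext (map_one _), map_one]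
      exact e')
    revert this
    simp only [List.mem_cons, List.not_mem_nil, or_false] at ht
    rcases ht with rfl | rfl <;> decide +kernel
  have hBC := baseSub.mul_mem hB hC
  obtain ⟨e6⟩ := Cfsg.Agent.S3341.result Q (Q : Subgroup N) rfl hQcomm hexp hQcard
    ⟨⟨_, hJN (mkJ hB (hmX _ (by simp)))⟩, ⟨_, hJN (mkJ hBC (hmX _ (by simp)))⟩,
      hne _ (by simp) _ hB _, hne _ (by simp) _ hBC _, fun g hg => by
        obtain ⟨x, hx⟩ := QuotientGroup.mk'_surjective Z (g : X ⧸ Z)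
        have h1 : π (x * ⟨F.φ rotB, hmX _ (by simp)⟩ * x⁻¹) = π ⟨F.φ (rotB * rotC), hmX _ (by simp)⟩ := by
          rw [map_mul, map_mul, map_inv, hx]
          exact congrArg Subtype.val hg
        obtain ⟨t, ht, et⟩ := pre _ (h1 ▸ mkJ hBC (hmX _ (by simp)))
        obtain ⟨c, -, m, -, hm⟩ := F.fusion hB ht et.symm
        have htX := F.J_le_cent hb (F.mem_J.2 ht)
        rw [show x * ⟨F.φ rotB, hmX _ (by simp)⟩ * x⁻¹ = ⟨F.φ t, htX⟩ from Subtype.ext et.symm] at h1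
        have hz := hπeq _ _ htX (hmX _ (by simp)) h1
        refine not_conj_mod_rotA m ?_
        rw [hm, inBase_commute _ _ ht (baseSub.inv_mem hBC)]
        exact hz⟩
    (fun s hs hs1 => hcentN s hs hs1)
  -- `N` is everything
  have hNtop : N = ⊤ := by
    have hk : ∃ w : N, w ∈ normalizer ((Q : Subgroup N) : Set N) ∧ w * w ∉ (Q : Subgroup N) := by
      obtain ⟨P0, k0, hP0c, hP0, hk0⟩ := altSix_three
      have hp : IsPGroup 3 (P0.map e6.symm.toMonoidHom) := by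
        rintro ⟨_, x, hx, rfl⟩
        refine ⟨1, Subtype.ext ?_⟩
        show (e6.symm x) ^ 3 ^ 1 = 1
        rw [pow_one, ← map_pow, hP0 x hx, map_one]
      obtain ⟨R, hR⟩ := hp.exists_le_sylow
      obtain ⟨g, hg⟩ := MulAction.exists_smul_eq N R Q
      have hQle : (Q : Subgroup N) = (P0.map e6.symm.toMonoidHom).map (MulAut.conj g).toMonoidHom := by
        refine (eq_of_le_of_card_ge ?_ ?_).symm
        · rintro _ ⟨x, hx, rfl⟩
          rw [← hg]
          exact ⟨x, hR hx, rfl⟩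
        · rw [hQcard, Subgroup.card_map_of_injective (MulAut.conj g).injective,
            Subgroup.card_map_of_injective e6.symm.injective]
          exact hP0c.ge
      refine ⟨g * e6.symm k0 * g⁻¹, ?_, ?_⟩
      · refine mem_normalizer_fintype fun x hx => ?_
        rw [SetLike.mem_coe, hQle] at hx ⊢
        obtain ⟨_, ⟨x, hx', rfl⟩, rfl⟩ := hx
        refine ⟨e6.symm (k0 * x * k0⁻¹), mem_map_of_mem _ (hk0.1 x hx'), ?_⟩
        simp [map_mul, map_inv, mul_assoc]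
      · intro h
        rw [hQle] at h
        obtain ⟨_, ⟨x, hx, rfl⟩, e⟩ := h
        refine hk0.2 ?_
        have e' : e6.symm x = e6.symm k0 * e6.symm k0 := by
          have e1 : g * e6.symm x * g⁻¹ = g * e6.symm k0 * g⁻¹ * (g * e6.symm k0 * g⁻¹) := e
          calc e6.symm x = g⁻¹ * (g * e6.symm x * g⁻¹) * g := by group
            _ = _ := by rw [e1]; group
        rw [← map_mul] at e'
        exact e6.symm.injective e' ▸ hx
    obtain ⟨w, hwN, hw2⟩ := hk
    obtain ⟨x, hx⟩ := QuotientGroup.mk'_surjective Z (w : X ⧸ Z)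
    have hxn : π x ∈ normalizer ((JY : Subgroup (X ⧸ Z)) : Set (X ⧸ Z)) := by
      rw [mem_normalizer_iff]
      intro q
      constructor
      · intro hq
        have := (mem_normalizer_iff.1 hwN ⟨q, hJN hq⟩).1 hq
        rw [hx]; exact this
      · intro hq
        rw [hx] at hq
        have hqN : q ∈ N := by
          have := mul_mem (mul_mem (inv_mem w.2) (hJN hq)) w.2
          rwa [show (w : X ⧸ Z)⁻¹ * ((w : X ⧸ Z) * q * (w : X ⧸ Z)⁻¹) * w = q by group] at this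
        exact (mem_normalizer_iff.1 hwN ⟨q, hqN⟩).2 hq
    obtain ⟨m, hm⟩ := normH x hxn
    have hmc : m * rotA = rotA * m := F.mem_cent.1 (hm ▸ x.2)
    have hm2 : ¬ InBase (m * m) := by
      intro h
      refine hw2 ?_
      have hmem := F.J_le_cent hb (F.mem_J.2 h)
      have := mkJ h hmem
      rw [show (⟨F.φ (m * m), hmem⟩ : X) = x * x from Subtype.ext (show F.φ (m * m) = (x : G) * x by rw [map_mul, hm]), map_mul π, hx] at this
      exact this
    have hsup := Sylow.normalizer_sup_eq_top Q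
    rw [eq_top_iff, ← hsup]
    refine sup_le ?_ le_rfl
    rw [show (Q : Subgroup N).map N.subtype = JY from by
      rw [hQ, map_subgroupOf_eq_of_le hJN]]
    intro q hq
    obtain ⟨y, rfl⟩ := QuotientGroup.mk'_surjective Z q
    obtain ⟨n, hn⟩ := normH y hq
    have hnX : F.φ n ∈ X := hn ▸ y.2
    have hmX' : F.φ m ∈ X := hm ▸ x.2
    have hyeq : y = ⟨F.φ n, hnX⟩ := Subtype.ext hn.symm
    subst hyeq
    have hxeq : x = ⟨F.φ m, hmX'⟩ := Subtype.ext hm.symm
    subst hxeq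
    have hmN : π ⟨F.φ m, hmX'⟩ ∈ N := hx ▸ w.2
    have step : ∀ (r : Model) (hr : F.φ r ∈ X), π ⟨F.φ r, hr⟩ ∈ N → InBase (n * r) → π ⟨F.φ n, hnX⟩ ∈ N := by
      intro r hr hrN hb'
      have hmem := F.J_le_cent hb (F.mem_J.2 hb')
      have := mul_mem (hJN (mkJ hb' hmem)) (inv_mem hrN)
      rwa [show (⟨F.φ (n * r), hmem⟩ : X) = ⟨F.φ n, hnX⟩ * ⟨F.φ r, hr⟩ from Subtype.ext (map_mul _ _ _),
        map_mul, mul_inv_cancel_right] at this
    have hm2X : F.φ (m * m) ∈ X := by rw [map_mul]; exact mul_mem hmX' hmX'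
    have hm2N : π ⟨F.φ (m * m), hm2X⟩ ∈ N := by
      rw [show (⟨F.φ (m * m), hm2X⟩ : X) = ⟨F.φ m, hmX'⟩ * ⟨F.φ m, hmX'⟩ from Subtype.ext (map_mul _ _ _), map_mul]
      exact mul_mem hmN hmN
    rcases gen_mod_base m hmc hm2 n (F.mem_cent.1 hnX) with h | h | h | h
    · exact hJN (mkJ h hnX)
    · exact step m hmX' hmN h
    · exact step (m * m) hm2X hm2N h
    · refine step (m * m * m) (by rw [map_mul]; exact mul_mem hm2X hmX') ?_ h
      rw [show (⟨F.φ (m * m * m), by rw [map_mul]; exact mul_mem hm2X hmX'⟩ : X) =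
        ⟨F.φ (m * m), hm2X⟩ * ⟨F.φ m, hmX'⟩ from Subtype.ext (map_mul _ _ _), map_mul]
      exact mul_mem hm2N hmN
  -- split the centre
  let A : Subgroup X := closure {(⟨F.φ rotB, F.J_le_cent hb (F.mem_J.2 hB)⟩ : X),
    ⟨F.φ rotC, F.J_le_cent hb (F.mem_J.2 hC)⟩}
  have hAJ : A ≤ (JX : Subgroup X) := by
    rw [closure_le, hJX]
    rintro x (rfl | rfl)
    · exact F.mem_J.2 hB
    · exact F.mem_J.2 hC
  have hAmem : ∀ x ∈ A, ∃ j k : Fin 3, (x : G) = F.φ (rotB ^ j.val * rotC ^ k.val) := by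
    intro x hx
    have hm : ∀ j j' k k' : Fin 3, ∃ a b : Fin 3,
        rotB ^ j.val * rotC ^ k.val * (rotB ^ j'.val * rotC ^ k'.val) = rotB ^ a.val * rotC ^ b.val := by
      decide +kernel
    have hi : ∀ j k : Fin 3, ∃ a b : Fin 3, (rotB ^ j.val * rotC ^ k.val)⁻¹ = rotB ^ a.val * rotC ^ b.val := by
      decide +kernel
    induction hx using Subgroup.closure_induction with
    | mem y hy =>
      rcases hy with rfl | rfl
      · exact ⟨1, 0, by simp⟩
      · exact ⟨0, 1, by simp⟩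
    | one => exact ⟨0, 0, by simp⟩
    | mul a b _ _ ha hb' =>
      obtain ⟨j, k, ea⟩ := ha
      obtain ⟨j', k', eb⟩ := hb'
      obtain ⟨p, q, e⟩ := hm j j' k k'
      exact ⟨p, q, by rw [Subgroup.coe_mul, ea, eb, ← map_mul, e]⟩
    | inv a _ ha =>
      obtain ⟨j, k, ea⟩ := ha
      obtain ⟨p, q, e⟩ := hi j k
      exact ⟨p, q, by rw [Subgroup.coe_inv, ea, ← map_inv, e]⟩
  have hAZ : A ⊓ Z = ⊥ := by
    rw [eq_bot_iff]
    rintro x ⟨hxA, hxZ⟩
    obtain ⟨j, k, e⟩ := hAmem x hxA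
    have hmem : F.φ (rotB ^ j.val * rotC ^ k.val) ∈ X := e ▸ x.2
    rw [show x = ⟨_, hmem⟩ from Subtype.ext e] at hxZ
    have hl := F.cyc_list hb hmem hxZ
    have h1 : rotB ^ j.val * rotC ^ k.val = 1 := by
      simp only [List.mem_cons, List.not_mem_nil, or_false] at hl
      rcases hl with h | h | h
      · exact h
      · have := base_complement 1 j k (by simpa using h)
        rw [h]; simpa using this
      · have := base_complement 2 j k (by simpa [pow_two] using h)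
        rw [h, ← pow_two]; simpa using this
    exact mem_bot.2 (Subtype.ext (by rw [e, h1, map_one]; rfl))
  have hZA : Z ⊔ A = (JX : Subgroup X) := by
    refine le_antisymm (sup_le hZJ hAJ) fun x hx => ?_
    rw [hJX] at hx
    obtain ⟨s, hs, e⟩ := hx
    obtain ⟨i, j, k, rfl⟩ := (inBase_iff s).1 hs
    rw [show x = (⟨F.φ rotA, mem_centralizer_singleton_iff.2 rfl⟩ : X) ^ i.val *
      ((⟨F.φ rotB, F.J_le_cent hb (F.mem_J.2 hB)⟩ : X) ^ j.val *
        (⟨F.φ rotC, F.J_le_cent hb (F.mem_J.2 hC)⟩ : X) ^ k.val) from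
      Subtype.ext (by
        rw [show (x : G) = F.φ (rotA ^ i.val * rotB ^ j.val * rotC ^ k.val) from e.symm]
        simp [map_mul, map_pow, mul_assoc])]
    exact mul_mem (mem_sup_left (pow_mem (mem_zpowers _) _))
      (mem_sup_right (mul_mem (pow_mem (subset_closure (by simp)) _) (pow_mem (subset_closure (by simp)) _)))
  haveI : IsMulCommutative Z := inferInstanceAs (IsMulCommutative (zpowers _))
  have hcop : (Nat.card Z).Coprime (JX : Subgroup X).index := by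
    obtain ⟨n, hn⟩ := IsPGroup.iff_card.1 (F.cyc_isPGroup hb)
    rw [hn]
    exact ((Nat.Prime.coprime_iff_not_dvd Nat.prime_three).2 JX.not_dvd_index).pow_left n
  obtain ⟨C, hC'⟩ := Cfsg.Agent.S0051.result Z (JX : Subgroup X) hZJ hcop A hAJ hAZ hZA
  let θ₀ : C →* Perm (Fin 6) := (alternatingGroup (Fin 6)).subtype.comp
    (e6.toMonoidHom.comp ((Subgroup.topEquiv.symm.trans (MulEquiv.subgroupCongr hNtop.symm)).toMonoidHom.comp
      (π.comp C.subtype)))
  have hθinj : Function.Injective θ₀ := by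
    intro a b h
    have h1 : π (a : X) = π b := by
      have h' := e6.injective (Subtype.ext h)
      simpa using congrArg Subtype.val h'
    have h2 : (a : X)⁻¹ * b ∈ Z := QuotientGroup.eq.1 h1
    have h3 : (a : X)⁻¹ * b ∈ C := mul_mem (inv_mem a.2) b.2
    have : (a : X)⁻¹ * b = 1 := (disjoint_def.1 hC'.disjoint) h2 h3
    exact Subtype.ext (inv_mul_eq_one.1 this)
  have hdec : ∀ x : X, ∃ z ∈ Z, ∃ l ∈ C, x = z * l := by
    intro x
    obtain ⟨⟨z, l⟩, e⟩ := hC'.2 x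
    exact ⟨z, z.2, l, l.2, e.symm⟩
  let ι : C.map X.subtype ≃* C := (C.equivMapOfInjective X.subtype X.subtype_injective).symm
  refine ⟨⟨C.map X.subtype, θ₀.comp ι.toMonoidHom, hθinj.comp ι.injective, ?_, map_subtype_le C, ?_, ?_⟩⟩
  · refine le_antisymm ?_ fun p hp => ?_
    · rintro _ ⟨x, rfl⟩; exact Subtype.prop _
    · obtain ⟨n, hn⟩ := e6.surjective ⟨p, hp⟩
      obtain ⟨x, hx⟩ := QuotientGroup.mk'_surjective Z (n : X ⧸ Z)
      obtain ⟨z, hz, l, hl, rfl⟩ := hdec x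
      refine ⟨ι.symm ⟨l, hl⟩, ?_⟩
      rw [map_mul, QuotientGroup.mk'_apply, (QuotientGroup.eq_one_iff z).2 hz, one_mul] at hx
      show θ₀ (ι (ι.symm ⟨l, hl⟩)) = p
      rw [ι.apply_symm_apply, show p = ((e6 n : alternatingGroup (Fin 6)) : Perm (Fin 6)) by rw [hn]]
      show ((e6 _ : alternatingGroup (Fin 6)) : Perm (Fin 6)) = _
      congr 2
      exact Subtype.ext hx
  · rintro _ ⟨x, hx, rfl⟩ hz
    obtain ⟨k, hk⟩ := hz
    have hxZ : x ∈ Z := ⟨k, Subtype.ext (by simpa using hk)⟩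
    rw [(disjoint_def.1 hC'.disjoint) hxZ hx, map_one]
  · intro g hg
    obtain ⟨z, ⟨k, hk⟩, l, hl, e⟩ := hdec ⟨g, hg⟩
    refine ⟨(z : G), ⟨k, by rw [← hk]; simp⟩, (l : G), ⟨l, hl, rfl⟩, ?_⟩
    exact congrArg Subtype.val e

end Frame

end Cfsg.Lib.NineThree
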