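import Cfsg.Agent.Lib.Core.Cores
import Cfsg.Prelude.Def_Transfer
import Mathlib.GroupTheory.SchurZassenhaus
import Mathlib.GroupTheory.Transfer

/-!
# Trivial cores modulo central subgroups, and groups without normal complement
-/

set_option autoImplicit false
set_option linter.unusedSectionVars false
set_option linter.style.haveILetI false

namespace Cfsg.Lib.NineThree

open Subgroup

universe u

variable {p : ℕ} [hp : Fact p.Prime]

include hp in
/-- A trivial `p'`-core stays trivial modulo a central `p`-subgroup. -/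
theorem core_quotient_bot {X : Type u} [Group X] [Finite X] (Z : Subgroup X) [Z.Normal]
    (hc : Z ≤ center X) (hZ : IsPGroup p Z) (hcore : Cfsg.pPrimeCore p X = ⊥) :
    Cfsg.pPrimeCore p (X ⧸ Z) = ⊥ := by
  set M := Cfsg.pPrimeCore p (X ⧸ Z)
  set K := M.comap (QuotientGroup.mk' Z) with hK
  have hZK : Z ≤ K := fun z hz => by
    rw [hK, mem_comap, QuotientGroup.mk'_apply, (QuotientGroup.eq_one_iff z).2 hz]
    exact one_mem _
  have hcardK : Nat.card K = Nat.card M * Nat.card Z := by
    rw [hK, Core.card_comap_eq _ (QuotientGroup.mk'_surjective Z), QuotientGroup.ker_mk', mul_comm]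
  obtain ⟨n, hn⟩ := IsPGroup.iff_card.1 hZ
  have hMp : (Nat.card M).Coprime p := Core.pPrimeCore_coprime p _
  have hcop : (Nat.card (Z.subgroupOf K)).Coprime (Z.subgroupOf K).index := by
    have h1 : Nat.card (Z.subgroupOf K) = Nat.card Z := Nat.card_congr (subgroupOfEquivOfLe hZK).toEquiv
    have h2 := (Z.subgroupOf K).card_mul_index
    rw [h1, hcardK, mul_comm (Nat.card M)] at h2
    rw [h1, Nat.eq_of_mul_eq_mul_left Nat.card_pos h2, hn]
    exact (hMp.symm.pow_left n)
  obtain ⟨C, hC⟩ := exists_right_complement'_of_coprime hcop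
  have hCcard : Nat.card C = Nat.card M := by
    have := hC.card_mul_card
    rw [Nat.card_congr (subgroupOfEquivOfLe hZK).toEquiv, hcardK, mul_comm (Nat.card M)] at this
    exact Nat.eq_of_mul_eq_mul_left Nat.card_pos this
  set D := C.map K.subtype with hD
  have hDcard : Nat.card D = Nat.card M := by rw [hD, card_map_of_injective K.subtype_injective, hCcard]
  haveI : K.Normal := inferInstanceAs (M.comap _).Normal
  have hDn : D.Normal := by
    refine ⟨fun d hd g => ?_⟩
    obtain ⟨c, hc', rfl⟩ := hd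
    obtain ⟨⟨⟨z, hz⟩, c'⟩, e⟩ := hC.2 (⟨g * c * g⁻¹, (inferInstance : K.Normal).conj_mem _ c.2 g⟩ : K)
    have e' : (z : X) * c' = g * c * g⁻¹ := congrArg Subtype.val e
    have hzZ : (z : X) ∈ Z := hz
    have hpow : ∀ d : C, ((d : K) : X) ^ Nat.card M = 1 := fun d => by
      rw [← hCcard, ← Subgroup.coe_pow, ← Subgroup.coe_pow, pow_card_eq_one']; rfl
    have hcomm : Commute (z : X) (c' : X) := (mem_center_iff.1 (hc hzZ) _).symm
    have hz1 : (z : X) ^ Nat.card M = 1 := by
      have h := hcomm.mul_pow (Nat.card M)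
      rw [e', conj_pow, hpow ⟨c, hc'⟩, mul_one, mul_inv_cancel, hpow c', mul_one] at h
      exact h.symm
    have hz2 : (z : X) ^ Nat.card Z = 1 := by
      have := pow_card_eq_one' (x := (⟨z, hzZ⟩ : Z))
      exact congrArg Subtype.val this
    have hz0 : (z : X) = 1 := by
      rw [← orderOf_eq_one_iff, ← Nat.dvd_one]
      have hco : (Nat.card M).Coprime (Nat.card Z) := by rw [hn]; exact hMp.pow_right n
      rw [← hco.gcd_eq_one]
      exact Nat.dvd_gcd (orderOf_dvd_of_pow_eq_one hz1) (orderOf_dvd_of_pow_eq_one hz2)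
    refine ⟨c', c'.2, ?_⟩
    show (c' : X) = g * c * g⁻¹
    rw [← e', hz0, one_mul]
  have hDle := Core.le_pPrimeCore' hDn (hDcard ▸ hMp)
  rw [hcore, le_bot_iff] at hDle
  rw [hDle, card_bot] at hDcard
  exact eq_bot_of_card_le _ hDcard.symm.le

include hp in
/-- Burnside: a normal subgroup in which the Sylow subgroup is central in its normaliser is that
Sylow subgroup, when the `p'`-core is trivial. -/
theorem eq_sylow_of_burnside {Y : Type u} [Group Y] [Finite Y] (P : Sylow p Y)
    [IsMulCommutative (P : Subgroup Y)] (K : Subgroup Y) [K.Normal] (hPK : (P : Subgroup Y) ≤ K)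
    (hK : K ⊓ normalizer ((P : Subgroup Y) : Set Y) ≤ centralizer ((P : Subgroup Y) : Set Y))
    (hcore : Cfsg.pPrimeCore p Y = ⊥) : K = P := by
  set Q := P.subtype hPK
  have hQ : (Q : Subgroup K) = (P : Subgroup Y).subgroupOf K := rfl
  have hNC : normalizer ((Q : Subgroup K) : Set K) ≤ centralizer ((Q : Subgroup K) : Set K) := by
    intro x hx
    have hxN : (x : Y) ∈ normalizer ((P : Subgroup Y) : Set Y) := by
      rw [mem_normalizer_iff]
      intro y
      constructor
      · intro hy
        exact (mem_normalizer_iff.1 hx ⟨y, hPK hy⟩).1 hy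
      · intro hy
        have hyK : y ∈ K := by
          have := mul_mem (mul_mem (inv_mem x.2) (hPK hy)) x.2
          rwa [show (x : Y)⁻¹ * ((x : Y) * y * (x : Y)⁻¹) * x = y by group] at this
        exact (mem_normalizer_iff.1 hx ⟨y, hyK⟩).2 hy
    have hxC := hK ⟨x.2, hxN⟩
    rw [mem_centralizer_iff]
    intro y hy
    exact Subtype.ext (mem_centralizer_iff.1 hxC y hy)
  set f := MonoidHom.transferSylow Q hNC with hf
  have hcompl : IsComplement' f.ker (Q : Subgroup K) := MonoidHom.ker_transferSylow_isComplement' Q hNC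
  have hker : (Nat.card f.ker).Coprime p := by
    rw [hcompl.index_eq_card.symm]
    exact ((Nat.Prime.coprime_iff_not_dvd hp.out).mpr Q.not_dvd_index).symm
  have h1 : f.ker = ⊥ := by
    have hle := Core.le_pPrimeCore' (p := p) (inferInstance : f.ker.Normal) hker
    have hn : (K.subgroupOf (⊤ : Subgroup Y)).Normal := inferInstance
    have h2 := Core.pPrimeCore_map_le_of_normal (p := p) (H := K) (K := ⊤) le_top hn
    have h3 : (Cfsg.pPrimeCore p (⊤ : Subgroup Y)).map (⊤ : Subgroup Y).subtype = ⊥ := by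
      have := Core.map_pPrimeCore_equiv (p := p) (Subgroup.topEquiv (G := Y))
      rw [hcore] at this
      exact this
    rw [h3, le_bot_iff, Subgroup.map_eq_bot_iff_of_injective _ K.subtype_injective] at h2
    rw [h2, le_bot_iff] at hle
    exact hle
  refine le_antisymm (fun k hk => ?_) hPK
  have htop : (Q : Subgroup K) = ⊤ := by
    have := hcompl.sup_eq_top
    rwa [h1, bot_sup_eq] at this
  have : (⟨k, hk⟩ : K) ∈ (Q : Subgroup K) := htop ▸ mem_top _
  exact this

include hp in
/-- If a Sylow subgroup meets `O^p` trivially and the `p'`-core is trivial then it is everything. -/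
theorem sylow_eq_top_of_residual {Y : Type u} [Group Y] [Finite Y] (P : Sylow p Y)
    (h : (P : Subgroup Y) ⊓ Cfsg.pResidual p Y = ⊥) (hcore : Cfsg.pPrimeCore p Y = ⊥) :
    (P : Subgroup Y) = ⊤ := by
  have hn : (Cfsg.pResidual p Y).Normal := by
    refine ⟨fun x hx g => ?_⟩
    unfold Cfsg.pResidual at hx ⊢
    induction hx using Subgroup.closure_induction with
    | mem y hy =>
      refine subset_closure ?_
      show Nat.Coprime (orderOf (g * y * g⁻¹)) p
      rwa [show g * y * g⁻¹ = MulAut.conj g y from rfl, MulEquiv.orderOf_eq]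
    | one => simp
    | mul a b _ _ ha hb =>
      rw [show g * (a * b) * g⁻¹ = g * a * g⁻¹ * (g * b * g⁻¹) by group]
      exact mul_mem ha hb
    | inv a _ ha =>
      rw [show g * a⁻¹ * g⁻¹ = (g * a * g⁻¹)⁻¹ by group]
      exact inv_mem ha
  haveI := hn
  have hcop : (Nat.card (Cfsg.pResidual p Y)).Coprime p := by
    rw [Nat.coprime_comm, Nat.Prime.coprime_iff_not_dvd hp.out]
    intro hd
    obtain ⟨x, hx⟩ := exists_prime_orderOf_dvd_card' p hd
    have hxp : IsPGroup p (zpowers (x : Y)) := IsPGroup.of_card (n := 1) (by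
      rw [Nat.card_zpowers, orderOf_coe, hx, pow_one])
    obtain ⟨Q, hQ⟩ := hxp.exists_le_sylow
    obtain ⟨g, rfl⟩ := MulAction.exists_smul_eq Y P Q
    have h1 : g⁻¹ * (x : Y) * g ∈ (P : Subgroup Y) := by
      obtain ⟨y, hy, e⟩ := hQ (mem_zpowers (x : Y))
      have e' : g * y * g⁻¹ = (x : Y) := e
      rw [← e', show g⁻¹ * (g * y * g⁻¹) * g = y by group]
      exact hy
    have h2 : g⁻¹ * (x : Y) * g ∈ Cfsg.pResidual p Y := by
      have := hn.conj_mem _ x.2 g⁻¹
      rwa [inv_inv] at this
    have h3 : g⁻¹ * (x : Y) * g = 1 := by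
      have : g⁻¹ * (x : Y) * g ∈ (⊥ : Subgroup Y) := h ▸ ⟨h1, h2⟩
      exact this
    have h4 : (x : Y) = 1 := by
      calc (x : Y) = g * (g⁻¹ * (x : Y) * g) * g⁻¹ := by group
        _ = 1 := by rw [h3]; group
    rw [← orderOf_coe, h4, orderOf_one] at hx
    exact hp.out.ne_one hx.symm
  have hbot : Cfsg.pResidual p Y = ⊥ := le_bot_iff.1 (hcore ▸ Core.le_pPrimeCore' hn hcop)
  have hY : IsPGroup p (⊤ : Subgroup Y) := by
    rintro ⟨y, -⟩
    obtain ⟨e, m, hpm, hem⟩ :=
      Nat.exists_eq_pow_mul_and_not_dvd (orderOf_pos y).ne' p hp.out.ne_one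
    refine ⟨e, Subtype.ext ?_⟩
    show y ^ p ^ e = 1
    have : y ^ p ^ e ∈ Cfsg.pResidual p Y := by
      refine subset_closure ?_
      show Nat.Coprime (orderOf (y ^ p ^ e)) p
      rw [orderOf_pow_of_dvd (pow_ne_zero _ hp.out.ne_zero) (hem ▸ dvd_mul_right _ _), hem,
        Nat.mul_div_cancel_left _ (pow_pos hp.out.pos _), Nat.coprime_comm,
        Nat.Prime.coprime_iff_not_dvd hp.out]
      exact hpm
    rw [hbot] at this
    exact this
  exact (P.3 hY le_top).symm

end Cfsg.Lib.NineThree
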