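import Cfsg.Agent.Lib.NineThree.CentModel
import Cfsg.Agent.Lib.NineThree.Tools
import Cfsg.Agent.Lib.SmithTyrer.Reduction

/-!
# The centraliser of a double three-cycle
-/

set_option autoImplicit false
set_option linter.unusedSectionVars false
set_option linter.style.haveILetI false
set_option maxHeartbeats 1000000
set_option synthInstance.maxSize 2000
set_option synthInstance.maxHeartbeats 200000

namespace Cfsg.Lib.NineThree

open Cfsg.Lib.Recog.ThreeCubedFour Subgroup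

universe u

namespace Frame

variable {G : Type u} [Group G] [Finite G] (F : Frame G)

theorem cube_one {x : Model} (hx : InBase x) : F.φ x ^ 3 = 1 := by
  rw [← map_pow, inBase_cube x hx, map_one]

/-- The cyclic subgroup of an element of the base, inside its centraliser. -/
abbrev cyc (x : Model) : Subgroup (centralizer ({F.φ x} : Set G)) :=
  zpowers ⟨F.φ x, mem_centralizer_singleton_iff.2 rfl⟩

theorem cyc_central (x : Model) : F.cyc x ≤ center (centralizer ({F.φ x} : Set G)) := by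
  rw [zpowers_le, mem_center_iff]
  exact fun g => Subtype.ext (mem_centralizer_singleton_iff.1 g.2)

theorem cyc_normal (x : Model) : (F.cyc x).Normal := by
  refine ⟨fun z hz g => ?_⟩
  rw [(mem_center_iff.1 (F.cyc_central x hz) g), mul_inv_cancel_right]
  exact hz

theorem cyc_isPGroup {x : Model} (hx : InBase x) : IsPGroup 3 (F.cyc x) := by
  rintro ⟨_, k, rfl⟩
  refine ⟨1, Subtype.ext (Subtype.ext ?_)⟩
  simp only [pow_one, Subgroup.coe_pow, Subgroup.coe_zpow, Subgroup.coe_one]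
  rw [← zpow_natCast, ← zpow_mul, mul_comm, zpow_mul, zpow_natCast, F.cube_one hx, one_zpow]

theorem cyc_le {x : Model} {S : Subgroup Model} (hx : x ∈ S) :
    F.cyc x ≤ (S.map F.φ).subgroupOf _ := by
  rw [zpowers_le]
  exact ⟨x, hx, rfl⟩

theorem cyc_list {x : Model} (hx : InBase x) {y : Model}
    (hy : F.φ y ∈ centralizer ({F.φ x} : Set G)) (h : (⟨F.φ y, hy⟩ : centralizer ({F.φ x} : Set G)) ∈ F.cyc x) :
    y ∈ [1, x, x * x] := by
  obtain ⟨k, hk⟩ := h
  have hk' : F.φ x ^ k = F.φ y := congrArg Subtype.val hk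
  have hmem : F.φ x ^ k ∈ zpowers (F.φ x) := ⟨k, rfl⟩
  rw [← map_zpow] at hk'
  have e := F.inj hk'
  rw [← e]
  have h3 := inBase_cube x hx
  obtain ⟨q, hq⟩ : ∃ q : ℤ, k = 3 * q + k % 3 := ⟨k / 3, (Int.mul_ediv_add_emod k 3).symm⟩
  have hr : k % 3 = 0 ∨ k % 3 = 1 ∨ k % 3 = 2 := by omega
  rw [hq, zpow_add, zpow_mul, show x ^ (3 : ℤ) = 1 by rw [show (3 : ℤ) = ((3 : ℕ) : ℤ) by rfl, zpow_natCast, h3],
    one_zpow, one_mul]
  rcases hr with e | e | e <;> rw [e]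
  · simp
  · simp
  · rw [show (2 : ℤ) = ((2 : ℕ) : ℤ) by rfl, zpow_natCast, pow_two]; simp

/-- The centraliser of `cubB` normalises the subgroup of order 27. -/
theorem cent_cubB_le : centralizer ({F.φ cubB} : Set G) ≤ F.φ.range := by
  classical
  haveI : Fact (Nat.Prime 3) := ⟨Nat.prime_three⟩
  haveI := F.cyc_normal cubB
  obtain ⟨hb, hb1, -⟩ := cubB_base
  set X := centralizer ({F.φ cubB} : Set G) with hX
  set Z := F.cyc cubB
  set π := QuotientGroup.mk' Z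
  obtain ⟨JX, hJX⟩ := F.exists_sylow X baseSub base_le_syl le_rfl (F.J_le_cent hb)
    fun y h9 hy _ => (cent_cubB y (F.mem_cent.1 hy)).1 h9
  set JY := JX.mapSurjective (QuotientGroup.mk'_surjective Z)
  have hJY : (JY : Subgroup (X ⧸ Z)) = (JX : Subgroup X).map π := rfl
  have hZJ : Z ≤ (JX : Subgroup X) := hJX ▸ F.cyc_le hb
  -- membership of preimages
  have pre : ∀ x : X, π x ∈ (JY : Subgroup (X ⧸ Z)) → (x : G) ∈ F.J := by
    intro x hx
    rw [hJY] at hx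
    have : x ∈ (JX : Subgroup X) := by
      have h1 : x ∈ ((JX : Subgroup X).map π).comap π := hx
      rwa [comap_map_eq, QuotientGroup.ker_mk', sup_eq_left.2 hZJ] at h1
    rw [hJX] at this
    exact this
  have mkJ : ∀ {s : Model}, InBase s → ∀ h : F.φ s ∈ X, π ⟨F.φ s, h⟩ ∈ (JY : Subgroup (X ⧸ Z)) := by
    intro s hs h
    rw [hJY]
    exact mem_map_of_mem π (hJX ▸ (F.mem_J.2 hs : F.φ s ∈ F.J))
  have hJmem : ∀ q ∈ (JY : Subgroup (X ⧸ Z)), ∃ (s : Model) (h : F.φ s ∈ X), InBase s ∧ π ⟨F.φ s, h⟩ = q := by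
    intro q hq
    rw [hJY] at hq
    obtain ⟨x, hx, rfl⟩ := hq
    rw [hJX] at hx
    obtain ⟨s, hs, e⟩ := hx
    exact ⟨s, F.J_le_cent hb ⟨s, hs, rfl⟩, hs, congrArg π (Subtype.ext e)⟩
  have hcomm : IsMulCommutative (JY : Subgroup (X ⧸ Z)) := by
    refine ⟨⟨fun a b => Subtype.ext ?_⟩⟩
    obtain ⟨s, hs', hs, es⟩ := hJmem a a.2
    obtain ⟨t, ht', ht, et⟩ := hJmem b b.2
    show (a : X ⧸ Z) * b = b * a
    rw [← es, ← et, ← map_mul, ← map_mul]
    congr 1
    exact Subtype.ext (show F.φ s * F.φ t = F.φ t * F.φ s by rw [← map_mul, inBase_commute s t hs ht, map_mul])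
  haveI := hcomm
  have normH : ∀ x : X, π x ∈ normalizer ((JY : Subgroup (X ⧸ Z)) : Set (X ⧸ Z)) → (x : G) ∈ F.φ.range := by
    intro x hx
    refine F.norm _ fun s hs => ?_
    have h := (mem_normalizer_iff.1 hx (π ⟨F.φ s, F.J_le_cent hb (F.mem_J.2 hs)⟩)).1 (mkJ hs _)
    rw [← map_inv, ← map_mul, ← map_mul] at h
    exact pre _ h
  -- mod cubB
  have hlist : ∀ (m s : Model) (hm : F.φ m ∈ X) (hs : F.φ s ∈ X),
      π ⟨F.φ m, hm⟩ * π ⟨F.φ s, hs⟩ = π ⟨F.φ s, hs⟩ * π ⟨F.φ m, hm⟩ →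
        m * s * m⁻¹ * s⁻¹ ∈ [1, cubB, cubB * cubB] := by
    intro m s hm hs h
    have h1 : π (⟨F.φ m, hm⟩ * ⟨F.φ s, hs⟩ * (⟨F.φ m, hm⟩ : X)⁻¹ * (⟨F.φ s, hs⟩ : X)⁻¹) = 1 := by
      rw [map_mul, map_mul, map_mul, h, map_inv, map_inv]; group
    rw [QuotientGroup.mk'_apply, QuotientGroup.eq_one_iff] at h1
    have hmem : F.φ (m * s * m⁻¹ * s⁻¹) ∈ X := by
      rw [map_mul, map_mul, map_mul, map_inv, map_inv]
      exact mul_mem (mul_mem (mul_mem hm hs) (inv_mem hm)) (inv_mem hs)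
    refine F.cyc_list hb hmem ?_
    have e : (⟨F.φ (m * s * m⁻¹ * s⁻¹), hmem⟩ : X) =
        ⟨F.φ m, hm⟩ * ⟨F.φ s, hs⟩ * (⟨F.φ m, hm⟩ : X)⁻¹ * (⟨F.φ s, hs⟩ : X)⁻¹ :=
      Subtype.ext (by simp [map_mul, map_inv])
    rw [e]; exact h1
  have inN : ∀ x : X, π x ∈ normalizer ((JY : Subgroup (X ⧸ Z)) : Set (X ⧸ Z)) →
      ∃ (m : Model) (h : F.φ m ∈ X), m * cubB = cubB * m ∧ π ⟨F.φ m, h⟩ = π x := by
    intro x hx
    obtain ⟨m, hm⟩ := normH x hx
    exact ⟨m, hm ▸ x.2, F.mem_cent.1 (hm ▸ x.2 : F.φ m ∈ X), congrArg π (Subtype.ext hm)⟩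
  have hnotC : ∀ s : Model, InBase s → s ∉ [1, cubB, cubB * cubB] → ∀ (m : Model) (hm : F.φ m ∈ X)
      (hs : F.φ s ∈ X), π ⟨F.φ m, hm⟩ * π ⟨F.φ s, hs⟩ = π ⟨F.φ s, hs⟩ * π ⟨F.φ m, hm⟩ → InBase m := by
    intro s hs hsl m hm hs' h
    obtain ⟨i, j, k, rfl⟩ := (inBase_iff s).1 hs
    exact cent_mod_cubB m (F.mem_cent.1 hm) i j k hsl (hlist m _ hm hs' h)
  have hCle : centralizer ((JY : Subgroup (X ⧸ Z)) : Set (X ⧸ Z)) ≤ (JY : Subgroup (X ⧸ Z)) := by
    intro q hq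
    obtain ⟨x, rfl⟩ := QuotientGroup.mk'_surjective Z q
    obtain ⟨m, hm, hmb, e⟩ := inN x (centralizer_le_normalizer _ hq)
    rw [← e] at hq ⊢
    obtain ⟨hA, hA'⟩ := base_mod_cubB
    have hs' := F.J_le_cent hb (F.mem_J.2 hA)
    exact mkJ (hnotC rotA hA hA' m hm hs' ((mem_centralizer_iff.1 hq _ (mkJ hA hs')).symm)) hm
  have hleC : (JY : Subgroup (X ⧸ Z)) ≤ centralizer ((JY : Subgroup (X ⧸ Z)) : Set (X ⧸ Z)) := by
    intro q hq
    rw [mem_centralizer_iff]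
    intro r hr
    exact congrArg Subtype.val (mul_comm' (⟨r, hr⟩ : (JY : Subgroup (X ⧸ Z))) ⟨q, hq⟩)
  have hfree : Block.FreeAction JY := by
    intro y hy hy1
    refine le_antisymm ?_ (le_inf (centralizer_le (Set.singleton_subset_iff.2 hy)) (centralizer_le_normalizer _))
    rintro q ⟨hqy, hqN⟩
    obtain ⟨x, rfl⟩ := QuotientGroup.mk'_surjective Z q
    obtain ⟨m, hm, hmb, e⟩ := inN x hqN
    rw [← e] at hqy ⊢
    obtain ⟨s, hs', hs, rfl⟩ := hJmem y hy
    refine hleC (mkJ (hnotC s hs ?_ m hm hs' (mem_centralizer_singleton_iff.1 hqy)) hm)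
    intro hsl
    refine hy1 ?_
    rw [QuotientGroup.mk'_apply, QuotientGroup.eq_one_iff]
    simp only [List.mem_cons, List.not_mem_nil, or_false] at hsl
    rcases hsl with rfl | rfl | rfl
    · rw [show (⟨F.φ 1, hs'⟩ : X) = 1 from Subtype.ext (map_one _)]; exact one_mem _
    · exact mem_zpowers _
    · rw [show (⟨F.φ (cubB * cubB), hs'⟩ : X) = ⟨F.φ cubB, mem_centralizer_singleton_iff.2 rfl⟩ *
        ⟨F.φ cubB, mem_centralizer_singleton_iff.2 rfl⟩ from Subtype.ext (map_mul _ _ _)]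
      exact mul_mem (mem_zpowers _) (mem_zpowers _)
  have htX : F.φ blkSwap ∈ X := F.mem_cent.2 blkSwap_cubB.1
  have hCN : (centralizer ((JY : Subgroup (X ⧸ Z)) : Set (X ⧸ Z))).relIndex
      (normalizer ((JY : Subgroup (X ⧸ Z)) : Set (X ⧸ Z))) = 2 := by
    rw [relIndex, index_eq_two_iff]
    have htN : π ⟨F.φ blkSwap, htX⟩ ∈ normalizer ((JY : Subgroup (X ⧸ Z)) : Set (X ⧸ Z)) := by
      rw [mem_normalizer_iff]
      intro q
      constructor
      · intro hq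
        obtain ⟨s, hs', hs, rfl⟩ := hJmem q hq
        rw [← map_inv, ← map_mul, ← map_mul]
        have hb' := base_normal s blkSwap hs
        have hmem := F.J_le_cent hb (F.mem_J.2 hb')
        rw [show (⟨F.φ blkSwap, htX⟩ : X) * ⟨F.φ s, hs'⟩ * (⟨F.φ blkSwap, htX⟩ : X)⁻¹ =
          ⟨_, hmem⟩ from Subtype.ext (by simp [map_mul, map_inv])]
        exact mkJ hb' hmem
      · intro hq
        obtain ⟨s, hs', hs, e⟩ := hJmem _ hq
        have hb' := base_normal s blkSwap⁻¹ hs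
        have hmem := F.J_le_cent hb (F.mem_J.2 hb')
        have : q = π ⟨_, hmem⟩ := by
          rw [show (⟨F.φ (blkSwap⁻¹ * s * blkSwap⁻¹⁻¹), hmem⟩ : X) =
            (⟨F.φ blkSwap, htX⟩ : X)⁻¹ * ⟨F.φ s, hs'⟩ * (⟨F.φ blkSwap, htX⟩ : X) from
              Subtype.ext (by simp [map_mul, map_inv]), map_mul, map_mul, map_inv, e]
          group
        rw [this]
        exact mkJ hb' hmem
    have key : ∀ (m : Model) (hm : F.φ m ∈ X), π ⟨F.φ m, hm⟩ ∈
        centralizer ((JY : Subgroup (X ⧸ Z)) : Set (X ⧸ Z)) → InBase m := fun m hm h => by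
      have := pre _ (hCle h)
      exact F.mem_J.1 this
    refine ⟨⟨_, htN⟩, ?_⟩
    rintro ⟨q, hq⟩
    obtain ⟨x, rfl⟩ := QuotientGroup.mk'_surjective Z q
    obtain ⟨m, hm, hmb, e⟩ := inN x hq
    simp only [mem_subgroupOf, Subgroup.coe_mul]
    rw [← e, ← map_mul]
    rcases (cent_cubB m hmb).2 with h | h
    · refine Or.inr ⟨hleC (mkJ h hm), fun h' => blkSwap_cubB.2 ?_⟩
      have h2 := pre _ (hCle h')
      have h3 : F.φ blkSwap ∈ F.J := by
        have := mul_mem (inv_mem (F.mem_J.2 h)) h2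
        simpa using this
      exact F.mem_J.1 h3
    · refine Or.inl ⟨?_, fun h' => blkSwap_cubB.2 ?_⟩
      · have hmem : F.φ (m * blkSwap) ∈ X := by rw [map_mul]; exact mul_mem hm htX
        rw [show (⟨F.φ m, hm⟩ : X) * ⟨F.φ blkSwap, htX⟩ = ⟨_, hmem⟩ from Subtype.ext (by simp)]
        exact hleC (mkJ h hmem)
      · have := baseSub.mul_mem (baseSub.inv_mem (key m hm h')) h
        rwa [inv_mul_cancel_left] at this
  have hnc : ¬ IsCyclic (JY : Subgroup (X ⧸ Z)) := by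
    intro hc
    obtain ⟨g, hg⟩ := hc.exists_generator
    obtain ⟨s, hs', hs, e⟩ := hJmem g g.2
    have hg3 : orderOf g ∣ 3 := orderOf_dvd_of_pow_eq_one (Subtype.ext (by
      rw [Subgroup.coe_pow, ← e, ← map_pow, show (⟨F.φ s, hs'⟩ : X) ^ 3 = 1 from
        Subtype.ext (F.cube_one hs), map_one]; rfl))
    have h1 : Nat.card (JY : Subgroup (X ⧸ Z)) ≤ 3 := by
      rw [← orderOf_eq_card_of_forall_mem_zpowers hg]
      exact Nat.le_of_dvd (by norm_num) hg3
    have h2 : Nat.card ((JY : Subgroup (X ⧸ Z)).comap π) = Nat.card (JY : Subgroup (X ⧸ Z)) * Nat.card Z := by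
      rw [Core.card_comap_eq _ (QuotientGroup.mk'_surjective Z), QuotientGroup.ker_mk', mul_comm]
    rw [hJY, comap_map_eq, QuotientGroup.ker_mk', sup_eq_left.2 hZJ, hJX,
      Nat.card_congr (subgroupOfEquivOfLe (F.J_le_cent hb)).toEquiv, F.card_J] at h2
    rw [hJY, hJX] at h1
    have h3 : Nat.card Z ≤ 3 := by
      rw [Nat.card_zpowers]
      exact orderOf_le_of_pow_eq_one (by norm_num) (Subtype.ext (F.cube_one hb))
    nlinarith
  obtain ⟨K, hKn, hJK, hKN⟩ := SmithTyrer.exists_normal (by norm_num) hnc hfree hCN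
  haveI := hKn
  have hKeq := eq_sylow_of_burnside JY K hJK hKN
    (core_quotient_bot Z (F.cyc_central cubB) (F.cyc_isPGroup hb) (F.core cubB hb hb1))
  intro g hg
  refine normH ⟨g, hg⟩ ?_
  rw [mem_normalizer_iff]
  intro q
  rw [← hKeq]
  exact ⟨fun h => hKn.conj_mem _ h _, fun h => by
    have := hKn.conj_mem _ h (π ⟨g, hg⟩)⁻¹
    simpa [mul_assoc] using this⟩

/-- Centralisers of double three-cycles in the base lie in the model subgroup. -/
theorem cent_conj_le {x y m : Model} (h : centralizer ({F.φ x} : Set G) ≤ F.φ.range)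
    (e : m * x * m⁻¹ = y) : centralizer ({F.φ y} : Set G) ≤ F.φ.range := by
  intro g hg
  rw [mem_centralizer_singleton_iff, ← e, map_mul, map_mul, map_inv] at hg
  have h1 : (F.φ m)⁻¹ * g * F.φ m ∈ centralizer ({F.φ x} : Set G) := by
    rw [mem_centralizer_singleton_iff]
    calc (F.φ m)⁻¹ * g * F.φ m * F.φ x
        = (F.φ m)⁻¹ * (g * (F.φ m * F.φ x * (F.φ m)⁻¹)) * F.φ m := by group
      _ = F.φ x * ((F.φ m)⁻¹ * g * F.φ m) := by rw [hg]; group
  have := mul_mem (mul_mem (F.mem_H m) (h h1)) (inv_mem (F.mem_H m))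
  simpa [mul_assoc] using this

theorem cent_wB_le : centralizer ({F.φ wB} : Set G) ≤ F.φ.range := by
  obtain ⟨m, hm⟩ := wB_conj
  exact F.cent_conj_le F.cent_cubB_le hm

end Frame

end Cfsg.Lib.NineThree
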