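import Cfsg.Agent.Lib.NineThree.CentB
import Cfsg.Agent.S0078

/-!
# The centraliser of the central three-element of the Sylow 3-subgroup
-/

set_option autoImplicit false
set_option linter.unusedSectionVars false
set_option linter.style.haveILetI false
set_option maxHeartbeats 1000000
set_option synthInstance.maxSize 2000
set_option synthInstance.maxHeartbeats 200000

namespace Cfsg.Lib.NineThree

open Cfsg.Lib.Recog.ThreeCubedFour Subgroup
open scoped Pointwise

universe u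

theorem quarter_turn {Q : Type u} [Group Q] {A A' B Y : Q} (hB : B * B * B = 1) (hY : Y * Y * Y = 1)
    (hBY : B * Y = Y * B) (h1 : A' * B * A'⁻¹ = Y * B) (h2 : A' * Y * A'⁻¹ = Y)
    (h3 : A * B * A⁻¹ = B) (h4 : A * Y * A⁻¹ = B * B * Y) :
    (A' * A * A' * (A' * A * A')) * B * (A' * A * A' * (A' * A * A'))⁻¹ = B * B := by
  have u1 : A' * A * A' * B * (A' * A * A')⁻¹ = Y := by
    calc A' * A * A' * B * (A' * A * A')⁻¹ = A' * (A * (A' * B * A'⁻¹) * A⁻¹) * A'⁻¹ := by group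
      _ = A' * ((A * Y * A⁻¹) * (A * B * A⁻¹)) * A'⁻¹ := by rw [h1]; group
      _ = A' * (B * B * (Y * B)) * A'⁻¹ := by rw [h3, h4]; group
      _ = A' * Y * A'⁻¹ := by rw [← hBY, ← mul_assoc (B * B) B Y, hB, one_mul]
      _ = Y := h2
  have u2 : A' * A * A' * Y * (A' * A * A')⁻¹ = B * B := by
    calc A' * A * A' * Y * (A' * A * A')⁻¹ = A' * (A * (A' * Y * A'⁻¹) * A⁻¹) * A'⁻¹ := by group
      _ = A' * (B * B * Y) * A'⁻¹ := by rw [h2, h4]
      _ = (A' * B * A'⁻¹) * (A' * B * A'⁻¹) * (A' * Y * A'⁻¹) := by group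
      _ = Y * B * (Y * B) * Y := by rw [h1, h2]
      _ = Y * (B * Y) * (B * Y) := by group
      _ = Y * Y * B * Y * B := by rw [hBY]; group
      _ = Y * Y * (B * Y) * B := by group
      _ = Y * Y * Y * (B * B) := by rw [hBY]; group
      _ = B * B := by rw [hY, one_mul]
  calc (A' * A * A' * (A' * A * A')) * B * (A' * A * A' * (A' * A * A'))⁻¹
      = A' * A * A' * (A' * A * A' * B * (A' * A * A')⁻¹) * (A' * A * A')⁻¹ := by group
    _ = B * B := by rw [u1, u2]

namespace Frame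

variable {G : Type u} [Group G] [Finite G] (F : Frame G)

theorem mem_P_of_cent {g : G} (h : g ∈ F.φ.range) (hc : g ∈ centralizer ({F.φ cC} : Set G)) : g ∈ F.P := by
  obtain ⟨m, rfl⟩ := h
  exact F.mem_P.2 ((cent_cC m).1 (F.mem_cent.1 hc))

theorem syl_le_cent : F.P ≤ centralizer ({F.φ cC} : Set G) := by
  rintro _ ⟨m, hm, rfl⟩
  exact F.mem_cent.2 ((cent_cC m).2 hm)

/-- An element of the centraliser carrying `wB` into the Sylow subgroup lies in it. -/
theorem no_fusion {k : G} (hk : k ∈ centralizer ({F.φ cC} : Set G))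
    (hkP : k * F.φ wB * k⁻¹ ∈ F.P) : k ∈ F.P := by
  classical
  refine F.mem_P_of_cent ?_ hk
  by_contra hkH
  set c := F.φ cC with hc
  have hkc : k * c = c * k := mem_centralizer_singleton_iff.1 hk
  obtain ⟨hwb, -, hws⟩ := wB_base
  -- a conjugate of `wB` in the base gives membership
  have inbase : ∀ l : G, l ∈ centralizer ({c} : Set G) → ∀ y : Model, InBase y →
      l * F.φ wB * l⁻¹ = F.φ y → l ∈ F.φ.range := by
    intro l _ y hy hl
    obtain ⟨c', hc', m, -, hm⟩ := F.fusion hwb hy hl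
    have hC := F.cent_conj_le F.cent_wB_le hm
    refine F.mem_of_conj_le fun s hs => hC ?_
    rw [mem_centralizer_singleton_iff, ← hl]
    calc l * F.φ s * l⁻¹ * (l * F.φ wB * l⁻¹) = l * (F.φ s * F.φ wB) * l⁻¹ := by group
      _ = l * (F.φ wB * F.φ s) * l⁻¹ := by rw [← map_mul, inBase_commute s wB hs hwb, map_mul]
      _ = _ := by group
  obtain ⟨y, hy, hky⟩ := hkP
  have hyb : ¬ InBase y := fun h => hkH (inbase k hk y h hky.symm)
  have hys : InSyl y := hy
  -- the common centraliser of `wB` and the centre is the base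
  have hpair : ∀ z : G, z * c = c * z → z * F.φ wB = F.φ wB * z → z ∈ F.J := by
    intro z h1 h2
    obtain ⟨m, rfl⟩ := F.cent_wB_le (mem_centralizer_singleton_iff.2 h2)
    exact F.mem_J.2 (cent_pair m (F.inj (by rw [map_mul, map_mul]; exact h1))
      (F.inj (by rw [map_mul, map_mul]; exact h2)))
  have hcs : ∀ {s : Model}, InBase s → F.φ s * c = c * F.φ s := fun {s} hs =>
    mem_centralizer_singleton_iff.1 (F.J_le_cent cC_base.1 (F.mem_J.2 hs))
  -- the preimage of `wB` is an element of the model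
  set b' := k⁻¹ * F.φ wB * k with hb'
  have hb'c : b' * c = c * b' := by
    have e1 : k⁻¹ * c = c * k⁻¹ := by rw [eq_mul_inv_iff_mul_eq, mul_assoc, ← hkc, inv_mul_cancel_left]
    calc b' * c = k⁻¹ * F.φ wB * (k * c) := by rw [hb']; group
      _ = k⁻¹ * (F.φ wB * c) * k := by rw [hkc]; group
      _ = k⁻¹ * c * F.φ wB * k := by rw [hcs hwb]; group
      _ = c * b' := by rw [e1, hb']; group
  obtain ⟨z, hz, hzy⟩ : ∃ z : Model, z ∈ [1, cC, cC * cC] ∧ wB * y * wB⁻¹ = z * y :=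
    ⟨_, wB_mod y hys, by group⟩
  have hzc : ∀ g : G, g * c = c * g → g * F.φ z = F.φ z * g := by
    intro g hg
    simp only [List.mem_cons, List.not_mem_nil, or_false] at hz
    rcases hz with rfl | rfl | rfl
    · rw [map_one, mul_one, one_mul]
    · exact hg
    · rw [map_mul, ← hc, ← mul_assoc, hg, mul_assoc, hg, mul_assoc]
  have hb'H : b' ∈ F.φ.range := by
    refine F.norm _ fun s hs => ?_
    have hsc := hcs hs
    refine hpair _ ?_ ?_
    · have h1 : Commute b' c := hb'c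
      exact ((h1.mul_left hsc).mul_left h1.inv_left).eq
    · -- it centralises `wB`
      have e : b' * F.φ wB * b'⁻¹ = F.φ z * F.φ wB := by
        have h1 : F.φ y = k * F.φ wB * k⁻¹ := hky
        have h2 : F.φ (wB * y * wB⁻¹) = F.φ z * F.φ y := by rw [hzy, map_mul]
        rw [map_mul, map_mul, map_inv, h1] at h2
        calc b' * F.φ wB * b'⁻¹ = k⁻¹ * (F.φ wB * (k * F.φ wB * k⁻¹) * (F.φ wB)⁻¹) * k := by
              rw [hb']; group
          _ = k⁻¹ * (F.φ z * (k * F.φ wB * k⁻¹)) * k := by rw [h2]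
          _ = k⁻¹ * (F.φ z * k) * F.φ wB := by group
          _ = F.φ z * F.φ wB := by rw [← hzc k hkc, inv_mul_cancel_left]
      have hsz : F.φ s * F.φ z = F.φ z * F.φ s := hzc _ hsc
      have hsw : F.φ s * F.φ wB = F.φ wB * F.φ s := by rw [← map_mul, inBase_commute s wB hs hwb, map_mul]
      have h3 : Commute (b' * F.φ s * b'⁻¹) (b' * F.φ wB * b'⁻¹) := by
        show _ * _ = _ * _
        calc b' * F.φ s * b'⁻¹ * (b' * F.φ wB * b'⁻¹) = b' * (F.φ s * F.φ wB) * b'⁻¹ := by group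
          _ = _ := by rw [hsw]; group
      rw [e] at h3
      have h4 : Commute (b' * F.φ s * b'⁻¹) (F.φ z) := by
        have h1 : Commute b' c := hb'c
        exact hzc _ ((h1.mul_left hsc).mul_left h1.inv_left).eq
      have h5 := h4.inv_right.mul_right h3
      rwa [inv_mul_cancel_left] at h5
  obtain ⟨m, hm⟩ := hb'H
  have hms : InSyl m := (cent_cC m).1 (F.inj (by rw [map_mul, map_mul, hm]; exact hb'c))
  have hmb : ¬ InBase m := fun h => by
    have := inbase k⁻¹ (inv_mem hk) m h (by rw [inv_inv, hm, hb'])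
    exact hkH (by simpa using inv_mem this)
  -- work modulo the centre
  haveI := F.cyc_normal cC
  set X := centralizer ({c} : Set G) with hX
  let π := QuotientGroup.mk' (F.cyc cC)
  let ψ : (x : Model) → InSyl x → X := fun x hx => ⟨F.φ x, F.syl_le_cent (F.mem_P.2 hx)⟩
  have hπz : ∀ z ∈ [1, cC, cC * cC], ∀ hz : InSyl z, π (ψ z hz) = 1 := by
    intro z hz hzs
    rw [QuotientGroup.mk'_apply, QuotientGroup.eq_one_iff]
    simp only [List.mem_cons, List.not_mem_nil, or_false] at hz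
    rcases hz with rfl | rfl | rfl
    · rw [show ψ 1 hzs = 1 from Subtype.ext (map_one _)]; exact one_mem _
    · exact mem_zpowers _
    · rw [show ψ (cC * cC) hzs = ψ cC ((cent_cC cC).1 rfl) * ψ cC ((cent_cC cC).1 rfl) from
        Subtype.ext (map_mul _ _ _)]
      exact mul_mem (mem_zpowers _) (mem_zpowers _)
  have hcsyl : InSyl cC := (cent_cC cC).1 rfl
  have hz012 : ∀ z ∈ [1, cC, cC * cC], InSyl z := by decide +kernel
  have ψmul : ∀ {x x' : Model} (hx : InSyl x) (hx' : InSyl x'),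
      π (ψ (x * x') (sylSub.mul_mem hx hx')) = π (ψ x hx) * π (ψ x' hx') := fun hx hx' => by
    rw [← map_mul]; exact congrArg π (Subtype.ext (map_mul _ _ _))
  have hA : InSyl rotA := by decide
  set kX : X := ⟨k, hk⟩
  set B := π (ψ wB hws) with hBdef
  set Y0 := π (ψ y hys) with hY0
  set A0 := π (ψ rotA hA) with hA0
  set A1 := π (kX * ψ rotA hA * kX⁻¹) with hA1
  have ypow : Y0 = π kX * B * (π kX)⁻¹ := by
    rw [hY0, hBdef, ← map_inv, ← map_mul, ← map_mul]
    exact congrArg π (Subtype.ext hky)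
  have hB3 : B * B * B = 1 := by
    rw [hBdef, ← map_mul, ← map_mul,
      show ψ wB hws * ψ wB hws * ψ wB hws = 1 from Subtype.ext (by
        show F.φ wB * F.φ wB * F.φ wB = 1
        rw [← map_mul, ← map_mul, show wB * wB * wB = 1 by decide +kernel, map_one]), map_one]
  have hY03 : Y0 * Y0 * Y0 = 1 := by
    rw [ypow, show π kX * B * (π kX)⁻¹ * (π kX * B * (π kX)⁻¹) * (π kX * B * (π kX)⁻¹) =
      π kX * (B * B * B) * (π kX)⁻¹ by group, hB3, mul_one, mul_inv_cancel]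
  have hBY0 : B * Y0 = Y0 * B := by
    have h := congrArg (fun t => π t) (show ψ wB hws * ψ y hys * (ψ wB hws)⁻¹ =
      ψ z (hz012 z hz) * ψ y hys from Subtype.ext (by
        show F.φ wB * F.φ y * (F.φ wB)⁻¹ = F.φ z * F.φ y
        rw [← map_mul, ← map_inv, ← map_mul, hzy, map_mul]))
    simp only [map_mul, map_inv] at h
    rw [hπz z hz (hz012 z hz), one_mul, mul_inv_eq_iff_eq_mul] at h
    exact h
  have hA0B : A0 * B * A0⁻¹ = B := by
    rw [hA0, hBdef, ← map_inv, ← map_mul, ← map_mul]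
    exact congrArg π (Subtype.ext (by
      show F.φ rotA * F.φ wB * (F.φ rotA)⁻¹ = F.φ wB
      rw [← map_mul, inBase_commute rotA wB (by decide) hwb, map_mul, mul_inv_cancel_right]))
  have hA1Y : A1 * Y0 * A1⁻¹ = Y0 := by
    have e : A1 = π kX * A0 * (π kX)⁻¹ := by rw [hA1, hA0, map_mul, map_mul, map_inv]
    rw [e, ypow, show π kX * A0 * (π kX)⁻¹ * (π kX * B * (π kX)⁻¹) * (π kX * A0 * (π kX)⁻¹)⁻¹ =
      π kX * (A0 * B * A0⁻¹) * (π kX)⁻¹ by group, hA0B]
  have hmove : ∀ (x : Model) (hx : InSyl x), ¬ InBase x → A0 * π (ψ x hx) * A0⁻¹ = B * π (ψ x hx) ∨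
      A0 * π (ψ x hx) * A0⁻¹ = B * B * π (ψ x hx) := by
    intro x hx hxb
    have h := outer_move x hx hxb
    have key : A0 * π (ψ x hx) * A0⁻¹ = π (ψ (rotA * x * rotA⁻¹)
        (sylSub.mul_mem (sylSub.mul_mem hA hx) (sylSub.inv_mem hA))) := by
      rw [hA0, ← map_inv, ← map_mul, ← map_mul]
      exact congrArg π (Subtype.ext (by simp [ψ, map_mul, map_inv]))
    simp only [List.mem_cons, List.not_mem_nil, or_false] at h
    rcases h with h | h | h | h | h | h
    · left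
      rw [key, hBdef, ← ψmul hws hx]
      exact congrArg π (Subtype.ext (congrArg F.φ h))
    · left
      rw [key, hBdef, show π (ψ wB hws) = π (ψ wB hws) * π (ψ cC hcsyl) by
        rw [hπz cC (by simp) hcsyl, mul_one], ← ψmul hws hcsyl, ← ψmul (sylSub.mul_mem hws hcsyl) hx]
      exact congrArg π (Subtype.ext (congrArg F.φ h))
    · left
      rw [key, hBdef, show π (ψ wB hws) = π (ψ wB hws) * π (ψ (cC * cC) (sylSub.mul_mem hcsyl hcsyl)) by
        rw [hπz (cC * cC) (by simp) (sylSub.mul_mem hcsyl hcsyl), mul_one], ← ψmul hws (sylSub.mul_mem hcsyl hcsyl),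
        ← ψmul (sylSub.mul_mem hws (sylSub.mul_mem hcsyl hcsyl)) hx]
      exact congrArg π (Subtype.ext (congrArg F.φ h))
    · right
      rw [key, hBdef, ← ψmul hws hws, ← ψmul (sylSub.mul_mem hws hws) hx]
      exact congrArg π (Subtype.ext (congrArg F.φ h))
    · right
      rw [key, hBdef, ← ψmul hws hws, show π (ψ (wB * wB) (sylSub.mul_mem hws hws)) =
        π (ψ (wB * wB) (sylSub.mul_mem hws hws)) * π (ψ cC hcsyl) by rw [hπz cC (by simp) hcsyl, mul_one],
        ← ψmul (sylSub.mul_mem hws hws) hcsyl, ← ψmul (sylSub.mul_mem (sylSub.mul_mem hws hws) hcsyl) hx]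
      exact congrArg π (Subtype.ext (congrArg F.φ h))
    · right
      rw [key, hBdef, ← ψmul hws hws, show π (ψ (wB * wB) (sylSub.mul_mem hws hws)) =
        π (ψ (wB * wB) (sylSub.mul_mem hws hws)) * π (ψ (cC * cC) (sylSub.mul_mem hcsyl hcsyl)) by
          rw [hπz (cC * cC) (by simp) (sylSub.mul_mem hcsyl hcsyl), mul_one],
        ← ψmul (sylSub.mul_mem hws hws) (sylSub.mul_mem hcsyl hcsyl),
        ← ψmul (sylSub.mul_mem (sylSub.mul_mem hws hws) (sylSub.mul_mem hcsyl hcsyl)) hx]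
      exact congrArg π (Subtype.ext (congrArg F.φ h))
  have hb'π : π (ψ m hms) = (π kX)⁻¹ * B * π kX := by
    rw [hBdef, ← map_inv, ← map_mul, ← map_mul]
    exact congrArg π (Subtype.ext hm)
  -- choose the second basis vector and the two transvections
  obtain ⟨Y, hY, hBY, hA1B, hA1Y', hY3⟩ : ∃ Y, (Y = Y0 ∨ Y = Y0 * Y0) ∧ B * Y = Y * B ∧
      A1 * B * A1⁻¹ = Y * B ∧ A1 * Y * A1⁻¹ = Y ∧ Y * Y * Y = 1 := by
    have hb : B = π kX * π (ψ m hms) * (π kX)⁻¹ := by rw [hb'π]; group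
    have eA : A1 = π kX * A0 * (π kX)⁻¹ := by rw [hA1, hA0, map_mul, map_mul, map_inv]
    have h6 : ∀ T, A0 * π (ψ m hms) * A0⁻¹ = T * π (ψ m hms) →
        A1 * B * A1⁻¹ = π kX * T * (π kX)⁻¹ * B := by
      intro T hT
      calc A1 * B * A1⁻¹ = π kX * (A0 * π (ψ m hms) * A0⁻¹) * (π kX)⁻¹ := by rw [eA, hb]; group
        _ = _ := by rw [hT, hb]; group
    rcases hmove m hms hmb with h | h
    · exact ⟨Y0, Or.inl rfl, hBY0, by rw [h6 _ h, ← ypow], hA1Y, hY03⟩
    · refine ⟨Y0 * Y0, Or.inr rfl, by rw [← mul_assoc, hBY0, mul_assoc, hBY0, mul_assoc], ?_, ?_, ?_⟩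
      · rw [h6 _ h, show π kX * (B * B) * (π kX)⁻¹ = π kX * B * (π kX)⁻¹ * (π kX * B * (π kX)⁻¹) by group,
          ← ypow]
      · rw [show A1 * (Y0 * Y0) * A1⁻¹ = A1 * Y0 * A1⁻¹ * (A1 * Y0 * A1⁻¹) by group, hA1Y]
      · calc Y0 * Y0 * (Y0 * Y0) * (Y0 * Y0) = Y0 * Y0 * Y0 * (Y0 * Y0 * Y0) := by group
          _ = 1 := by rw [hY03, one_mul]
  obtain ⟨e, hAe⟩ : ∃ e : ℕ, A0 ^ e * Y * (A0 ^ e)⁻¹ = B * B * Y := by
    have hpow : ∀ T, A0 * Y * A0⁻¹ = T * Y → A0 * T * A0⁻¹ = T →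
        A0 ^ 2 * Y * (A0 ^ 2)⁻¹ = T * T * Y := by
      intro T hT hTf
      calc A0 ^ 2 * Y * (A0 ^ 2)⁻¹ = A0 * (A0 * Y * A0⁻¹) * A0⁻¹ := by rw [pow_two]; group
        _ = A0 * (T * Y) * A0⁻¹ := by rw [hT]
        _ = (A0 * T * A0⁻¹) * (A0 * Y * A0⁻¹) := by group
        _ = T * T * Y := by rw [hTf, hT, mul_assoc]
    have hfix : A0 * (B * B) * A0⁻¹ = B * B := by
      rw [show A0 * (B * B) * A0⁻¹ = A0 * B * A0⁻¹ * (A0 * B * A0⁻¹) by group, hA0B]
    have hstep : ∀ T, A0 * Y0 * A0⁻¹ = T * Y0 → Commute T Y0 →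
        A0 * (Y0 * Y0) * A0⁻¹ = T * T * (Y0 * Y0) := by
      intro T hT hc
      calc A0 * (Y0 * Y0) * A0⁻¹ = A0 * Y0 * A0⁻¹ * (A0 * Y0 * A0⁻¹) := by group
        _ = T * (Y0 * T) * Y0 := by rw [hT]; group
        _ = _ := by rw [← hc.eq]; group
    have hB4 : B * B * (B * B) = B := by rw [← mul_assoc, hB3, one_mul]
    rcases hmove y hys hyb with h | h <;> rcases hY with rfl | rfl
    · exact ⟨2, hpow B h hA0B⟩
    · exact ⟨1, by rw [pow_one]; exact hstep B h hBY0⟩
    · exact ⟨1, by rw [pow_one]; exact h⟩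
    · have := hstep (B * B) h ((show Commute B Y0 from hBY0).mul_left hBY0)
      rw [hB4] at this
      exact ⟨2, hpow B this hA0B⟩
  have hfixe : A0 ^ e * B * (A0 ^ e)⁻¹ = B := by
    rw [mul_inv_eq_iff_eq_mul]
    exact ((show Commute A0 B from mul_inv_eq_iff_eq_mul.1 hA0B).pow_left e).eq
  have hturn := quarter_turn hB3 hY3 hBY hA1B hA1Y' hfixe hAe
  set T : X := kX * ψ rotA hA * kX⁻¹ * ψ rotA hA ^ e * (kX * ψ rotA hA * kX⁻¹) *
    (kX * ψ rotA hA * kX⁻¹ * ψ rotA hA ^ e * (kX * ψ rotA hA * kX⁻¹)) with hTdef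
  have hTB : π (T * ψ wB hws * T⁻¹) = π (ψ wB hws * ψ wB hws) := by
    rw [map_mul, map_mul, map_mul, map_inv, hTdef]
    simp only [map_mul, map_pow] at hturn ⊢
    simpa [A0, A1, B, map_mul] using hturn
  obtain ⟨j, hj⟩ : ∃ j : ℤ, (T : G) * F.φ wB * (T : G)⁻¹ = c ^ j * (F.φ wB * F.φ wB) := by
    have h := (QuotientGroup.eq_one_iff (N := F.cyc cC)
      (T * ψ wB hws * T⁻¹ * (ψ wB hws * ψ wB hws)⁻¹)).1 (by
        show π _ = 1
        rw [map_mul, hTB, ← map_mul, mul_inv_cancel, map_one])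
    obtain ⟨j, hj⟩ := h
    refine ⟨j, ?_⟩
    have e' : c ^ j = (T : G) * F.φ wB * (T : G)⁻¹ * (F.φ wB * F.φ wB)⁻¹ := congrArg Subtype.val hj
    rw [e', inv_mul_cancel_right]
  have hTc : (T : G) * c = c * T := mem_centralizer_singleton_iff.1 T.2
  have hTH : (T : G) ∈ F.φ.range := by
    refine F.norm _ fun s hs => ?_
    have h0 : Commute ((T : G) * F.φ s * (T : G)⁻¹) c :=
      ((show Commute (T : G) c from hTc).mul_left (hcs hs)).mul_left (show Commute (T : G) c from hTc).inv_left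
    refine hpair _ h0.eq ?_
    have h1 : Commute ((T : G) * F.φ s * (T : G)⁻¹) ((T : G) * F.φ wB * (T : G)⁻¹) := by
      show _ * _ = _ * _
      calc (T : G) * F.φ s * (T : G)⁻¹ * ((T : G) * F.φ wB * (T : G)⁻¹)
          = (T : G) * (F.φ s * F.φ wB) * (T : G)⁻¹ := by group
        _ = _ := by rw [← map_mul, inBase_commute s wB hs hwb, map_mul]; group
    rw [hj] at h1
    have h2 := (h0.zpow_right j).inv_right.mul_right h1
    rw [inv_mul_cancel_left] at h2
    have h3 : F.φ wB = (F.φ wB * F.φ wB) * (F.φ wB * F.φ wB) := by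
      rw [← map_mul, ← map_mul, show wB * wB * (wB * wB) = wB by decide +kernel]
    rw [h3]
    exact (h2.mul_right h2).eq
  obtain ⟨n, hn⟩ := hTH
  have hns : InSyl n := (cent_cC n).1 (F.inj (by rw [map_mul, map_mul, hn]; exact hTc))
  refine no_inverter n hns ?_
  have hmem : n * wB * n⁻¹ * (wB * wB)⁻¹ ∈ [1, cC, cC * cC] := by
    refine F.cyc_list cC_base.1 (F.syl_le_cent (F.mem_P.2
      (sylSub.mul_mem (sylSub.mul_mem (sylSub.mul_mem hns hws) (sylSub.inv_mem hns))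
        (sylSub.inv_mem (sylSub.mul_mem hws hws))))) ⟨j, Subtype.ext ?_⟩
    show c ^ j = F.φ _
    rw [map_mul, map_mul, map_mul, map_inv, map_inv, hn, hj, map_mul, mul_inv_cancel_right]
  have hlist : ∀ q : Model, InSyl q → q * (wB * wB)⁻¹ ∈ [1, cC, cC * cC] →
      q ∈ [wB * wB, wB * wB * cC, wB * wB * (cC * cC)] := by decide +kernel
  exact hlist _ (sylSub.mul_mem (sylSub.mul_mem hns hws) (sylSub.inv_mem hns)) hmem

/-- The centraliser of the central three-element is the Sylow 3-subgroup. -/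
theorem cent_cC_eq : centralizer ({F.φ cC} : Set G) = F.P := by
  classical
  haveI : Fact (Nat.Prime 3) := ⟨Nat.prime_three⟩
  haveI := F.cyc_normal cC
  refine le_antisymm ?_ F.syl_le_cent
  obtain ⟨hcb, hc1, -⟩ := cC_base
  obtain ⟨hwb, -, hws⟩ := wB_base
  set X := centralizer ({F.φ cC} : Set G) with hX
  set Z := F.cyc cC
  set π := QuotientGroup.mk' Z
  obtain ⟨PX, hPX⟩ := F.exists_sylow X sylSub le_rfl base_le_syl F.syl_le_cent
    fun y _ hy _ => (cent_cC y).1 (F.mem_cent.1 hy)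
  have hZP : Z ≤ (PX : Subgroup X) := hPX ▸ F.cyc_le (base_le_syl hcb)
  set E := PX.mapSurjective (QuotientGroup.mk'_surjective Z)
  have hE : (E : Subgroup (X ⧸ Z)) = (PX : Subgroup X).map π := rfl
  have pre : ∀ x : X, π x ∈ (E : Subgroup (X ⧸ Z)) → x ∈ (PX : Subgroup X) := by
    intro x hx
    have h1 : x ∈ ((PX : Subgroup X).map π).comap π := hx
    rwa [comap_map_eq, QuotientGroup.ker_mk', sup_eq_left.2 hZP] at h1
  set w : X := ⟨F.φ wB, F.syl_le_cent (F.mem_P.2 hws)⟩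
  have hwP : w ∈ (PX : Subgroup X) := hPX ▸ (F.mem_P.2 hws : F.φ wB ∈ F.P)
  have hwE : π w ∈ (E : Subgroup (X ⧸ Z)) ⊓ centralizer ((E : Subgroup (X ⧸ Z)) : Set (X ⧸ Z)) := by
    refine ⟨mem_map_of_mem π hwP, mem_centralizer_iff.2 fun q hq => ?_⟩
    obtain ⟨x, hx, rfl⟩ := hq
    rw [SetLike.mem_coe, hPX] at hx
    obtain ⟨s, hs, es⟩ := hx
    have h1 : π (w * x * w⁻¹ * x⁻¹) = 1 := by
      rw [QuotientGroup.mk'_apply, QuotientGroup.eq_one_iff]
      have h := wB_mod s hs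
      have hv : ((w * x * w⁻¹ * x⁻¹ : X) : G) = F.φ (wB * s * wB⁻¹ * s⁻¹) := by
        have es' : (x : G) = F.φ s := es.symm
        simp [w, map_mul, map_inv, es']
      simp only [List.mem_cons, List.not_mem_nil, or_false] at h
      rcases h with h | h | h <;> rw [h] at hv
      · rw [show w * x * w⁻¹ * x⁻¹ = 1 from Subtype.ext (by rw [hv, map_one]; rfl)]
        exact one_mem _
      · rw [show w * x * w⁻¹ * x⁻¹ = ⟨F.φ cC, mem_centralizer_singleton_iff.2 rfl⟩ from Subtype.ext hv]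
        exact mem_zpowers _
      · rw [show w * x * w⁻¹ * x⁻¹ = ⟨F.φ cC, mem_centralizer_singleton_iff.2 rfl⟩ *
          ⟨F.φ cC, mem_centralizer_singleton_iff.2 rfl⟩ from Subtype.ext (by rw [hv, map_mul]; rfl)]
        exact mul_mem (mem_zpowers _) (mem_zpowers _)
    rw [map_mul, map_mul, map_mul, map_inv, map_inv, mul_inv_eq_one, mul_inv_eq_iff_eq_mul] at h1
    exact h1.symm
  have fix : ∀ x : X, π (x * w * x⁻¹) ∈ (E : Subgroup (X ⧸ Z)) → x ∈ (PX : Subgroup X) := by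
    intro x hx
    have h1 := pre _ hx
    rw [hPX] at h1 ⊢
    exact F.no_fusion x.2 h1
  have hres := Cfsg.Agent.S0078.result E ?_ (E : Subgroup (X ⧸ Z)) ?_
  · have hbot : (Cfsg.pResidual 3 (E : Subgroup (X ⧸ Z))) = ⊥ := by
      rw [eq_bot_iff, Cfsg.pResidual, closure_le]
      intro g hg
      obtain ⟨k, hk⟩ := E.isPGroup' g
      have h1 : orderOf g = 1 := Nat.eq_one_of_dvd_coprimes (Nat.Coprime.pow_right k hg) dvd_rfl
        (orderOf_dvd_of_pow_eq_one hk)
      exact mem_bot.2 (orderOf_eq_one_iff.1 h1)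
    rw [hbot, Subgroup.map_bot, inf_bot_eq] at hres
    have htop := sylow_eq_top_of_residual E hres
      (core_quotient_bot Z (F.cyc_central cC) (F.cyc_isPGroup hcb) (F.core cC hcb hc1))
    intro g hg
    have : (⟨g, hg⟩ : X) ∈ (PX : Subgroup X) := pre _ (htop ▸ mem_top _)
    rw [hPX] at this
    exact this
  · intro Q hQ
    obtain ⟨q, rfl⟩ := MulAction.exists_smul_eq (X ⧸ Z) E Q
    have h1 : π w ∈ MulAut.conj q • (E : Subgroup (X ⧸ Z)) := hQ hwE
    rw [Subgroup.mem_pointwise_smul_iff_inv_smul_mem] at h1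
    obtain ⟨x, rfl⟩ := QuotientGroup.mk'_surjective Z q
    have h2 : π (x⁻¹ * w * x⁻¹⁻¹) ∈ (E : Subgroup (X ⧸ Z)) := by
      simpa [π, MulAut.smul_def, map_mul, map_inv] using h1
    have hxE : π x ∈ (E : Subgroup (X ⧸ Z)) := mem_map_of_mem π (by simpa using inv_mem (fix _ h2))
    have heq : π x • E = E := Sylow.smul_eq_iff_mem_normalizer.2 (le_normalizer hxE)
    rw [heq]
  · intro q hq
    obtain ⟨x, rfl⟩ := QuotientGroup.mk'_surjective Z q
    refine mem_map_of_mem π (fix x ?_)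
    rw [map_mul, map_mul, map_inv]
    exact ((mem_normalizer_iff.1 hq _).1 hwE).1

end Frame

end Cfsg.Lib.NineThree
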