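import Cfsg.Agent.Lib.NineThree.Frame

/-!
# Finite facts on centralisers in `3^3 : S4`
-/

set_option autoImplicit false
set_option maxRecDepth 100000
set_option synthInstance.maxSize 2000
set_option synthInstance.maxHeartbeats 200000

namespace Cfsg.Lib.NineThree

open Cfsg.Lib.Recog.ThreeCubedFour

/-- The central element of the Sylow 3-subgroup. -/
def cC : Model := rotA * rotB * rotC

/-- An element of the derived subgroup of the Sylow 3-subgroup. -/
def wB : Model := rotA * rotB * rotB

theorem cC_base : InBase cC ∧ cC ≠ 1 ∧ cC ^ 3 = 1 := by decide +kernel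

theorem wB_base : InBase wB ∧ wB ≠ 1 ∧ InSyl wB := by decide +kernel

theorem wB_conj : ∃ g : Model, g * cubB * g⁻¹ = wB := by decide +kernel

theorem cent_cC : ∀ y : Model, y * cC = cC * y ↔ InSyl y := by decide +kernel

theorem wB_mod : ∀ s : Model, InSyl s → wB * s * wB⁻¹ * s⁻¹ ∈ [1, cC, cC * cC] := by decide +kernel

theorem cent_pair : ∀ y : Model, y * cC = cC * y → y * wB = wB * y → InBase y := by decide +kernel

/-- Outside the base, an element of the Sylow 3-subgroup is moved by the first three-cycle within the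
coset of an element of the derived subgroup. -/
theorem outer_move : ∀ m : Model, InSyl m → ¬ InBase m →
    rotA * m * rotA⁻¹ ∈ [wB * m, wB * cC * m, wB * (cC * cC) * m,
      wB * wB * m, wB * wB * cC * m, wB * wB * (cC * cC) * m] := by
  decide +kernel

/-- Outside the base, inner automorphisms of `⟨wB, y⟩` move `wB` and `y` by all central elements. -/
theorem outer_inner : ∀ y : Model, InSyl y → ¬ InBase y → ∀ z1 ∈ [1, cC, cC * cC], ∀ z2 ∈ [1, cC, cC * cC],
    ∃ q ∈ [1, wB, wB * wB, y, y * wB, y * (wB * wB), y * y, y * y * wB, y * y * (wB * wB)],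
      q * wB * q⁻¹ = z1 * wB ∧ q * y * q⁻¹ = z2 * y := by
  decide +kernel

theorem outer_cent : ∀ y : Model, InSyl y → ¬ InBase y → ∀ j : Model, InBase j →
    j * y = y * j → j ∈ [1, cC, cC * cC] := by
  decide +kernel

/-- An element of the Sylow 3-subgroup does not invert `wB` modulo the centre. -/
theorem no_inverter : ∀ m : Model, InSyl m → m * wB * m⁻¹ ∉ [wB * wB, wB * wB * cC, wB * wB * (cC * cC)] := by
  decide +kernel

theorem cubB_base : InBase cubB ∧ cubB ≠ 1 ∧ cubB ^ 3 = 1 := by decide +kernel

theorem cent_cubB : ∀ y : Model, y * cubB = cubB * y →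
    (nine y = 1 → InBase y) ∧ (InBase y ∨ InBase (y * blkSwap)) := by
  decide +kernel

theorem blkSwap_cubB : blkSwap * cubB = cubB * blkSwap ∧ ¬ InBase blkSwap := by decide +kernel

/-- Elements centralising the base modulo `⟨cubB⟩` lie in it. -/
theorem cent_mod_cubB : ∀ m : Model, m * cubB = cubB * m →
    ∀ i j k : Fin 3, rotA ^ i.val * rotB ^ j.val * rotC ^ k.val ∉ [1, cubB, cubB * cubB] →
      m * (rotA ^ i.val * rotB ^ j.val * rotC ^ k.val) * m⁻¹ *
          (rotA ^ i.val * rotB ^ j.val * rotC ^ k.val)⁻¹ ∈ [1, cubB, cubB * cubB] →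
        InBase m := by
  decide +kernel

theorem base_mod_cubB : InBase rotA ∧ rotA ∉ [1, cubB, cubB * cubB] := by decide +kernel

end Cfsg.Lib.NineThree
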