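import Cfsg.Agent.Lib.NineThree.Facts9

/-!
# Permutations preserving four pairs
-/

set_option autoImplicit false
set_option maxRecDepth 100000
set_option maxHeartbeats 4000000
set_option synthInstance.maxSize 2000
set_option synthInstance.maxHeartbeats 200000

namespace Cfsg.Lib.NineThree

open Equiv

/-- The pair of a point; the fixed point is put in the first one. -/
def pairOf : Fin 9 → Fin 4 := ![0, 0, 0, 1, 1, 2, 2, 3, 3]

/-- The side of a point in its pair. -/
def sideOf : Fin 9 → Bool := ![false, true, false, false, true, false, true, false, true]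

/-- The point with given pair and side. -/
def pointOf (i : Fin 4) (b : Bool) : Fin 9 := if b then ![1, 4, 6, 8] i else ![0, 3, 5, 7] i

/-- The flip of a pair. -/
def flipBit (m : Fin 16) (i : Fin 4) : Bool := Nat.testBit m.val i.val

/-- The map with given action on the pairs and flips. -/
def pairFun (q : Perm (Fin 4)) (m : Fin 16) (x : Fin 9) : Fin 9 :=
  if x = 2 then 2 else pointOf (q (pairOf x)) (xor (sideOf x) (flipBit m (pairOf x)))

/-- The inverse map. -/
def pairInv (q : Perm (Fin 4)) (m : Fin 16) (x : Fin 9) : Fin 9 :=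
  if x = 2 then 2 else pointOf (q⁻¹ (pairOf x)) (xor (sideOf x) (flipBit m (q⁻¹ (pairOf x))))

theorem pairFun_inv : ∀ q m x, pairInv q m (pairFun q m x) = x ∧ pairFun q m (pairInv q m x) = x := by
  decide +kernel

/-- The permutation with given action on the pairs and flips. -/
def pairPerm (q : Perm (Fin 4)) (m : Fin 16) : Perm (Fin 9) :=
  ⟨pairFun q m, pairInv q m, fun x => (pairFun_inv q m x).1, fun x => (pairFun_inv q m x).2⟩

/-- The images of the eight moved points, given four of them. -/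
def pairTab (p0 p3 p5 p7 : Fin 9) : Fin 9 → Fin 9 :=
  ![p0, (tA : Perm (Fin 9)) p0, 2, p3, (tA : Perm (Fin 9)) p3, p5, (tA : Perm (Fin 9)) p5, p7,
    (tA : Perm (Fin 9)) p7]

/-- The bits of a table. -/
def tabBits (p0 p3 p5 p7 : Fin 9) : Fin 16 :=
  ⟨(if sideOf p0 then 1 else 0) + (if sideOf p3 then 2 else 0) + (if sideOf p5 then 4 else 0) +
    (if sideOf p7 then 8 else 0), by split_ifs <;> omega⟩

theorem tab_cases : ∀ a b c d : Fin 9, a ≠ 2 → b ≠ 2 → c ≠ 2 → d ≠ 2 →
    pairOf a ≠ pairOf b → pairOf a ≠ pairOf c → pairOf a ≠ pairOf d → pairOf b ≠ pairOf c →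
    pairOf b ≠ pairOf d → pairOf c ≠ pairOf d →
    ∃ q : Perm (Fin 4), q 0 = pairOf a ∧ q 1 = pairOf b ∧ q 2 = pairOf c ∧ q 3 = pairOf d ∧
      ∀ x, pairFun q (tabBits a b c d) x = pairTab a b c d x := by
  decide +kernel

theorem pair_pts : ∀ a b : Fin 9, a ≠ 2 → b ≠ 2 → pairOf a = pairOf b →
    a = b ∨ a = (tA : Perm (Fin 9)) b := by
  decide +kernel

theorem exists_pairPerm {σ : Perm (Fin 9)} (h : σ * tA = tA * σ) : ∃ q m, pairPerm q m = σ := by
  have he : ∀ x, σ ((tA : Perm (Fin 9)) x) = (tA : Perm (Fin 9)) (σ x) :=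
    fun x => congrArg (fun p : Perm (Fin 9) => p x) h
  have hfix : ∀ x, (tA : Perm (Fin 9)) x = x ↔ x = 2 := by decide +kernel
  have h2 : σ 2 = 2 := (hfix _).1 (by rw [← he, (hfix 2).2 rfl])
  have hne : ∀ x, x ≠ 2 → σ x ≠ 2 := fun x hx e => hx (σ.injective (e.trans h2.symm))
  have hpair : ∀ x y, x ≠ 2 → y ≠ 2 → x ≠ y → x ≠ (tA : Perm (Fin 9)) y → pairOf (σ x) ≠ pairOf (σ y) :=
    fun x y hx hy h1 h3 e => (pair_pts _ _ (hne x hx) (hne y hy) e).elim (fun e' => h1 (σ.injective e'))
      (fun e' => h3 (σ.injective (e'.trans (he y).symm)))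
  obtain ⟨q, -, -, -, -, hq⟩ := tab_cases (σ 0) (σ 3) (σ 5) (σ 7) (hne 0 (by decide)) (hne 3 (by decide))
    (hne 5 (by decide)) (hne 7 (by decide)) (hpair 0 3 (by decide) (by decide) (by decide) (by decide +kernel))
    (hpair 0 5 (by decide) (by decide) (by decide) (by decide +kernel))
    (hpair 0 7 (by decide) (by decide) (by decide) (by decide +kernel))
    (hpair 3 5 (by decide) (by decide) (by decide) (by decide +kernel))
    (hpair 3 7 (by decide) (by decide) (by decide) (by decide +kernel))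
    (hpair 5 7 (by decide) (by decide) (by decide) (by decide +kernel))
  refine ⟨q, _, Equiv.ext fun x => (hq x).trans ?_⟩
  have e1 := he 0
  have e3 := he 3
  have e5 := he 5
  have e7 := he 7
  rw [show (tA : Perm (Fin 9)) 0 = 1 from by decide +kernel] at e1
  rw [show (tA : Perm (Fin 9)) 3 = 4 from by decide +kernel] at e3
  rw [show (tA : Perm (Fin 9)) 5 = 6 from by decide +kernel] at e5
  rw [show (tA : Perm (Fin 9)) 7 = 8 from by decide +kernel] at e7
  fin_cases x
  exacts [rfl, e1.symm, h2.symm, rfl, e3.symm, rfl, e5.symm, rfl, e7.symm]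

theorem pairPerm_comm : ∀ q m, pairPerm q m * tA = tA * pairPerm q m := by decide +kernel

theorem pairPerm_read : ∀ q m i, pairOf (pairPerm q m (pointOf i false)) = q i ∧
    sideOf (pairPerm q m (pointOf i false)) = flipBit m i := by
  decide +kernel

theorem flipBit_ext : ∀ m n : Fin 16, (∀ i, flipBit m i = flipBit n i) → m = n := by decide +kernel

theorem pairPerm_injective (q q' : Perm (Fin 4)) (m m' : Fin 16) (h : pairPerm q m = pairPerm q' m') :
    q = q' ∧ m = m' :=
  ⟨Equiv.ext fun i => by rw [← (pairPerm_read q m i).1, h, (pairPerm_read q' m' i).1],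
    flipBit_ext _ _ fun i => by rw [← (pairPerm_read q m i).2, h, (pairPerm_read q' m' i).2]⟩

theorem card_pairs :
    (Finset.univ.filter fun x : Perm (Fin 4) × Fin 16 => Perm.sign (pairPerm x.1 x.2) = 1).card = 192 := by
  decide +kernel

/-- The middle flip. -/
def flA : Perm (Fin 9) := swap 0 1 * swap 5 6

/-- Conjugators between the flips. -/
def flipConj : List (Perm (Fin 9)) :=
  let y := (yA : Perm (Fin 9))
  [1, y, y * y, swap 5 7 * swap 6 8, swap 0 7 * swap 1 8, swap 0 3 * swap 1 4 * (swap 5 7 * swap 6 8)]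

theorem flipConj_ok : (flipConj.all fun k => decide (Perm.sign k = 1) && decide (k * tA = tA * k)) = true := by
  decide +kernel

theorem pair_y : ∀ q m, Perm.sign (pairPerm q m) = 1 →
    pairPerm q m * yA = (yA : Perm (Fin 9)) * pairPerm q m →
    ∃ i : Fin 3, pairPerm q m = (yA : Perm (Fin 9)) ^ i.val ∨
      pairPerm q m = (yA : Perm (Fin 9)) ^ i.val * tA := by
  decide +kernel

theorem pair_flip : ∀ q m, Perm.sign (pairPerm q m) = 1 → pairPerm q m * pairPerm q m = 1 →
    (pairPerm q m).support.card = 4 →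
    (∃ k ∈ flipConj, k * flA * k⁻¹ = pairPerm q m) ∨
      ∃ y ∈ [(yA : Perm (Fin 9)), (yA : Perm (Fin 9)) * yA],
        (pairPerm q m * (y * pairPerm q m * y⁻¹)) ^ 12 = 1 ∧
        (pairPerm q m * (y * pairPerm q m * y⁻¹)) ^ 4 ≠ 1 := by
  decide +kernel

end Cfsg.Lib.NineThree
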