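import Cfsg.Agent.Lib.NineThree.EndOdd
import Cfsg.Agent.Lib.NineThree.ParamPairs

/-!
# The centraliser of the involution with eight moved points
-/

set_option autoImplicit false
set_option linter.unusedSectionVars false
set_option linter.style.haveILetI false
set_option maxHeartbeats 1000000
set_option maxRecDepth 100000
set_option synthInstance.maxSize 2000
set_option synthInstance.maxHeartbeats 200000

namespace Cfsg.Lib.NineThree

open Cfsg.Lib.Recog.ThreeCubedFour Cfsg.Lib.Recog.SelfThree Subgroup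

universe u

attribute [local irreducible] j45 pairPerm

theorem even_facts : qA * tA = tA * qA ∧ pA * tA = tA * pA ∧ yA * tA = tA * yA ∧
    qA = pA * (yA * pA * yA⁻¹) ∧ pA * (yA * pA * yA⁻¹) = yA * pA * yA⁻¹ * pA ∧
    (qA : Equiv.Perm (Fin 9)) = flA ∧ qA * qA = 1 ∧ tA ≠ 1 ∧ yA ≠ 1 ∧ yA ≠ tA ∧ tA ^ 3 ≠ 1 := by
  decide +kernel

/-- An element inverting the double three-cycle and fixing the first flip. -/
def wA : A9 := ⟨Equiv.swap 0 3 * Equiv.swap 1 4, Equiv.Perm.mem_alternatingGroup.2 (by decide +kernel)⟩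

theorem w_facts : wA * tA = tA * wA ∧ wA * yA * wA⁻¹ = yA⁻¹ ∧ wA * pA * wA⁻¹ = pA := by decide +kernel

theorem five_no_inverter : ∀ a : A5, a * a = 1 → a ≠ 1 →
    a * (a0 * a * a0⁻¹) = a0 * a * a0⁻¹ * a → a ≠ a0 * a * a0⁻¹ →
    ∀ w : A5, w * a0 * w⁻¹ = a0⁻¹ → w * a * w⁻¹ ≠ a := by
  decide +kernel

/-- Two commuting conjugate involutions in a group of order not divisible by four are equal. -/
theorem mul_eq_one_of_four {X : Type u} [Group X] [Finite X] (h4 : ¬ 4 ∣ Nat.card X) {a y : X}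
    (ha : a * a = 1) (hab : a * (y * a * y⁻¹) = y * a * y⁻¹ * a) : a * (y * a * y⁻¹) = 1 := by
  set b := y * a * y⁻¹ with hb
  have hb2 : b * b = 1 := by
    rw [hb, show y * a * y⁻¹ * (y * a * y⁻¹) = y * (a * a) * y⁻¹ by group, ha, mul_one, mul_inv_cancel]
  by_contra hne
  have ha1 : a ≠ 1 := fun e => hne (by rw [hb, e]; group)
  have hb1 : b ≠ 1 := fun e => ha1 (conj_eq_one_iff.1 e)
  have hab1 : a ≠ b := fun e => hne (by rw [← e, ha])
  let H : Subgroup X :=
    { carrier := {1, a, b, a * b}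
      one_mem' := by simp
      mul_mem' := by
        intro u v hu hv
        simp only [Set.mem_insert_iff, Set.mem_singleton_iff] at hu hv ⊢
        have e1 : a * (a * b) = b := by rw [← mul_assoc, ha, one_mul]
        have e2 : b * a = a * b := hab.symm
        have e3 : b * (a * b) = a := by rw [← mul_assoc, e2, mul_assoc, hb2, mul_one]
        have e4 : a * b * a = b := by rw [mul_assoc, e2, e1]
        have e5 : a * b * b = a := by rw [mul_assoc, hb2, mul_one]
        have e6 : a * b * (a * b) = 1 := by rw [← mul_assoc, e4, hb2]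
        rcases hu with rfl | rfl | rfl | rfl <;> rcases hv with rfl | rfl | rfl | rfl <;>
          simp [ha, hb2, e1, e2, e3, e4, e5, e6]
      inv_mem' := by
        intro u hu
        simp only [Set.mem_insert_iff, Set.mem_singleton_iff] at hu ⊢
        have e6 : (a * b)⁻¹ = a * b := by
          rw [mul_inv_rev, inv_eq_of_mul_eq_one_right ha, inv_eq_of_mul_eq_one_right hb2]; exact hab.symm
        rcases hu with rfl | rfl | rfl | rfl <;>
          simp [inv_eq_of_mul_eq_one_right ha, inv_eq_of_mul_eq_one_right hb2, e6] }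
  have hcard : Nat.card H = 4 := by
    show Nat.card ((({1, a, b, a * b} : Set X)) : Type u) = 4
    rw [Nat.card_coe_set_eq, Set.ncard_insert_of_notMem (by simp [ha1.symm, hb1.symm, Ne.symm hne]) (Set.toFinite _),
      Set.ncard_insert_of_notMem (by simp [hab1, hb1]) (Set.toFinite _),
      Set.ncard_insert_of_notMem (by simp [ha1]) (Set.toFinite _), Set.ncard_singleton]
  exact h4 (hcard ▸ card_subgroup_dvd_card H)

namespace NineEmb

variable {G : Type u} [Group G] [Finite G] {F : Frame G} (E : NineEmb F)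

/-- The centraliser of the involution. -/
abbrev Ct : Subgroup G := centralizer ({E.ψ tA} : Set G)

theorem mem_Ct {g : G} : g ∈ E.Ct ↔ g * E.ψ tA = E.ψ tA * g := mem_centralizer_singleton_iff

theorem map_comm_t {a : A9} (h : a * tA = tA * a) : E.ψ a ∈ E.Ct :=
  E.mem_Ct.2 (by rw [← map_mul, h, map_mul])

/-- Elements of the alternating group commuting with the involution, in coordinates. -/
theorem exists_pair_coord {p : A9} (h : p * tA = tA * p) :
    ∃ q m, Equiv.Perm.sign (pairPerm q m) = 1 ∧ pairPerm q m = (p : Equiv.Perm (Fin 9)) := by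
  obtain ⟨q, m, e⟩ := exists_pairPerm (congrArg Subtype.val h)
  exact ⟨q, m, by rw [e]; exact Equiv.Perm.mem_alternatingGroup.1 p.2, e⟩

/-- An element of the centraliser taking the middle flip into a part of `K` closed under the
double three-cycle and prime to three lies in `K`. -/
theorem mem_of_flip {R : Subgroup G} (hR : R ≤ E.Ct) (h3 : ¬ 3 ∣ Nat.card R)
    (hy : ∀ r ∈ R, E.ψ yA * r * (E.ψ yA)⁻¹ ∈ R) {g : G} (hg : g * E.ψ qA * g⁻¹ ∈ R)
    (hgK : g * E.ψ qA * g⁻¹ ∈ E.K) : g ∈ E.K := by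
  obtain ⟨-, -, -, -, -, hqv, hq2, -, -, -, -⟩ := even_facts
  obtain ⟨p, hp⟩ := hgK
  obtain ⟨q, m, hs, e⟩ := exists_pair_coord (p := p) (Subtype.ext (E.comm_iff.1 (hp.symm ▸ E.mem_Ct.1 (hR hg))))
  have hp2 : p * p = 1 := E.inj (by
    rw [map_mul, hp, map_one, show g * E.ψ qA * g⁻¹ * (g * E.ψ qA * g⁻¹) = g * (E.ψ qA * E.ψ qA) * g⁻¹ by group,
      ← map_mul, hq2, map_one, mul_one, mul_inv_cancel])
  have hp1 : p ≠ 1 := by
    intro e1
    rw [e1, map_one] at hp
    have := E.inj ((conj_eq_one_iff.1 hp.symm).trans (map_one _).symm)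
    exact (by decide +kernel : qA ≠ 1) this
  have h4 : (p : Equiv.Perm (Fin 9)).support.card = 4 := by
    rcases support_four_or_eight hp2 hp1 with h | h
    · exact h
    · exact absurd (isConj_iff.2 ⟨g, hp.symm⟩) (E.not_fused hq2 moved9.2.2.2.1 hp2 h)
  rcases pair_flip q m hs (by rw [e]; exact congrArg Subtype.val hp2) (by rw [e]; exact h4) with
    ⟨k, hk, hkq⟩ | ⟨y, hy', h12, hne⟩
  · have hk' := List.all_eq_true.1 flipConj_ok k hk
    simp only [Bool.and_eq_true, decide_eq_true_eq] at hk'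
    set kk : A9 := ⟨k, Equiv.Perm.mem_alternatingGroup.2 hk'.1⟩ with hkk
    have hkp : kk * qA * kk⁻¹ = p := Subtype.ext (by
      show k * (qA : Equiv.Perm (Fin 9)) * k⁻¹ = p
      rw [hqv, hkq, e])
    have hcq : centralizer ({E.ψ qA} : Set G) ≤ E.K :=
      E.cent_transport (isConj_sA hq2 moved9.2.2.2.1) E.Cs_le
    have hd : (E.ψ kk)⁻¹ * g ∈ E.K := hcq (mem_centralizer_singleton_iff.2 (by
      rw [← mul_inv_eq_iff_eq_mul]
      calc (E.ψ kk)⁻¹ * g * E.ψ qA * ((E.ψ kk)⁻¹ * g)⁻¹ =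
            (E.ψ kk)⁻¹ * (g * E.ψ qA * g⁻¹) * E.ψ kk := by group
        _ = (E.ψ kk)⁻¹ * (E.ψ kk * E.ψ qA * (E.ψ kk)⁻¹) * E.ψ kk := by rw [← map_conj, hkp, hp]
        _ = E.ψ qA := by group))
    have := mul_mem (E.mem_K kk) hd
    rwa [mul_inv_cancel_left] at this
  exfalso
  rw [← hp] at hg
  obtain ⟨yy, hyy, hyR⟩ : ∃ yy : A9, (yy : Equiv.Perm (Fin 9)) = y ∧ E.ψ (yy * p * yy⁻¹) ∈ R := by
    simp only [List.mem_cons, List.not_mem_nil, or_false] at hy'
    rcases hy' with rfl | rfl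
    · exact ⟨yA, rfl, by rw [map_conj]; exact hy _ hg⟩
    · exact ⟨yA * yA, rfl, by
        rw [map_conj, map_mul]
        have := hy _ (hy _ hg)
        simpa [mul_assoc] using this⟩
  set u : A9 := p * (yy * p * yy⁻¹) with hu
  have hu' : (u : Equiv.Perm (Fin 9)) = pairPerm q m * (y * pairPerm q m * y⁻¹) := by
    rw [hu, e, ← hyy]; rfl
  have huR : E.ψ u ∈ R := by rw [hu, map_mul]; exact mul_mem hg hyR
  have h1 : orderOf (⟨E.ψ u, huR⟩ : R) ∣ 4 := by
    refine Nat.Coprime.dvd_of_dvd_mul_left (k := orderOf (⟨E.ψ u, huR⟩ : R)) (m := 3) ?_ ?_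
    · refine (Nat.prime_three.coprime_iff_not_dvd.2 fun hd => h3 (hd.trans (orderOf_dvd_natCard _))).symm
    · refine orderOf_dvd_of_pow_eq_one (Subtype.ext ?_)
      show E.ψ u ^ (3 * 4) = 1
      rw [← map_pow, show u ^ (3 * 4) = 1 from Subtype.ext (by rw [Subgroup.coe_pow, hu']; exact h12), map_one]
  refine hne ?_
  rw [← hu', ← Subgroup.coe_pow]
  have h1' : E.ψ (u ^ 4) = 1 := by
    rw [map_pow]
    exact congrArg Subtype.val (orderOf_dvd_iff_pow_eq_one.1 h1)
  rw [E.inj (h1'.trans (map_one _).symm)]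
  rfl

theorem card_Ct : 192 ≤ Nat.card ↥(E.Ct ⊓ E.K) := by
  classical
  have h := card_pairs
  rw [← Fintype.card_subtype, ← Nat.card_eq_fintype_card] at h
  rw [← h]
  refine Nat.card_le_card_of_injective
    (fun x : {x : Equiv.Perm (Fin 4) × Fin 16 // Equiv.Perm.sign (pairPerm x.1 x.2) = 1} =>
      (⟨E.ψ ⟨pairPerm x.1.1 x.1.2, Equiv.Perm.mem_alternatingGroup.2 x.2⟩,
        E.map_comm_t (Subtype.ext (pairPerm_comm x.1.1 x.1.2)), E.mem_K _⟩ : ↥(E.Ct ⊓ E.K))) ?_
  rintro ⟨⟨q, m⟩, hx⟩ ⟨⟨q', m'⟩, hy⟩ e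
  obtain ⟨e1, e2⟩ := pairPerm_injective q q' m m' (congrArg Subtype.val (E.inj (congrArg Subtype.val e)))
  exact Subtype.ext (Prod.ext e1 e2)

/-- The centraliser of the involution lies in the embedded group. -/
theorem Ct_le : E.Ct ≤ E.K := by
  classical
  obtain ⟨hqt, hpt, hyt, hqeq, hpy, -, hq2, ht1, hy1, hyt1, ht3⟩ := even_facts
  set S : ↥E.Ct := ⟨E.ψ tA, E.map_comm_t rfl⟩ with hS
  set Y : ↥E.Ct := ⟨E.ψ yA, E.map_comm_t hyt⟩ with hY
  have hScen : zpowers S ≤ center ↥E.Ct := zpowers_le.2 (mem_center_iff.2 fun c =>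
    Subtype.ext (E.mem_Ct.1 c.2))
  haveI : (zpowers S).Normal := ⟨fun z hz c => by
    rwa [mem_center_iff.1 (hScen hz) c, mul_inv_cancel_right]⟩
  have hS2 : S * S = 1 := Subtype.ext (E.map_inv_involution basics9.2.2.2.2.2.1)
  have hS1 : S ≠ 1 := fun e => ht1 (E.inj ((congrArg Subtype.val e).trans (map_one _).symm))
  have hmemS : ∀ z, z ∈ zpowers S ↔ z = 1 ∨ z = S := by
    intro z
    constructor
    · rintro ⟨n, rfl⟩
      rcases Int.emod_two_eq_zero_or_one n with hn | hn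
      · left
        obtain ⟨k, rfl⟩ : ∃ k, n = 2 * k := ⟨n / 2, by omega⟩
        show S ^ (2 * k) = 1
        rw [zpow_mul, zpow_two, hS2, one_zpow]
      · right
        obtain ⟨k, rfl⟩ : ∃ k, n = 2 * k + 1 := ⟨n / 2, by omega⟩
        show S ^ (2 * k + 1) = S
        rw [zpow_add, zpow_mul, zpow_two, hS2, one_zpow, one_mul, zpow_one]
    · rintro (rfl | rfl)
      · exact one_mem _
      · exact mem_zpowers _
  have hcardS : Nat.card (zpowers S) = 2 := by
    rw [Nat.card_zpowers]; exact orderOf_eq_prime (by rw [pow_two, hS2]) hS1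
  set π := QuotientGroup.mk' (zpowers S) with hπ
  have hπS : π S = 1 := (QuotientGroup.eq_one_iff S).2 (mem_zpowers S)
  have hker : ∀ a b : ↥E.Ct, π a = π b → (a : G) = b ∨ (a : G) = E.ψ tA * b := by
    intro a b h
    rw [hπ, QuotientGroup.mk'_apply, QuotientGroup.mk'_apply, QuotientGroup.eq_iff_div_mem, hmemS,
      div_eq_one, div_eq_iff_eq_mul] at h
    exact h.imp (congrArg Subtype.val) (congrArg Subtype.val)
  have hY3 : E.ψ yA ^ 3 = 1 := by rw [← map_pow, basics9.2.2.2.2.2.2.2.2, map_one]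
  have hsc : SC (π Y) := by
    constructor
    · refine orderOf_eq_prime (hp := ⟨Nat.prime_three⟩) ?_ fun e => ?_
      · rw [← map_pow, show Y ^ 3 = 1 from Subtype.ext hY3, map_one]
      · rcases hker Y 1 (e.trans (map_one _).symm) with e' | e'
        · exact hy1 (E.inj (e'.trans (map_one _).symm))
        · exact hyt1 (E.inj (e'.trans (mul_one _)))
    · intro z hz
      obtain ⟨c, rfl⟩ := QuotientGroup.mk'_surjective (zpowers S) z
      have hcc : π (c * Y * c⁻¹) = π Y := by rw [map_mul, map_mul, map_inv, hz, mul_inv_cancel_right]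
      have hcY : (c : G) * E.ψ yA = E.ψ yA * c := by
        rcases hker _ _ hcc with e | e
        · exact mul_inv_eq_iff_eq_mul.1 e
        · exfalso
          have e3 := congrArg (· ^ 3) e
          simp only [Subgroup.coe_mul, Subgroup.coe_inv, conj_pow] at e3
          rw [(show Commute (E.ψ tA) ((Y : ↥E.Ct) : G) from (E.mem_Ct.1 Y.2).symm).mul_pow,
            show ((Y : ↥E.Ct) : G) ^ 3 = 1 from hY3, mul_one, mul_one, mul_inv_cancel] at e3
          exact ht3 (E.inj (by rw [map_pow, map_one]; exact e3.symm))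
      obtain ⟨p, hp⟩ := E.cent_three basics9.2.2.2.2.2.2.2.2 hy1 (mem_centralizer_singleton_iff.2 hcY)
      obtain ⟨q, m, hs, e⟩ := exists_pair_coord (p := p)
        (Subtype.ext (E.comm_iff.1 (hp.symm ▸ E.mem_Ct.1 c.2)))
      obtain ⟨i, hi⟩ := pair_y q m hs (by rw [e]; exact E.comm_iff.1 (hp.symm ▸ hcY))
      refine ⟨(i.val : ℤ), ?_⟩
      show (π Y) ^ (i.val : ℤ) = _
      rw [zpow_natCast, ← map_pow]
      have key : ∀ r : A9, (r : Equiv.Perm (Fin 9)) = pairPerm q m → E.ψ r = (c : G) := fun r hr => by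
        rw [← hp]; exact congrArg E.ψ (Subtype.ext (hr.trans e))
      rcases hi with hi | hi
      · rw [show c = Y ^ i.val from Subtype.ext (by
          rw [Subgroup.coe_pow, ← key (yA ^ i.val) (by rw [Subgroup.coe_pow, hi]), map_pow])]
      · rw [show c = Y ^ i.val * S from Subtype.ext (by
          rw [Subgroup.coe_mul, Subgroup.coe_pow, ← key (yA ^ i.val * tA) (by
            rw [Subgroup.coe_mul, Subgroup.coe_pow, hi]), map_mul, map_pow]), map_mul π _ S, hπS, mul_one]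
  have hcardQ : Nat.card ↥E.Ct = Nat.card (↥E.Ct ⧸ zpowers S) * 2 := by
    rw [Subgroup.card_eq_card_quotient_mul_card_subgroup (zpowers S), hcardS]
  -- the image of the middle flip
  have hPY : (⟨E.ψ qA, E.map_comm_t hqt⟩ : ↥E.Ct) =
      ⟨E.ψ pA, E.map_comm_t hpt⟩ * (Y * ⟨E.ψ pA, E.map_comm_t hpt⟩ * Y⁻¹) := Subtype.ext (by
    show E.ψ qA = E.ψ pA * (E.ψ yA * E.ψ pA * (E.ψ yA)⁻¹)
    rw [hqeq, map_mul, map_conj])
  -- it suffices to find a nilpotent normal subgroup containing it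
  have finish : ∀ N : Subgroup (↥E.Ct ⧸ zpowers S), N.Normal → ¬ 3 ∣ Nat.card N →
      π ⟨E.ψ qA, E.map_comm_t hqt⟩ ∈ N → E.Ct ≤ E.K := by
    intro N hN hN3 hqN
    set R' : Subgroup ↥E.Ct := N.comap π with hR'
    haveI hRn : R'.Normal := hN.comap π
    set R : Subgroup G := R'.map E.Ct.subtype with hR
    have hRle : R ≤ E.Ct := map_subtype_le _
    have hNnil : Group.IsNilpotent N := hsc.nilpotent ⟨fun k hk => hN.conj_mem k hk _, hN3⟩
    haveI hRnil' : Group.IsNilpotent R' := by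
      haveI := hNnil
      let f : R' →* N := (π.comp R'.subtype).codRestrict N fun r => r.2
      refine Subgroup.isNilpotent_of_ker_le_center f (fun r hr => ?_)
      have h1 : π (r : ↥E.Ct) = 1 := congrArg Subtype.val (MonoidHom.mem_ker.1 hr)
      have h2 : (r : ↥E.Ct) ∈ center ↥E.Ct := hScen ((QuotientGroup.eq_one_iff _).1 h1)
      exact mem_center_iff.2 fun s => Subtype.ext (mem_center_iff.1 h2 s)
    haveI hRnil : Group.IsNilpotent R :=
      Group.nilpotent_of_mulEquiv (R'.equivMapOfInjective E.Ct.subtype E.Ct.subtype_injective)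
    have hR3 : ¬ 3 ∣ Nat.card R := by
      rw [hR, Subgroup.card_map_of_injective E.Ct.subtype_injective, hR',
        Core.card_comap_eq _ (QuotientGroup.mk'_surjective _), QuotientGroup.ker_mk', hcardS]
      intro hd
      rcases Nat.prime_three.dvd_mul.1 hd with h | h
      · norm_num at h
      · exact hN3 h
    have hRc : ∀ c ∈ E.Ct, ∀ r ∈ R, c * r * c⁻¹ ∈ R := by
      rintro c hc _ ⟨r, hr, rfl⟩
      exact ⟨_, hRn.conj_mem r hr ⟨c, hc⟩, rfl⟩
    have hqR : E.ψ qA ∈ R := ⟨_, hqN, rfl⟩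
    have hRy : ∀ r ∈ R, E.ψ yA * r * (E.ψ yA)⁻¹ ∈ R := hRc _ (E.map_comm_t hyt)
    have hRK : R ≤ E.K := by
      by_contra hne
      set M : Subgroup R := E.K.subgroupOf R with hM
      have hlt : M < ⊤ := lt_top_iff_ne_top.2 fun e => hne (subgroupOf_eq_top.1 e)
      obtain ⟨x, hxN, hxM⟩ := SetLike.exists_of_lt
        ((Group.normalizerCondition_of_isNilpotent (G := R)) M hlt)
      have h1 : x * ⟨E.ψ qA, hqR⟩ * x⁻¹ ∈ M := (mem_normalizer_iff.1 hxN _).1 (E.mem_K qA)
      exact hxM (E.mem_of_flip hRle hR3 hRy (mul_mem (mul_mem x.2 hqR) (inv_mem x.2)) h1)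
    intro g hg
    exact E.mem_of_flip hRle hR3 hRy (hRc g hg _ hqR) (hRK (hRc g hg _ hqR))
  rcases struct_of_sc hsc with ⟨N, hN, hN3, hidx⟩ | ⟨N, hN, hN3, -, ⟨e⟩⟩ | ⟨-, h168⟩
  · refine finish N hN hN3 ?_
    rw [← QuotientGroup.eq_one_iff, hPY, ← QuotientGroup.mk'_apply, map_mul, map_mul, map_mul, map_inv,
      map_mul, map_mul, map_mul, map_inv]
    refine mul_eq_one_of_four ?_ ?_ ?_
    · rw [← Subgroup.index_eq_card]
      rcases hidx with h | h <;> rw [h] <;> norm_num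
    · rw [← map_mul, ← map_mul, show (⟨E.ψ pA, E.map_comm_t hpt⟩ : ↥E.Ct) * ⟨E.ψ pA, E.map_comm_t hpt⟩ = 1 from
        Subtype.ext (E.map_inv_involution basics9.2.2.2.2.1), map_one, map_one]
    · rw [← map_inv, ← map_inv, ← map_mul, ← map_mul, ← map_mul, ← map_mul, ← map_mul, ← map_mul, ← map_mul,
        ← map_mul, show (⟨E.ψ pA, E.map_comm_t hpt⟩ : ↥E.Ct) * (Y * ⟨E.ψ pA, E.map_comm_t hpt⟩ * Y⁻¹) =
          Y * ⟨E.ψ pA, E.map_comm_t hpt⟩ * Y⁻¹ * ⟨E.ψ pA, E.map_comm_t hpt⟩ from Subtype.ext (by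
            show E.ψ pA * (E.ψ yA * E.ψ pA * (E.ψ yA)⁻¹) = E.ψ yA * E.ψ pA * (E.ψ yA)⁻¹ * E.ψ pA
            rw [← map_conj, ← map_mul, ← map_mul, hpy])]
  · -- the alternating quotient
    obtain ⟨hwt, hwy, hwp⟩ := w_facts
    let θ0 : ↥E.Ct →* A5 := e.toMonoidHom.comp ((QuotientGroup.mk' N).comp π)
    have hy3 : (θ0 Y) ^ 3 = 1 := by rw [← map_pow, show Y ^ 3 = 1 from Subtype.ext hY3, map_one]
    have hy1' : θ0 Y ≠ 1 := fun h => hN3 (by
      have hmem : π Y ∈ N := (QuotientGroup.eq_one_iff _).1 (e.injective (h.trans (map_one _).symm))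
      rw [← hsc.1]
      exact N.orderOf_dvd_natCard hmem)
    obtain ⟨k, hk⟩ := fact_conj _ hy3 hy1'
    let θ : ↥E.Ct →* A5 := (MulAut.conj k).toMonoidHom.comp θ0
    have hθY : θ Y = a0 := hk
    refine finish N hN hN3 ?_
    rw [← QuotientGroup.eq_one_iff]
    apply e.injective
    rw [map_one]
    apply (MulAut.conj k).injective
    rw [map_one]
    show θ ⟨E.ψ qA, E.map_comm_t hqt⟩ = 1
    set P : ↥E.Ct := ⟨E.ψ pA, E.map_comm_t hpt⟩ with hP
    set W : ↥E.Ct := ⟨E.ψ wA, E.map_comm_t hwt⟩ with hW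
    have ha2 : θ P * θ P = 1 := by
      rw [← map_mul, show P * P = 1 from Subtype.ext (E.map_inv_involution basics9.2.2.2.2.1), map_one]
    have hab : θ P * (a0 * θ P * a0⁻¹) = a0 * θ P * a0⁻¹ * θ P := by
      rw [← hθY, ← map_inv, ← map_mul, ← map_mul, ← map_mul, ← map_mul]
      refine congrArg θ (Subtype.ext ?_)
      show E.ψ pA * (E.ψ yA * E.ψ pA * (E.ψ yA)⁻¹) = E.ψ yA * E.ψ pA * (E.ψ yA)⁻¹ * E.ψ pA
      rw [← map_conj, ← map_mul, ← map_mul, hpy]
    rw [hPY, map_mul, map_mul, map_mul, map_inv, hθY]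
    by_contra hne
    have ha1 : θ P ≠ 1 := fun h => hne (by rw [h]; group)
    have hab1 : θ P ≠ a0 * θ P * a0⁻¹ := fun h => hne (by rw [← h, ha2])
    refine five_no_inverter _ ha2 ha1 hab hab1 (θ W) ?_ ?_
    · rw [← hθY, ← map_inv, ← map_inv, ← map_mul, ← map_mul]
      refine congrArg θ (Subtype.ext ?_)
      show E.ψ wA * E.ψ yA * (E.ψ wA)⁻¹ = (E.ψ yA)⁻¹
      rw [← map_conj, hwy, map_inv]
    · rw [← map_inv, ← map_mul, ← map_mul]
      refine congrArg θ (Subtype.ext ?_)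
      show E.ψ wA * E.ψ pA * (E.ψ wA)⁻¹ = E.ψ pA
      rw [← map_conj, hwp]
  · intro g hg
    have h2 : Nat.card ↥E.Ct = 336 := by rw [hcardQ, h168]
    have hd := card_dvd_of_le (inf_le_left : E.Ct ⊓ E.K ≤ E.Ct)
    rw [h2] at hd
    have hge := E.card_Ct
    have heq : Nat.card ↥(E.Ct ⊓ E.K) = 336 := by
      obtain ⟨k, hk⟩ := hd
      have : k = 1 := by
        rcases k with _ | _ | k
        · omega
        · rfl
        · exfalso
          have := Nat.mul_le_mul hge (show 2 ≤ k + 1 + 1 by omega)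
          omega
      rw [this, mul_one] at hk
      exact hk.symm
    exact (inf_eq_left.1 (eq_of_le_of_card_ge inf_le_left (by rw [h2, heq]))) hg

end NineEmb

end Cfsg.Lib.NineThree
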