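import Cfsg.Agent.Lib.NineThree.EndPair
import Cfsg.Agent.Lib.NineThree.Tools
import Cfsg.Agent.Lib.ZStar.Main
import Mathlib.GroupTheory.FixedPointFree

/-!
# The centraliser of the involution with four moved points
-/

set_option autoImplicit false
set_option linter.unusedSectionVars false
set_option linter.style.haveILetI false
set_option maxHeartbeats 1000000
set_option maxRecDepth 100000
set_option synthInstance.maxSize 2000
set_option synthInstance.maxHeartbeats 200000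

namespace Cfsg.Lib.NineThree

open Cfsg.Lib.Recog.ThreeCubedFour Subgroup

universe u

attribute [local irreducible] j45

/-- An involution acting without fixed points inverts. -/
theorem inverts_of_fpf {X : Type u} [Group X] {W : Subgroup X} [Finite W] {t : X} (ht : t * t = 1)
    (hW : ∀ w ∈ W, t * w * t⁻¹ ∈ W) (hfix : ∀ w ∈ W, t * w = w * t → w = 1) {w : X} (hw : w ∈ W) :
    t * w * t⁻¹ = w⁻¹ := by
  let φ : W →* W :=
    { toFun := fun v => ⟨t * v * t⁻¹, hW v v.2⟩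
      map_one' := Subtype.ext (by simp)
      map_mul' := fun a b => Subtype.ext (by simp [mul_assoc]) }
  have h : MonoidHom.FixedPointFree φ := fun v hv => Subtype.ext (hfix v v.2 (by
    have e : t * (v : X) * t⁻¹ = v := congrArg Subtype.val hv
    rwa [mul_inv_eq_iff_eq_mul] at e))
  have h2 : Function.Involutive φ := fun v => Subtype.ext (by
    show t * (t * (v : X) * t⁻¹) * t⁻¹ = v
    calc _ = (t * t) * (v : X) * (t * t)⁻¹ := by group
      _ = v := by rw [ht]; group)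
  exact congrArg Subtype.val (congrFun (h.coe_eq_inv_of_involutive h2) ⟨w, hw⟩)

theorem odd_facts : pA * sA = sA * pA ∧ cyA * sA = sA * cyA ∧ cyA ≠ 1 ∧ gA * sA = sA * gA ∧
    gA * rA * gA⁻¹ = sA * rA ∧ rA * sA = sA * rA ∧ rA ≠ 1 ∧ rA ≠ sA ∧
    (pA * (cyA * pA * cyA⁻¹)) ^ 3 = 1 ∧ pA * (cyA * pA * cyA⁻¹) ≠ 1 ∧ sA ≠ 1 := by
  decide +kernel

theorem five_facts : f45 * s45 = s45 * f45 ∧ f45 * r45 = r45 * f45 ∧ Even45 f45 ∧ f45 ^ 5 = 1 ∧ f45 ≠ 1 := by
  decide +kernel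

theorem support_four_or_eight {σ : A9} (h : σ * σ = 1) (h1 : σ ≠ 1) :
    (σ : Equiv.Perm (Fin 9)).support.card = 4 ∨ (σ : Equiv.Perm (Fin 9)).support.card = 8 := by
  have h2 : (σ : Equiv.Perm (Fin 9)) ^ 2 = 1 := by rw [pow_two]; exact congrArg Subtype.val h
  have e := Equiv.Perm.cycleType_of_pow_prime_eq_one (p := 2) h2
  set n := Multiset.card (σ : Equiv.Perm (Fin 9)).cycleType
  have hsum := (σ : Equiv.Perm (Fin 9)).sum_cycleType
  rw [e, Multiset.sum_replicate, smul_eq_mul] at hsum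
  have hle : (σ : Equiv.Perm (Fin 9)).support.card ≤ 9 := Finset.card_le_univ _
  have hn : n ≠ 0 := fun e0 => h1 (Subtype.ext (Equiv.Perm.support_eq_empty_iff.1
    (Finset.card_eq_zero.1 (by omega))))
  have hs := Equiv.Perm.mem_alternatingGroup.1 σ.2
  rw [Equiv.Perm.sign_of_cycleType, e, Multiset.sum_replicate, Multiset.card_replicate, smul_eq_mul] at hs
  have heven : Even (n * 2 + n) := neg_one_pow_eq_one_iff_even (by decide) |>.1 hs
  obtain ⟨k, hk⟩ := heven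
  omega

namespace NineEmb

variable {G : Type u} [Group G] [Finite G] {F : Frame G} (E : NineEmb F)

/-- The centraliser of the involution. -/
abbrev Cs : Subgroup G := centralizer ({E.ψ sA} : Set G)

theorem mem_Cs {g : G} : g ∈ E.Cs ↔ g * E.ψ sA = E.ψ sA * g := mem_centralizer_singleton_iff

theorem map_comm {a : A9} (h : a * sA = sA * a) : E.ψ a ∈ E.Cs :=
  E.mem_Cs.2 (by rw [← map_mul, h, map_mul])

theorem map_inv_involution {a : A9} (h : a * a = 1) : E.ψ a * E.ψ a = 1 := by rw [← map_mul, h, map_one]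

/-- Odd normal subgroups of the centraliser meet the embedded group trivially. -/
theorem odd_inf_eq_one {W : Subgroup G} (hW : W ≤ E.Cs) (hodd : (Nat.card W).Coprime 2)
    (hn : ∀ c ∈ E.Cs, ∀ w ∈ W, c * w * c⁻¹ ∈ W) {p : A9} (hp : E.ψ p ∈ W) : p = 1 := by
  obtain ⟨x, hx, hxs, e⟩ := exists_coord (p := p) (Subtype.ext (E.comm_iff.1 (E.mem_Cs.1 (hW hp))))
  have hpn : p ^ Nat.card W = 1 := E.inj (by
    rw [map_pow, map_one]
    exact congrArg Subtype.val (pow_card_eq_one' (x := (⟨E.ψ p, hp⟩ : W))))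
  have hxn : x ^ Nat.card W = 1 := j45_injective (by
    rw [map_pow, e, map_one, ← Subgroup.coe_pow, hpn]; rfl)
  have hq : x.1 = 1 := by
    have h1 : x.1 ^ Nat.card W = 1 := congrArg Prod.fst hxn
    have h2 : x.1 ^ 8 = 1 := q_odd x.1 (congrArg Prod.fst hxs)
    have h3 : (Nat.card W).Coprime 8 := Nat.Coprime.pow_right 3 hodd
    rw [← orderOf_eq_one_iff, ← Nat.dvd_one, ← h3.gcd_eq_one]
    exact Nat.dvd_gcd (orderOf_dvd_of_pow_eq_one h1) (orderOf_dvd_of_pow_eq_one h2)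
  have heven : ∀ r : alternatingGroup (Fin 5), Even45 (1, r.1) := fun r => by
    show Equiv.Perm.sign (1 : Equiv.Perm (Fin 4)) * Equiv.Perm.sign r.1 = 1
    rw [map_one, one_mul]; exact Equiv.Perm.mem_alternatingGroup.1 r.2
  let ι : alternatingGroup (Fin 5) →* A9 :=
    { toFun := fun r => el (1, r.1) (heven r)
      map_one' := Subtype.ext (map_one j45)
      map_mul' := fun a b => Subtype.ext (by
        show j45 (1, (a * b).1) = j45 (1, a.1) * j45 (1, b.1)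
        rw [← map_mul]; congr 1) }
  have hιC : ∀ r, E.ψ (ι r) ∈ E.Cs := fun r => E.mem_Cs.2 ((E.el_comm (heven r) j45_eqs.1).2
    (Prod.ext ((one_mul _).trans (mul_one _).symm) ((mul_one _).trans (one_mul _).symm)))
  let M : Subgroup (alternatingGroup (Fin 5)) := W.comap (E.ψ.comp ι)
  have hMn : M.Normal := ⟨fun a ha g => by
    show E.ψ (ι (g * a * g⁻¹)) ∈ W
    rw [map_mul, map_mul, map_inv, map_mul, map_mul, map_inv]
    exact hn _ (hιC g) _ ha⟩
  have hr : x.2 ∈ alternatingGroup (Fin 5) := by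
    have h' : _ * _ = _ := hx
    rw [hq, map_one, one_mul] at h'
    exact Equiv.Perm.mem_alternatingGroup.2 h'
  have hdec : ι ⟨x.2, hr⟩ = p := Subtype.ext (by
    show j45 (1, x.2) = (p : Equiv.Perm (Fin 9))
    rw [← e, ← hq])
  have hin : (⟨x.2, hr⟩ : alternatingGroup (Fin 5)) ∈ M := by
    show E.ψ (ι _) ∈ W
    rw [hdec]; exact hp
  haveI : IsSimpleGroup (alternatingGroup (Fin 5)) := alternatingGroup.isSimpleGroup (by simp)
  rcases hMn.eq_bot_or_eq_top with hb | ht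
  · rw [hb, mem_bot] at hin
    rw [← hdec, hin, map_one]
  · exfalso
    let d : alternatingGroup (Fin 5) :=
      ⟨Equiv.swap 0 1 * Equiv.swap 2 3, Equiv.Perm.mem_alternatingGroup.2 (by decide +kernel)⟩
    have hd2 : d ^ 2 = 1 := Subtype.ext (by decide +kernel)
    have hd1 : d ≠ 1 := by decide +kernel
    have hdW : E.ψ (ι d) ∈ W := (ht ▸ mem_top d : d ∈ M)
    have h1 : orderOf (⟨E.ψ (ι d), hdW⟩ : W) ∣ 1 := by
      rw [← hodd.gcd_eq_one]
      refine Nat.dvd_gcd (orderOf_dvd_natCard _) (orderOf_dvd_of_pow_eq_one (Subtype.ext ?_))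
      show E.ψ (ι d) ^ 2 = 1
      rw [← map_pow, ← map_pow, hd2, map_one, map_one]
    rw [Nat.dvd_one, orderOf_eq_one_iff] at h1
    have e1 : el (1, d.1) (heven d) = (1 : A9) := E.inj ((congrArg Subtype.val h1).trans (map_one _).symm)
    have e2 := j45_injective ((congrArg Subtype.val e1).trans (map_one j45).symm)
    exact hd1 (Subtype.ext (congrArg Prod.snd e2))

/-- The centraliser has trivial odd core. -/
theorem oddCore_Cs : Cfsg.oddCore ↥E.Cs = ⊥ := by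
  set W : Subgroup G := (Cfsg.oddCore ↥E.Cs).map E.Cs.subtype with hWdef
  have hnorm : (Cfsg.oddCore ↥E.Cs).Normal := by
    haveI := Core.pPrimeCore_characteristic (p := 2) (G := ↥E.Cs)
    infer_instance
  have hWle : W ≤ E.Cs := map_subtype_le _
  have hodd : (Nat.card W).Coprime 2 := by
    rw [hWdef, Subgroup.card_map_of_injective E.Cs.subtype_injective]
    exact Core.pPrimeCore_coprime 2 _
  have hn : ∀ c ∈ E.Cs, ∀ w ∈ W, c * w * c⁻¹ ∈ W := by
    rintro c hc _ ⟨w, hw, rfl⟩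
    exact ⟨_, hnorm.conj_mem w hw ⟨c, hc⟩, rfl⟩
  have hWK : ∀ w ∈ W, w ∈ E.K → w = 1 := by
    rintro w hw ⟨p, rfl⟩
    rw [E.odd_inf_eq_one hWle hodd hn hw, map_one]
  obtain ⟨hps, hcs, hcy, -, -, -, -, -, hD, hD1, -⟩ := odd_facts
  have hfix : ∀ w ∈ W, E.ψ pA * w = w * E.ψ pA → w = 1 := fun w hw h =>
    hWK w hw (E.pair2_le (E.mem_C2.2 ⟨E.mem_Cs.1 (hWle hw), h.symm⟩))
  have hinv : ∀ w ∈ W, E.ψ pA * w * (E.ψ pA)⁻¹ = w⁻¹ := fun w hw =>
    inverts_of_fpf (E.map_inv_involution basics9.2.2.2.2.1) (hn _ (E.map_comm hps)) hfix hw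
  have hinv2 : ∀ w ∈ W, E.ψ (cyA * pA * cyA⁻¹) * w * (E.ψ (cyA * pA * cyA⁻¹))⁻¹ = w⁻¹ := by
    intro w hw
    have hc := E.map_comm hcs
    have hw' : (E.ψ cyA)⁻¹ * w * E.ψ cyA ∈ W := by
      have := hn _ (inv_mem hc) w hw
      rwa [inv_inv] at this
    have := hinv _ hw'
    calc _ = E.ψ cyA * (E.ψ pA * ((E.ψ cyA)⁻¹ * w * E.ψ cyA) * (E.ψ pA)⁻¹) * (E.ψ cyA)⁻¹ := by
          rw [map_mul, map_mul, map_inv]; group
      _ = w⁻¹ := by rw [this]; group
  have hcomm : ∀ w ∈ W, w * E.ψ (pA * (cyA * pA * cyA⁻¹)) = E.ψ (pA * (cyA * pA * cyA⁻¹)) * w := by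
    intro w hw
    set b := E.ψ (cyA * pA * cyA⁻¹) with hb
    set a := E.ψ pA with ha
    have e2 : b * w * b⁻¹ = w⁻¹ := hinv2 w hw
    have e1 : a * w⁻¹ * a⁻¹ = w := by rw [hinv _ (inv_mem hw), inv_inv]
    rw [map_mul, ← hb, ← ha]
    calc w * (a * b) = a * (b * w * b⁻¹) * a⁻¹ * (a * b) := by rw [e2, e1]
      _ = a * b * w := by group
  rw [eq_bot_iff]
  intro w hw
  have hwW : (w : G) ∈ W := mem_map_of_mem _ hw
  exact Subgroup.mem_bot.2 (Subtype.ext (hWK _ hwW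
    (E.cent_three hD hD1 (mem_centralizer_singleton_iff.2 (hcomm _ hwW)))))

/-- An element of the centraliser fixing the companion modulo the involution lies in `K`. -/
theorem mem_of_conj_r {m : G} (hm : m ∈ E.Cs)
    (h : m * E.ψ rA * m⁻¹ = E.ψ rA ∨ m * E.ψ rA * m⁻¹ = E.ψ sA * E.ψ rA) : m ∈ E.K := by
  rcases h with h | h
  · exact E.pair_le (E.mem_C2.2 ⟨E.mem_Cs.1 hm, mul_inv_eq_iff_eq_mul.1 h⟩)
  · obtain ⟨-, -, -, hgs, hgr, -⟩ := odd_facts
    have hg := E.map_comm hgs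
    have hd : (E.ψ gA)⁻¹ * m ∈ E.K := E.pair_le (E.mem_C2.2 ⟨E.mem_Cs.1 (mul_mem (inv_mem hg) hm), by
      rw [← mul_inv_eq_iff_eq_mul]
      calc (E.ψ gA)⁻¹ * m * E.ψ rA * ((E.ψ gA)⁻¹ * m)⁻¹ =
            (E.ψ gA)⁻¹ * (m * E.ψ rA * m⁻¹) * E.ψ gA := by group
        _ = (E.ψ gA)⁻¹ * E.ψ (gA * rA * gA⁻¹) * E.ψ gA := by rw [h, hgr, map_mul]
        _ = E.ψ rA := by rw [map_conj]; group⟩)
    have := mul_mem (E.mem_K gA) hd
    rwa [mul_inv_cancel_left] at this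

/-- The image of the companion is isolated modulo the involution. -/
theorem isolated_step {g : G} (hg : g ∈ E.Cs)
    (hcomm : g * E.ψ rA * g⁻¹ * E.ψ rA * (g * E.ψ rA * g⁻¹)⁻¹ = E.ψ rA ∨
      g * E.ψ rA * g⁻¹ * E.ψ rA * (g * E.ψ rA * g⁻¹)⁻¹ = E.ψ sA * E.ψ rA) :
    g * E.ψ rA * g⁻¹ = E.ψ rA ∨ g * E.ψ rA * g⁻¹ = E.ψ sA * E.ψ rA := by
  obtain ⟨-, -, -, hgs, hgr, hrs, hr1, -⟩ := odd_facts
  have hgs' := E.mem_Cs.1 hg
  have hz : g * E.ψ rA * g⁻¹ ∈ E.Cs := mul_mem (mul_mem hg (E.map_comm hrs)) (inv_mem hg)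
  obtain ⟨p, hp⟩ := E.mem_of_conj_r hz hcomm
  obtain ⟨x, hx, hxs, e⟩ := exists_coord (p := p) (Subtype.ext (E.comm_iff.1 (hp.symm ▸ E.mem_Cs.1 hz)))
  have hrr : E.ψ rA * E.ψ rA = 1 := E.map_inv_involution basics9.2.2.2.1
  have hconj : IsConj (E.ψ rA) (E.ψ p) := isConj_iff.2 ⟨g, hp.symm⟩
  have hp2 : p * p = 1 := E.inj (by
    rw [map_mul, hp, map_one, show g * E.ψ rA * g⁻¹ * (g * E.ψ rA * g⁻¹) = g * (E.ψ rA * E.ψ rA) * g⁻¹ by group,
      hrr, mul_one, mul_inv_cancel])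
  have hp1 : p ≠ 1 := by
    intro e1
    rw [e1, map_one] at hp
    exact hr1 (E.inj ((conj_eq_one_iff.1 hp.symm).trans (map_one _).symm))
  have hps : p * sA = sA * p := Subtype.ext (E.comm_iff.1 (hp.symm ▸ E.mem_Cs.1 hz))
  have hrs2 : (rA * sA) * (rA * sA) = 1 := by decide +kernel
  have hps2 : (p * sA) * (p * sA) = 1 := by
    rw [mul_assoc, ← mul_assoc sA p, ← hps, mul_assoc p sA sA, basics9.2.2.1, mul_one, hp2]
  have hconj2 : IsConj (E.ψ (rA * sA)) (E.ψ (p * sA)) := isConj_iff.2 ⟨g, by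
    rw [map_mul, map_mul, hp]
    calc g * (E.ψ rA * E.ψ sA) * g⁻¹ = g * E.ψ rA * (E.ψ sA * g⁻¹) := by group
      _ = g * E.ψ rA * g⁻¹ * E.ψ sA := by
          rw [show E.ψ sA * g⁻¹ = g⁻¹ * E.ψ sA from
            (show Commute g (E.ψ sA) from hgs').symm.inv_right.eq]
          group⟩
  have supp4 : ∀ {a b : A9}, IsConj (E.ψ a) (E.ψ b) → a * a = 1 →
      (a : Equiv.Perm (Fin 9)).support.card = 4 → b * b = 1 → b ≠ 1 →
      (b : Equiv.Perm (Fin 9)).support.card = 4 := by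
    intro a b hab ha ha4 hb hb1
    rcases support_four_or_eight hb hb1 with h | h
    · exact h
    · exact absurd hab (E.not_fused ha ha4 hb h)
  have h4 : (p : Equiv.Perm (Fin 9)).support.card = 4 := supp4 hconj basics9.2.2.2.1 moved9.2.1 hp2 hp1
  have hps1 : p * sA ≠ 1 := by
    intro e1
    rw [e1, map_one] at hconj2
    have := isConj_one_right.1 hconj2.symm
    exact (by decide +kernel : rA * sA ≠ 1) (E.inj (this.trans (map_one _).symm))
  have h4' : ((p * sA : A9) : Equiv.Perm (Fin 9)).support.card = 4 :=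
    supp4 hconj2 hrs2 (by decide +kernel) hps2 hps1
  rcases iso_cases x hx hxs (j45_injective (by rw [map_mul, e, map_one]; exact congrArg Subtype.val hp2))
      (by rw [e]; exact h4) (by rw [map_mul, e, j45_eqs.1]; exact h4') with h | ⟨k, -, hk, hks, hkx⟩
  · simp only [List.mem_cons, List.not_mem_nil, or_false] at h
    rw [← hp]
    rcases h with h | h
    · exact Or.inl (congrArg E.ψ (Subtype.ext (by rw [← e, h, j45_eqs.2.1])))
    · refine Or.inr ?_
      rw [← map_mul]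
      exact congrArg E.ψ (Subtype.ext (by rw [← e, h, map_mul, j45_eqs.1, j45_eqs.2.1]; rfl))
  exfalso
  obtain ⟨hf1, hf2, hf0, hf5, hfne⟩ := five_facts
  set c := g * E.ψ (el f45 hf0) * g⁻¹ with hc
  have hcs : c ∈ E.Cs := mul_mem (mul_mem hg (E.mem_Cs.2 ((E.el_comm hf0 j45_eqs.1).2 hf1))) (inv_mem hg)
  have hcp : c * E.ψ p = E.ψ p * c := by
    rw [hp, hc, show g * E.ψ (el f45 hf0) * g⁻¹ * (g * E.ψ rA * g⁻¹) = g * (E.ψ (el f45 hf0) * E.ψ rA) * g⁻¹ by group,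
      (E.el_comm hf0 j45_eqs.2.1).2 hf2]
    group
  set kk : A9 := el k hk with hkk
  have hkC : E.ψ kk ∈ E.Cs := E.mem_Cs.2 ((E.el_comm hk j45_eqs.1).2 hks)
  have hkp : kk * pA * kk⁻¹ = p := Subtype.ext (by
    show j45 k * (pA : Equiv.Perm (Fin 9)) * (j45 k)⁻¹ = p
    rw [← e, ← hkx, map_mul, map_mul, map_inv, j45_eqs.2.2.1])
  have hd : (E.ψ kk)⁻¹ * c * E.ψ kk ∈ E.K := E.pair2_le (E.mem_C2.2
    ⟨E.mem_Cs.1 (mul_mem (mul_mem (inv_mem hkC) hcs) hkC), by
      rw [← hkp, map_conj] at hcp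
      calc (E.ψ kk)⁻¹ * c * E.ψ kk * E.ψ pA =
            (E.ψ kk)⁻¹ * (c * (E.ψ kk * E.ψ pA * (E.ψ kk)⁻¹)) * E.ψ kk := by group
        _ = (E.ψ kk)⁻¹ * (E.ψ kk * E.ψ pA * (E.ψ kk)⁻¹ * c) * E.ψ kk := by rw [hcp]
        _ = E.ψ pA * ((E.ψ kk)⁻¹ * c * E.ψ kk) := by group⟩)
  obtain ⟨u, hu⟩ := hd
  have hu5 : u ^ 5 = 1 := E.inj (by
    rw [map_pow, hu, map_one, show (E.ψ kk)⁻¹ * c * E.ψ kk = (E.ψ kk)⁻¹ * c * ((E.ψ kk)⁻¹)⁻¹ by rw [inv_inv],
      conj_pow, hc, conj_pow, ← map_pow,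
      show el f45 hf0 ^ 5 = 1 from Subtype.ext (by
        rw [Subgroup.coe_pow, el_val, ← map_pow, hf5, map_one]; rfl), map_one]
    group)
  have huC : E.ψ u ∈ E.C2 sA pA := by
    rw [hu]
    refine E.mem_C2.2 ⟨E.mem_Cs.1 (mul_mem (mul_mem (inv_mem hkC) hcs) hkC), ?_⟩
    rw [← hkp, map_conj] at hcp
    calc (E.ψ kk)⁻¹ * c * E.ψ kk * E.ψ pA =
          (E.ψ kk)⁻¹ * (c * (E.ψ kk * E.ψ pA * (E.ψ kk)⁻¹)) * E.ψ kk := by group
      _ = (E.ψ kk)⁻¹ * (E.ψ kk * E.ψ pA * (E.ψ kk)⁻¹ * c) * E.ψ kk := by rw [hcp]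
      _ = E.ψ pA * ((E.ψ kk)⁻¹ * c * E.ψ kk) := by group
  obtain ⟨hu1, hu2⟩ := E.mem_C2.1 huC
  obtain ⟨z, hz', hzs, ez⟩ := exists_coord (p := u) (Subtype.ext (E.comm_iff.1 hu1))
  have hzp : z * p45 = p45 * z := j45_comm.1 (by rw [j45_eqs.2.2.1, ez]; exact E.comm_iff.1 hu2)
  have hu6 : u ^ 6 = 1 := Subtype.ext (by
    rw [Subgroup.coe_pow, ← ez, ← map_pow, (small_facts z hz' hzs hzp).2.1, map_one]; rfl)
  have hu0 : u = 1 := by
    rw [← orderOf_eq_one_iff, ← Nat.dvd_one]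
    exact Nat.dvd_gcd (orderOf_dvd_of_pow_eq_one hu6) (orderOf_dvd_of_pow_eq_one hu5)
  rw [hu0, map_one] at hu
  have hc1 : c = 1 := by
    have := congrArg (fun y => E.ψ kk * y * (E.ψ kk)⁻¹) hu
    simpa [mul_assoc] using this.symm
  have hf : el f45 hf0 = 1 := E.inj ((conj_eq_one_iff.1 (hc ▸ hc1)).trans (map_one _).symm)
  exact hfne (j45_injective ((congrArg Subtype.val hf).trans (map_one j45).symm))

/-- The centraliser of the involution lies in the embedded group. -/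
theorem Cs_le : E.Cs ≤ E.K := by
  obtain ⟨-, -, -, -, -, hrs, hr1, hrne, -, -, hs1⟩ := odd_facts
  intro g hg
  set S : ↥E.Cs := ⟨E.ψ sA, E.map_comm rfl⟩ with hS
  set R : ↥E.Cs := ⟨E.ψ rA, E.map_comm hrs⟩ with hR
  have hScen : zpowers S ≤ center ↥E.Cs := zpowers_le.2 (mem_center_iff.2 fun c =>
    Subtype.ext (E.mem_Cs.1 c.2))
  haveI : (zpowers S).Normal := ⟨fun z hz c => by
    rwa [mem_center_iff.1 (hScen hz) c, mul_inv_cancel_right]⟩
  have hS2 : S * S = 1 := Subtype.ext (E.map_inv_involution basics9.2.2.1)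
  have hmemS : ∀ z, z ∈ zpowers S ↔ z = 1 ∨ z = S := by
    intro z
    constructor
    · rintro ⟨n, rfl⟩
      rcases Int.emod_two_eq_zero_or_one n with hn | hn
      · left
        obtain ⟨k, rfl⟩ : ∃ k, n = 2 * k := ⟨n / 2, by omega⟩
        show S ^ (2 * k) = 1
        rw [zpow_mul, zpow_two, hS2, one_zpow]
      · right
        obtain ⟨k, rfl⟩ : ∃ k, n = 2 * k + 1 := ⟨n / 2, by omega⟩
        show S ^ (2 * k + 1) = S
        rw [zpow_add, zpow_mul, zpow_two, hS2, one_zpow, one_mul, zpow_one]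
    · rintro (rfl | rfl)
      · exact one_mem _
      · exact mem_zpowers _
  set π := QuotientGroup.mk' (zpowers S) with hπ
  have hker : ∀ a b : ↥E.Cs, π a = π b → (a : G) = b ∨ (a : G) = E.ψ sA * b := by
    intro a b h
    rw [hπ, QuotientGroup.mk'_apply, QuotientGroup.mk'_apply, QuotientGroup.eq_iff_div_mem, hmemS,
      div_eq_one, div_eq_iff_eq_mul] at h
    exact h.imp (congrArg Subtype.val) (congrArg Subtype.val)
  have hO : Cfsg.oddCore (↥E.Cs ⧸ zpowers S) = ⊥ := by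
    haveI := Fact.mk Nat.prime_two
    refine core_quotient_bot (zpowers S) hScen (IsPGroup.of_card (n := 1) ?_) E.oddCore_Cs
    rw [Nat.card_zpowers, pow_one, orderOf_eq_prime (by rw [pow_two, hS2]) fun e =>
      hs1 (E.inj ((congrArg Subtype.val e).trans (map_one _).symm))]
  have hiso : Cfsg.IsIsolatedInvolution (π R) := by
    constructor
    · refine orderOf_eq_prime ?_ ?_
      · rw [pow_two, ← map_mul, show R * R = 1 from Subtype.ext (E.map_inv_involution basics9.2.2.2.1), map_one]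
      · intro e
        rcases hker R 1 (e.trans (map_one _).symm) with e' | e'
        · exact hr1 (E.inj (e'.trans (map_one _).symm))
        · exact hrne (E.inj (e'.trans (mul_one _)))
    · intro q hq
      obtain ⟨c, rfl⟩ := QuotientGroup.mk'_surjective (zpowers S) q
      have hq' : π (c * R * c⁻¹ * R * (c * R * c⁻¹)⁻¹) = π R := by
        rw [map_mul, map_mul, map_inv, map_mul, map_mul, map_inv, ← hq.eq, mul_inv_cancel_right]
      rcases E.isolated_step c.2 (hker _ _ hq') with h | h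
      · rw [← map_inv, ← map_mul, ← map_mul, show c * R * c⁻¹ = R from Subtype.ext h]
      · rw [← map_inv, ← map_mul, ← map_mul, show c * R * c⁻¹ = S * R from Subtype.ext h, map_mul,
          show π S = 1 from (QuotientGroup.eq_one_iff S).2 (mem_zpowers S), one_mul]
  have hcen := ZStar.mem_center_of_isolated hO hiso
  refine E.mem_of_conj_r hg (hker (⟨g, hg⟩ * R * (⟨g, hg⟩ : ↥E.Cs)⁻¹) R ?_)
  rw [map_mul, map_mul, map_inv, mem_center_iff.1 hcen, mul_inv_cancel_right]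

end NineEmb

end Cfsg.Lib.NineThree
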