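import Cfsg.Agent.Lib.NineThree.Facts9

/-!
# Permutations preserving four and five points
-/

set_option autoImplicit false
set_option maxRecDepth 100000
set_option maxHeartbeats 4000000
set_option synthInstance.maxSize 2000
set_option synthInstance.maxHeartbeats 200000

namespace Cfsg.Lib.NineThree

open Equiv

/-- Permutations of four and of five points. -/
abbrev P45 : Type := Perm (Fin 4) × Perm (Fin 5)

/-- The relabelling. -/
def rho45 : Perm (Fin 9) := swap 0 3 * swap 3 6 * swap 6 2 * swap 2 5 * swap 5 1 * swap 1 4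

/-- Permutations of four and five points as permutations of nine. -/
def j45 : P45 →* Perm (Fin 9) :=
  (MulAut.conj rho45).toMonoidHom.comp
    ((finSumFinEquiv (m := 4) (n := 5)).permCongrHom.toMonoidHom.comp (Perm.sumCongrHom (Fin 4) (Fin 5)))

theorem j45_injective : Function.Injective j45 :=
  (MulAut.conj rho45).injective.comp
    ((finSumFinEquiv (m := 4) (n := 5)).permCongrHom.injective.comp Perm.sumCongrHom_injective)

theorem sign_j45 (x : P45) : Perm.sign (j45 x) = Perm.sign x.1 * Perm.sign x.2 := by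
  simp [j45, Equiv.permCongrHom]
  rw [mul_comm, ← mul_assoc, Int.units_mul_self, one_mul]

/-- The even pairs. -/
abbrev Even45 (x : P45) : Prop := Perm.sign x.1 * Perm.sign x.2 = 1

theorem j45_mem {x : P45} : j45 x ∈ A9 ↔ Even45 x := by
  rw [Perm.mem_alternatingGroup, sign_j45]

theorem exists_j45 {σ : Perm (Fin 9)} (h : σ * sA = sA * σ) : ∃ x : P45, j45 x = σ := by
  let e := (finSumFinEquiv (m := 4) (n := 5))
  let τ : Perm (Fin 4 ⊕ Fin 5) := e.symm.permCongr (rho45⁻¹ * σ * rho45)
  have hval : ∀ b : Fin 4, (sA : Perm (Fin 9)) (rho45 (e (Sum.inl b))) ≠ rho45 (e (Sum.inl b)) := by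
    decide +kernel
  have hinl : ∀ i : Fin 9, (sA : Perm (Fin 9)) i ≠ i → ∃ b : Fin 4, rho45 (e (Sum.inl b)) = i := by
    decide +kernel
  have hmaps : Set.MapsTo τ (Set.range Sum.inl) (Set.range Sum.inl) := by
    rintro _ ⟨a, rfl⟩
    obtain ⟨b, hb⟩ := hinl (σ (rho45 (e (Sum.inl a)))) (fun he => hval a (σ.injective (by
      have := congrArg (fun p : Perm (Fin 9) => p (rho45 (e (Sum.inl a)))) h
      simp only [Perm.mul_apply] at this
      rw [this, he])))
    refine ⟨b, ?_⟩
    simp only [τ, Equiv.permCongr_apply, Equiv.symm_symm, Perm.mul_apply]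
    rw [← hb]
    simp [e]
  obtain ⟨x, hx⟩ := Perm.mem_sumCongrHom_range_of_perm_mapsTo_inl hmaps
  refine ⟨x, ?_⟩
  have hx' : Perm.sumCongrHom (Fin 4) (Fin 5) x = τ := hx
  show rho45 * (e.permCongr (Perm.sumCongrHom (Fin 4) (Fin 5) x)) * rho45⁻¹ = σ
  rw [hx']
  ext i
  simp [τ, Equiv.permCongr_apply]

/-- The first involution. -/
def s45 : P45 := (swap 0 1 * swap 2 3, 1)
/-- Its companion. -/
def r45 : P45 := (swap 0 2 * swap 1 3, 1)
/-- The involution meeting both sets. -/
def p45 : P45 := (swap 0 1, swap 0 1)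
/-- The three-cycle on five points. -/
def x45 : P45 := (1, swap 2 3 * swap 3 4)
/-- The element exchanging the companion and its translate. -/
def g45 : P45 := (swap 0 1, swap 3 4)
/-- A five-cycle. -/
def f45 : P45 := (1, swap 0 1 * swap 1 2 * swap 2 3 * swap 3 4)

theorem j45_eqs : j45 s45 = (sA : Perm (Fin 9)) ∧ j45 r45 = (rA : Perm (Fin 9)) ∧
    j45 p45 = (pA : Perm (Fin 9)) ∧ j45 x45 = (xA : Perm (Fin 9)) ∧ j45 g45 = (gA : Perm (Fin 9)) := by
  decide +kernel

theorem j45_comm {x y : P45} : j45 x * j45 y = j45 y * j45 x ↔ x * y = y * x := by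
  rw [← map_mul, ← map_mul, j45_injective.eq_iff]

/-- The four-group. -/
def four45 : List (Perm (Fin 4)) := [1, s45.1, r45.1, s45.1 * r45.1]

theorem q_pair : ∀ q : Perm (Fin 4),
    (q * s45.1 = s45.1 * q ∧ q * r45.1 = r45.1 * q ↔ q ∈ four45) ∧ (q ∈ four45 → Perm.sign q = 1) := by
  decide +kernel

theorem card_big :
    (Finset.univ.filter fun x : P45 => Even45 x ∧ x.1 ∈ four45).card = 240 := by decide +kernel

theorem card_small :
    (Finset.univ.filter fun x : P45 => Even45 x ∧ x * s45 = s45 * x ∧ x * p45 = p45 * x).card = 24 := by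
  decide +kernel

theorem small_facts : ∀ x : P45, Even45 x → x * s45 = s45 * x → x * p45 = p45 * x →
    (x * x45 * x⁻¹ = x45 ∨ x * x45 * x⁻¹ = x45 * x45) ∧ x ^ 6 = 1 ∧
    (x * x45 = x45 * x → ∃ i : Fin 3, x45 ^ i.val * x ∈ [1, s45, p45, s45 * p45]) := by
  decide +kernel

theorem q_odd : ∀ q : Perm (Fin 4), q * s45.1 = s45.1 * q → q ^ 8 = 1 := by decide +kernel

/-- Conjugators. -/
def ks45 : List P45 :=
  ((List.finRange 5).flatMap fun i => (List.finRange 5).flatMap fun j =>
    let r := swap 0 i * swap (swap 0 i 1) j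
    [(1, r), (swap 0 1, r), (r45.1, r), (r45.1 * swap 0 1, r)])

theorem iso_cases : ∀ x : P45, Even45 x → x * s45 = s45 * x → x * x = 1 →
    (j45 x).support.card = 4 → (j45 (x * s45)).support.card = 4 →
    x ∈ [r45, s45 * r45] ∨ ∃ k ∈ ks45, Even45 k ∧ k * s45 = s45 * k ∧ k * p45 * k⁻¹ = x := by
  decide +kernel

end Cfsg.Lib.NineThree
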