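import Cfsg.Agent.Lib.NineThree.Nine
import Cfsg.Agent.Lib.NineThree.Param45

/-!
# The centralisers of the two kinds of four-groups
-/

set_option autoImplicit false
set_option linter.unusedSectionVars false
set_option linter.style.haveILetI false
set_option maxHeartbeats 1000000
set_option maxRecDepth 100000
set_option synthInstance.maxSize 2000
set_option synthInstance.maxHeartbeats 200000

namespace Cfsg.Lib.NineThree

open Cfsg.Lib.Recog.ThreeCubedFour Subgroup

universe u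

attribute [local irreducible] j45

namespace NineEmb

variable {G : Type u} [Group G] [Finite G] {F : Frame G} (E : NineEmb F)

/-- The embedded group. -/
abbrev K : Subgroup G := E.ψ.range

theorem mem_K (a : A9) : E.ψ a ∈ E.K := ⟨a, rfl⟩

theorem map_conj (a b : A9) : E.ψ (a * b * a⁻¹) = E.ψ a * E.ψ b * (E.ψ a)⁻¹ := by
  rw [map_mul, map_mul, map_inv]

theorem comm_iff {a b : A9} : E.ψ a * E.ψ b = E.ψ b * E.ψ a ↔ (a : Equiv.Perm (Fin 9)) * b = b * a := by
  rw [← map_mul, ← map_mul, E.inj.eq_iff]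
  exact ⟨fun h => congrArg Subtype.val h, fun h => Subtype.ext h⟩

theorem range_model_le : F.φ.range ≤ E.K := by
  rintro _ ⟨m, rfl⟩
  exact ⟨m9 m, E.on_m m⟩

theorem range_one_le : E.Z.φ₁.range ≤ E.K := by
  rintro _ ⟨m, rfl⟩
  exact ⟨e9 m, E.on_e m⟩

theorem map_eV : E.ψ sA = E.Z.φ₁ eV := by
  rw [← E.on_e eV, show e9 eV = sA from Subtype.ext basics9.1]

theorem map_eW : E.ψ rA = E.Z.φ₁ eW := by
  rw [← E.on_e eW, show e9 eW = rA from Subtype.ext basics9.2.1]

theorem cent_transport {a b : A9} (hab : IsConj a b) (h : centralizer ({E.ψ a} : Set G) ≤ E.K) :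
    centralizer ({E.ψ b} : Set G) ≤ E.K := by
  intro c hc
  obtain ⟨k, rfl⟩ := isConj_iff.1 hab
  rw [mem_centralizer_singleton_iff, map_conj] at hc
  have hd : (E.ψ k)⁻¹ * c * E.ψ k ∈ E.K := h (mem_centralizer_singleton_iff.2 (by
    calc (E.ψ k)⁻¹ * c * E.ψ k * E.ψ a = (E.ψ k)⁻¹ * (c * (E.ψ k * E.ψ a * (E.ψ k)⁻¹)) * E.ψ k := by group
      _ = (E.ψ k)⁻¹ * (E.ψ k * E.ψ a * (E.ψ k)⁻¹ * c) * E.ψ k := by rw [hc]
      _ = E.ψ a * ((E.ψ k)⁻¹ * c * E.ψ k) := by group))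
  have := mul_mem (mul_mem (E.mem_K k) hd) (inv_mem (E.mem_K k))
  rwa [show E.ψ k * ((E.ψ k)⁻¹ * c * E.ψ k) * (E.ψ k)⁻¹ = c by group] at this

/-- Centralisers of elements of order three lie in the embedded group. -/
theorem cent_three {σ : A9} (h : σ ^ 3 = 1) (h1 : σ ≠ 1) : centralizer ({E.ψ σ} : Set G) ≤ E.K := by
  rcases isConj_three h h1 with e | e | e <;> refine E.cent_transport e ?_ <;> rw [E.on_m]
  · intro c hc
    obtain ⟨m, -, rfl⟩ := E.Z.cent c hc
    exact E.range_one_le ⟨m, rfl⟩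
  · exact F.cent_cubB_le.trans E.range_model_le
  · exact (F.cent_cC_eq.le.trans F.P_le_H).trans E.range_model_le

/-- The two kinds of involutions are not fused. -/
theorem not_fused {a b : A9} (ha : a * a = 1) (ha4 : (a : Equiv.Perm (Fin 9)).support.card = 4)
    (hb : b * b = 1) (hb8 : (b : Equiv.Perm (Fin 9)).support.card = 8) : ¬ IsConj (E.ψ a) (E.ψ b) := by
  intro h
  refine E.Z.not_fused ?_
  rw [← E.map_eV, ← E.on_m]
  exact ((E.ψ.map_isConj (isConj_sA ha ha4)).trans h).trans (E.ψ.map_isConj (isConj_l7 hb hb8)).symm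

/-- An element of the alternating group commuting with the involution, in coordinates. -/
theorem exists_coord {p : A9} (h : p * sA = sA * p) : ∃ x : P45, Even45 x ∧ x * s45 = s45 * x ∧ j45 x = p := by
  have h' : (p : Equiv.Perm (Fin 9)) * sA = sA * p := congrArg Subtype.val h
  obtain ⟨x, hx⟩ := exists_j45 h'
  refine ⟨x, j45_mem.1 (hx ▸ p.2), j45_comm.1 ?_, hx⟩
  rw [j45_eqs.1, hx]
  exact h'

/-- The element with given coordinates. -/
def el (x : P45) (h : Even45 x) : A9 := ⟨j45 x, j45_mem.2 h⟩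

theorem el_val (x : P45) (h : Even45 x) : ((el x h : A9) : Equiv.Perm (Fin 9)) = j45 x := rfl

theorem el_inj {x y : P45} {hx : Even45 x} {hy : Even45 y} (e : el x hx = el y hy) : x = y :=
  j45_injective (((el_val x hx).symm.trans (congrArg Subtype.val e)).trans (el_val y hy))

theorem el_comm {x : P45} (h : Even45 x) {σ : A9} {y : P45} (e : j45 y = (σ : Equiv.Perm (Fin 9))) :
    E.ψ (el x h) * E.ψ σ = E.ψ σ * E.ψ (el x h) ↔ x * y = y * x := by
  rw [E.comm_iff, ← e]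
  exact j45_comm

/-- The centraliser of a pair of elements. -/
abbrev C2 (a b : A9) : Subgroup G := centralizer ({E.ψ a, E.ψ b} : Set G)

theorem mem_C2 {a b : A9} {g : G} :
    g ∈ E.C2 a b ↔ g * E.ψ a = E.ψ a * g ∧ g * E.ψ b = E.ψ b * g := by
  rw [mem_centralizer_iff]
  simp [eq_comm]

theorem card_inter {a b : A9} {ya yb : P45} (ha : j45 ya = (a : Equiv.Perm (Fin 9)))
    (hb : j45 yb = (b : Equiv.Perm (Fin 9))) (hs : a = sA)
    (P : P45 → Prop) [DecidablePred P]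
    (hP : ∀ x, Even45 x → (P x ↔ x * ya = ya * x ∧ x * yb = yb * x)) :
    Nat.card ↥(E.C2 a b ⊓ E.K) = (Finset.univ.filter fun x => Even45 x ∧ P x).card := by
  classical
  rw [← Fintype.card_subtype, ← Nat.card_eq_fintype_card]
  refine (Nat.card_eq_of_bijective (fun x : {x : P45 // Even45 x ∧ P x} =>
    (⟨E.ψ (el x.1 x.2.1), E.mem_C2.2 (by
      rw [E.el_comm x.2.1 ha, E.el_comm x.2.1 hb]; exact (hP x.1 x.2.1).1 x.2.2), E.mem_K _⟩ :
        ↥(E.C2 a b ⊓ E.K))) ⟨fun x y e => Subtype.ext (el_inj (hx := x.2.1) (hy := y.2.1)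
    (E.inj (congrArg Subtype.val e))), ?_⟩).symm
  rintro ⟨_, hc, p, rfl⟩
  obtain ⟨h1, h2⟩ := E.mem_C2.1 hc
  obtain ⟨x, hx, -, e⟩ := exists_coord (p := p) (Subtype.ext (E.comm_iff.1 (hs ▸ h1)))
  have e' : el x hx = p := Subtype.ext e
  refine ⟨⟨x, hx, (hP x hx).2 ?_⟩, Subtype.ext (congrArg E.ψ e')⟩
  rw [← E.el_comm hx ha, ← E.el_comm hx hb, e']
  exact ⟨h1, h2⟩

theorem C_eq : E.Z.C = E.C2 sA rA := by
  rw [C2, E.map_eV, E.map_eW]

theorem four_mem {q : Equiv.Perm (Fin 4)} (hq : q ∈ four45) (h : Even45 (q, 1)) :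
    E.ψ (el (q, 1) h) ∈ E.Z.V := by
  have hV : E.ψ sA ∈ E.Z.V := by rw [E.map_eV]; exact mem_map_of_mem _ (subset_closure (by simp))
  have hW : E.ψ rA ∈ E.Z.V := by rw [E.map_eW]; exact mem_map_of_mem _ (subset_closure (by simp))
  simp only [four45, List.mem_cons, List.not_mem_nil, or_false] at hq
  rcases hq with rfl | rfl | rfl | rfl
  · rw [show el (1, 1) h = 1 from Subtype.ext (map_one j45), map_one]; exact one_mem _
  · rwa [show el (s45.1, 1) h = sA from Subtype.ext j45_eqs.1]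
  · rwa [show el (r45.1, 1) h = rA from Subtype.ext j45_eqs.2.1]
  · rw [show el (s45.1 * r45.1, 1) h = sA * rA from Subtype.ext (by
      show j45 (s45.1 * r45.1, 1) = (sA : Equiv.Perm (Fin 9)) * rA
      rw [← j45_eqs.1, ← j45_eqs.2.1, ← map_mul]; rfl), map_mul]
    exact mul_mem hV hW

/-- The centraliser of the first four-group lies in the embedded group. -/
theorem pair_le : E.C2 sA rA ≤ E.K := by
  classical
  rw [← E.C_eq]
  have hy : ∀ c ∈ E.Z.C, c * F.φ rotB = F.φ rotB * c → c ∈ E.K := fun c _ h =>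
    E.cent_three (σ := m9 rotB) (by rw [← map_pow, inBase_cube rotB rotA_base.2.2.1, map_one])
      (by decide +kernel) (mem_centralizer_singleton_iff.2 (by rwa [E.on_m]))
  refine (E.Z.loc E.K E.range_one_le hy).le_K_big ?_ ?_
  · show Nat.card ↥(E.Z.C ⊓ E.K) = 240
    rw [E.C_eq, E.card_inter j45_eqs.1 j45_eqs.2.1 rfl (fun x => x.1 ∈ four45) (fun x _ => ?_)]
    · exact card_big
    · rw [← (q_pair x.1).1]
      constructor
      · rintro ⟨h1, h2⟩
        exact ⟨Prod.ext h1 (by rw [Prod.snd_mul, Prod.snd_mul]; exact Commute.one_right x.2),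
          Prod.ext h2 (by rw [Prod.snd_mul, Prod.snd_mul]; exact Commute.one_right x.2)⟩
      · rintro ⟨h1, h2⟩
        exact ⟨congrArg Prod.fst h1, congrArg Prod.fst h2⟩
  intro M hM hcop hnorm m hm
  change M ≤ E.Z.C ⊓ E.K at hM
  change ∀ g ∈ E.Z.C ⊓ E.K, ∀ m ∈ M, g * m * g⁻¹ ∈ M at hnorm
  show m ∈ E.Z.V
  set V := E.Z.V with hVdef
  let ι : alternatingGroup (Fin 5) →* G := E.ψ.comp
    { toFun := fun r => el (1, r.1) (show Even45 (1, r.1) by
        show Equiv.Perm.sign (1 : Equiv.Perm (Fin 4)) * Equiv.Perm.sign r.1 = 1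
        rw [map_one, one_mul]; exact Equiv.Perm.mem_alternatingGroup.1 r.2)
      map_one' := Subtype.ext (map_one j45)
      map_mul' := fun a b => Subtype.ext (by
        show j45 (1, (a * b).1) = j45 (1, a.1) * j45 (1, b.1)
        rw [← map_mul]; congr 1) }
  have hιC : ∀ r, ι r ∈ E.Z.C ⊓ E.K := fun r => by
    refine ⟨?_, E.mem_K _⟩
    rw [E.C_eq]
    have hr : Even45 (1, r.1) := by
      show Equiv.Perm.sign (1 : Equiv.Perm (Fin 4)) * Equiv.Perm.sign r.1 = 1
      rw [map_one, one_mul]; exact Equiv.Perm.mem_alternatingGroup.1 r.2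
    refine E.mem_C2.2 ⟨(E.el_comm hr j45_eqs.1).2 ?_, (E.el_comm hr j45_eqs.2.1).2 ?_⟩ <;>
      exact Prod.ext ((one_mul _).trans (mul_one _).symm) ((mul_one _).trans (one_mul _).symm)
  have hcen : ∀ v ∈ V, ∀ c ∈ E.Z.C, v * c = c * v := (E.Z.loc E.K E.range_one_le hy).central
  let M' : Subgroup (alternatingGroup (Fin 5)) :=
    { carrier := {r | ∃ v ∈ V, ι r * v ∈ M}
      one_mem' := ⟨1, one_mem _, by rw [map_one, mul_one]; exact one_mem _⟩
      mul_mem' := by
        rintro a b ⟨v, hv, ha⟩ ⟨w, hw, hb⟩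
        refine ⟨v * w, mul_mem hv hw, ?_⟩
        have := mul_mem ha hb
        rwa [mul_assoc, ← mul_assoc v, hcen v hv _ (hιC b).1, mul_assoc (ι b), ← mul_assoc, ← map_mul] at this
      inv_mem' := by
        rintro a ⟨v, hv, ha⟩
        refine ⟨v⁻¹, inv_mem hv, ?_⟩
        have := inv_mem ha
        rwa [mul_inv_rev, hcen _ (inv_mem hv) _ (inv_mem (hιC a).1), ← map_inv] at this }
  have hM'n : M'.Normal := ⟨fun a ⟨v, hv, ha⟩ g => ⟨v, hv, by
    have := hnorm _ (hιC g) _ ha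
    rw [mul_assoc (ι g), mul_assoc (ι a), hcen v hv _ (inv_mem (hιC g).1), ← mul_assoc, ← mul_assoc] at this
    rwa [← map_inv, ← map_mul, ← map_mul] at this⟩⟩
  obtain ⟨hmC, hmK⟩ := hM hm
  obtain ⟨p, rfl⟩ := hmK
  rw [E.C_eq] at hmC
  obtain ⟨h1, h2⟩ := E.mem_C2.1 hmC
  obtain ⟨x, hx, hxs, e⟩ := exists_coord (p := p) (Subtype.ext (E.comm_iff.1 h1))
  have hxr : x * r45 = r45 * x := j45_comm.1 (by rw [j45_eqs.2.1, e]; exact E.comm_iff.1 h2)
  have hq : x.1 ∈ four45 := (q_pair x.1).1.1 ⟨congrArg Prod.fst hxs, congrArg Prod.fst hxr⟩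
  have hq1 : Even45 (x.1, 1) := by
    show _ * _ = _
    rw [(q_pair x.1).2 hq, map_one, one_mul]
  have hr : x.2 ∈ alternatingGroup (Fin 5) := by
    have h' : _ * _ = _ := hx
    rw [(q_pair x.1).2 hq, one_mul] at h'
    exact Equiv.Perm.mem_alternatingGroup.2 h'
  set v := E.ψ (el (x.1, 1) hq1) with hv
  have hvV : v ∈ V := E.four_mem hq hq1
  have hdec : ι ⟨x.2, hr⟩ * v = E.ψ p := by
    show E.ψ _ * E.ψ _ = _
    rw [← map_mul]
    refine congrArg E.ψ (Subtype.ext ?_)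
    show j45 (1, x.2) * j45 (x.1, 1) = (p : Equiv.Perm (Fin 9))
    rw [← map_mul, ← e]; simp
  have hin : (⟨x.2, hr⟩ : alternatingGroup (Fin 5)) ∈ M' := ⟨v, hvV, hdec.symm ▸ hm⟩
  haveI : IsSimpleGroup (alternatingGroup (Fin 5)) := alternatingGroup.isSimpleGroup (by simp)
  rcases hM'n.eq_bot_or_eq_top with hb | ht
  · have h1 : (⟨x.2, hr⟩ : alternatingGroup (Fin 5)) = 1 := mem_bot.1 (hb ▸ hin)
    rw [h1, map_one, one_mul] at hdec
    exact hdec ▸ hvV
  · exfalso
    let c : alternatingGroup (Fin 5) :=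
      ⟨x45.2, Equiv.Perm.mem_alternatingGroup.2 (by decide +kernel)⟩
    have hc3 : c ^ 3 = 1 := Subtype.ext (by decide +kernel)
    have hc1 : c ≠ 1 := by decide +kernel
    obtain ⟨w, hw, hcw⟩ : c ∈ M' := ht ▸ mem_top c
    have hw4 : w ^ 4 = 1 := by
      have := pow_card_eq_one' (G := V) (x := ⟨w, hw⟩)
      rw [E.Z.card_V] at this
      exact congrArg Subtype.val this
    have hcomm : Commute (ι c) w := (hcen w hw _ (hιC c).1).symm
    have hcM : ι c ∈ M := by
      have := pow_mem hcw 4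
      rwa [hcomm.mul_pow, hw4, mul_one, pow_succ, ← map_pow, hc3, map_one, one_mul] at this
    have hd : orderOf (⟨ι c, hcM⟩ : M) ∣ 1 := by
      rw [← hcop]
      refine Nat.dvd_gcd (orderOf_dvd_natCard _) (orderOf_dvd_of_pow_eq_one (Subtype.ext ?_))
      show ι c ^ 3 = 1
      rw [← map_pow, hc3, map_one]
    rw [Nat.dvd_one, orderOf_eq_one_iff] at hd
    have hce : Even45 (1, c.1) := by
      show Equiv.Perm.sign (1 : Equiv.Perm (Fin 4)) * Equiv.Perm.sign c.1 = 1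
      rw [map_one, one_mul]; exact Equiv.Perm.mem_alternatingGroup.1 c.2
    have e1 : el (1, c.1) hce = (1 : A9) := E.inj ((congrArg Subtype.val hd).trans (map_one _).symm)
    have e2 := j45_injective ((congrArg Subtype.val e1).trans (map_one j45).symm)
    exact hc1 (Subtype.ext (congrArg Prod.snd e2))

/-- The list of the second four-group. -/
def four2List : List A9 := [1, sA, pA, sA * pA]

theorem four2_facts :
    (four2List.all fun a => decide (a⁻¹ ∈ four2List) && decide (a * sA = sA * a) && decide (a * pA = pA * a) &&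
      four2List.all fun b => decide (a * b ∈ four2List)) = true := by
  decide +kernel

theorem four2_spec {a : A9} (ha : a ∈ four2List) : a⁻¹ ∈ four2List ∧ a * sA = sA * a ∧ a * pA = pA * a ∧
    ∀ b ∈ four2List, a * b ∈ four2List := by
  have h := List.all_eq_true.1 four2_facts a ha
  simp only [Bool.and_eq_true, decide_eq_true_eq, List.all_eq_true] at h
  exact ⟨h.1.1.1, h.1.1.2, h.1.2, h.2⟩

/-- The second four-group. -/
def four2 : Subgroup A9 where
  carrier := {p | p ∈ four2List}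
  one_mem' := List.mem_cons_self
  mul_mem' := fun {a b} ha hb => (four2_spec ha).2.2.2 b hb
  inv_mem' := fun {a} ha => (four2_spec ha).1

theorem mem_four2 {p : A9} : p ∈ four2 ↔ p ∈ [1, sA, pA, sA * pA] := Iff.rfl

theorem card_four2 : Nat.card four2 = 4 := by
  have h : (four2 : Set A9) = ↑([1, sA, pA, sA * pA].toFinset) := by
    ext p; simp [mem_four2]
  show Nat.card ((four2 : Set A9) : Type) = 4
  rw [h, Nat.card_coe_set_eq, Set.ncard_coe_finset, List.toFinset_card_of_nodup (by decide +kernel)]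
  rfl

theorem pair2_facts : yA * sA * yA⁻¹ = sA * pA ∧ yA * pA * yA⁻¹ = sA ∧
    yA⁻¹ * sA * yA = pA ∧ yA⁻¹ * pA * yA = sA * pA ∧ xA * yA = yA * xA ∧
    (xA * yA) ^ 3 = 1 ∧ xA * yA ≠ 1 ∧ (xA * xA * yA) ^ 3 = 1 ∧ xA * xA * yA ≠ 1 ∧ xA ≠ 1 ∧ yA ≠ 1 ∧
    yA ≠ xA ∧ yA ≠ xA * xA ∧ xA * sA = sA * xA ∧ xA * pA = pA * xA := by
  decide +kernel

/-- The data for the second four-group. -/
def loc2 : Loc G where
  V := four2.map E.ψ
  C := E.C2 sA pA
  K := E.K
  x := E.ψ xA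
  y := E.ψ yA
  V_le := by
    rintro _ ⟨p, hp, rfl⟩
    obtain ⟨-, h1, h2, -⟩ := four2_spec (a := p) hp
    exact E.mem_C2.2 ⟨by rw [← map_mul, h1, map_mul], by rw [← map_mul, h2, map_mul]⟩
  central := by
    rintro _ ⟨p, hp, rfl⟩ c hc
    obtain ⟨h1, h2⟩ := E.mem_C2.1 hc
    change p ∈ [1, sA, pA, sA * pA] at hp
    simp only [List.mem_cons, List.not_mem_nil, or_false] at hp
    rcases hp with rfl | rfl | rfl | rfl
    · rw [map_one, one_mul, mul_one]
    · exact h1.symm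
    · exact h2.symm
    · rw [map_mul]; exact (Commute.mul_right h1 h2).symm.eq
  card_V := by rw [Subgroup.card_map_of_injective E.inj, card_four2]
  x_three := by rw [← map_pow, basics9.2.2.2.2.2.2.2.1, map_one]
  x_ne := fun e => pair2_facts.2.2.2.2.2.2.2.2.2.1 (E.inj (e.trans (map_one _).symm))
  y_three := by rw [← map_pow, basics9.2.2.2.2.2.2.2.2, map_one]
  comm := by rw [← map_mul, pair2_facts.2.2.2.2.1, map_mul]
  y_not := by
    intro h
    rw [← MonoidHom.map_zpowers] at h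
    obtain ⟨k, ⟨n, hn⟩, e⟩ := h
    have hk := E.inj e
    subst hk
    dsimp only at hn
    rw [← zpow_mod_natCard, ← zpow_mod_orderOf] at hn
    have hord : orderOf xA = 3 := orderOf_eq_prime basics9.2.2.2.2.2.2.2.1 pair2_facts.2.2.2.2.2.2.2.2.2.1
    rw [hord] at hn
    have : ∃ m : ℤ, (m = 0 ∨ m = 1 ∨ m = 2) ∧ xA ^ m = yA := ⟨_, by omega, hn⟩
    obtain ⟨m, (rfl | rfl | rfl), hm⟩ := this
    · exact pair2_facts.2.2.2.2.2.2.2.2.2.2.1 (by rw [← hm, zpow_zero])
    · exact pair2_facts.2.2.2.2.2.2.2.2.2.2.2.1 (by rw [← hm, zpow_one])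
    · exact pair2_facts.2.2.2.2.2.2.2.2.2.2.2.2.1 (by rw [← hm, zpow_two])
  x_mem := E.mem_C2.2 ⟨by rw [← map_mul, pair2_facts.2.2.2.2.2.2.2.2.2.2.2.2.2.1, map_mul],
    by rw [← map_mul, pair2_facts.2.2.2.2.2.2.2.2.2.2.2.2.2.2, map_mul]⟩
  y_norm := by
    intro c hc
    obtain ⟨h1, h2⟩ := E.mem_C2.1 hc
    have key : ∀ σ τ : A9, yA⁻¹ * σ * yA = τ → c * E.ψ τ = E.ψ τ * c →
        E.ψ yA * c * (E.ψ yA)⁻¹ * E.ψ σ = E.ψ σ * (E.ψ yA * c * (E.ψ yA)⁻¹) := by
      intro σ τ e he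
      rw [← e, map_mul, map_mul, map_inv] at he
      calc E.ψ yA * c * (E.ψ yA)⁻¹ * E.ψ σ =
          E.ψ yA * (c * ((E.ψ yA)⁻¹ * E.ψ σ * E.ψ yA)) * (E.ψ yA)⁻¹ := by group
        _ = E.ψ yA * ((E.ψ yA)⁻¹ * E.ψ σ * E.ψ yA * c) * (E.ψ yA)⁻¹ := by rw [he]
        _ = E.ψ σ * (E.ψ yA * c * (E.ψ yA)⁻¹) := by group
    exact E.mem_C2.2 ⟨key _ _ pair2_facts.2.2.1 h2,
      key _ _ pair2_facts.2.2.2.1 (by rw [map_mul]; exact (Commute.mul_right h1 h2).eq)⟩
  self := by
    intro c hc h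
    obtain ⟨p, rfl⟩ := E.cent_three basics9.2.2.2.2.2.2.2.1 pair2_facts.2.2.2.2.2.2.2.2.2.1
      (mem_centralizer_singleton_iff.2 h)
    obtain ⟨h1, h2⟩ := E.mem_C2.1 hc
    obtain ⟨z, hz, hzs, e⟩ := exists_coord (p := p) (Subtype.ext (E.comm_iff.1 h1))
    have hzp : z * p45 = p45 * z := j45_comm.1 (by rw [j45_eqs.2.2.1, e]; exact E.comm_iff.1 h2)
    have hzx : z * x45 = x45 * z := j45_comm.1 (by rw [j45_eqs.2.2.2.1, e]; exact E.comm_iff.1 h)
    obtain ⟨i, hi⟩ := (small_facts z hz hzs hzp).2.2 hzx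
    have hv : xA ^ i.val * p ∈ four2 := by
      rw [mem_four2]
      have e1 : ((xA ^ i.val * p : A9) : Equiv.Perm (Fin 9)) = j45 (x45 ^ i.val * z) := by
        rw [map_mul, map_pow, j45_eqs.2.2.2.1, e]; rfl
      simp only [List.mem_cons, List.not_mem_nil, or_false] at hi ⊢
      rcases hi with hi | hi | hi | hi <;> rw [hi] at e1
      · exact Or.inl (Subtype.ext (e1.trans (map_one j45)))
      · exact Or.inr (Or.inl (Subtype.ext (e1.trans j45_eqs.1)))
      · exact Or.inr (Or.inr (Or.inl (Subtype.ext (e1.trans j45_eqs.2.2.1))))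
      · exact Or.inr (Or.inr (Or.inr (Subtype.ext (e1.trans (by
          rw [map_mul, j45_eqs.1, j45_eqs.2.2.1]; rfl)))))
    refine ⟨E.ψ (xA ^ i.val * p), mem_map_of_mem _ hv, ?_⟩
    have hc' : Commute xA p := Subtype.ext (E.comm_iff.1 h).symm
    rw [← map_inv, ← map_mul, mul_inv_rev, ← mul_assoc, mul_inv_cancel, one_mul, map_inv, map_pow]
    exact inv_mem (pow_mem (mem_zpowers _) _)
  fix := by
    intro z hz c _ h
    simp only [List.mem_cons, List.not_mem_nil, or_false] at hz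
    rcases hz with rfl | rfl | rfl | rfl
    · exact E.cent_three basics9.2.2.2.2.2.2.2.1 pair2_facts.2.2.2.2.2.2.2.2.2.1
        (mem_centralizer_singleton_iff.2 h)
    · exact E.cent_three basics9.2.2.2.2.2.2.2.2 pair2_facts.2.2.2.2.2.2.2.2.2.2.1
        (mem_centralizer_singleton_iff.2 h)
    · rw [← map_mul] at h
      exact E.cent_three pair2_facts.2.2.2.2.2.1 pair2_facts.2.2.2.2.2.2.1 (mem_centralizer_singleton_iff.2 h)
    · rw [← map_mul, ← map_mul] at h
      exact E.cent_three pair2_facts.2.2.2.2.2.2.2.1 pair2_facts.2.2.2.2.2.2.2.2.1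
        (mem_centralizer_singleton_iff.2 h)

/-- The centraliser of the second four-group lies in the embedded group. -/
theorem pair2_le : E.C2 sA pA ≤ E.K := by
  classical
  refine E.loc2.le_K_small ?_ ?_
  · show Nat.card ↥(E.C2 sA pA ⊓ E.K) = 24
    rw [E.card_inter j45_eqs.1 j45_eqs.2.2.1 rfl (fun x => x * s45 = s45 * x ∧ x * p45 = p45 * x)
      (fun x _ => Iff.rfl)]
    exact card_small
  · rintro _ ⟨hc, p, rfl⟩
    obtain ⟨h1, h2⟩ := E.mem_C2.1 hc
    obtain ⟨z, hz, hzs, e⟩ := exists_coord (p := p) (Subtype.ext (E.comm_iff.1 h1))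
    have hzp : z * p45 = p45 * z := j45_comm.1 (by rw [j45_eqs.2.2.1, e]; exact E.comm_iff.1 h2)
    show E.ψ p * E.ψ xA * (E.ψ p)⁻¹ ∈ zpowers (E.ψ xA)
    rw [← map_conj]
    rcases (small_facts z hz hzs hzp).1 with he | he
    · rw [show p * xA * p⁻¹ = xA from Subtype.ext (by
        show (p : Equiv.Perm (Fin 9)) * xA * (p : Equiv.Perm (Fin 9))⁻¹ = xA
        rw [← e, ← j45_eqs.2.2.2.1, ← map_inv, ← map_mul, ← map_mul, he])]
      exact mem_zpowers _
    · rw [show p * xA * p⁻¹ = xA * xA from Subtype.ext (by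
        show (p : Equiv.Perm (Fin 9)) * xA * (p : Equiv.Perm (Fin 9))⁻¹ = (xA : Equiv.Perm (Fin 9)) * xA
        rw [← e, ← j45_eqs.2.2.2.1, ← map_inv, ← map_mul, ← map_mul, he, map_mul]), map_mul]
      exact mul_mem (mem_zpowers _) (mem_zpowers _)

end NineEmb

end Cfsg.Lib.NineThree
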