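import Cfsg.Agent.Lib.NineThree.Perm36

/-!
# Finite facts in the even part of `Sym(3) × Sym(6)`
-/

set_option autoImplicit false
set_option maxRecDepth 100000
set_option synthInstance.maxSize 2000
set_option maxHeartbeats 4000000

namespace Cfsg.Lib.NineThree

open Equiv

/-- The first involution of the four-group. -/
def v36 : P36 := (1, swap 0 1 * swap 2 3)

/-- The second involution of the four-group. -/
def w36 : P36 := (1, swap 0 2 * swap 1 3)

/-- An involution inverting the three-cycle and centralising the four-group. -/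
def t36 : P36 := (swap 0 1, swap 4 5)

/-- The three-cycle on the middle block. -/
def c36 : P36 := (1, swap 0 1 * swap 1 2)

/-- An involution inverting it. -/
def s36 : P36 := (1, swap 0 1 * swap 3 5)

/-- The involution of the exceptional configuration. -/
def u36 : P36 := (1, swap 0 1 * swap 2 4)

theorem def36 : v36 = x36 3 ∧ w36 = x36 1 * x36 0 * x36 3 * x36 0 * x36 1 ∧
    t36 = x36 4 * x36 2 ∧ c36 = x36 0 * x36 1 ∧ s36 = x36 0 * x36 2 * x36 0 ∧
    u36 = x36 0 * x36 3 * x36 0 := by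
  decide +kernel

theorem mem_cent_a36 : ∀ p : Perm (Fin 3), p * a36.1 = a36.1 * p → ∃ i : Fin 3, p = a36.1 ^ i.val := by
  decide +kernel

/-- The permutations of six points in the group generated by the three-cycle and its inverting involution. -/
def sym3List : List (Perm (Fin 6)) :=
  [1, c36.2, c36.2 * c36.2, s36.2, c36.2 * s36.2, c36.2 * c36.2 * s36.2]

/-- Representatives of the double cosets, with separating words. -/
def triReps : List (Perm (Fin 6) × List ℕ) :=
  [ (swap 3 4 * swap 4 5, [0]),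
    (swap 0 2 * swap 2 1 * swap 1 3 * swap 4 5, [0, 0]),
    (swap 2 5 * swap 5 4, [0, 0, 4, 0]),
    (swap 0 1 * swap 2 3, [0]),
    (swap 2 4 * swap 4 5, [0, 4, 0, 0]),
    (swap 0 1 * swap 2 4, [0]),
    (swap 0 1 * swap 1 3 * swap 3 2 * swap 2 4, [0, 0, 0, 2, 0]),
    (swap 0 2 * swap 2 3 * swap 1 4 * swap 4 5, [0, 4, 0, 0]),
    (swap 0 1 * swap 1 4 * swap 4 2 * swap 2 3, [0, 0, 0, 2, 0]),
    (swap 0 2 * swap 2 5 * swap 5 1 * swap 1 3, [4, 0, 0, 2]),
    (swap 0 2 * swap 2 5 * swap 5 4 * swap 1 3, [0, 4, 0, 0]),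
    (swap 0 3 * swap 1 4 * swap 4 2 * swap 2 5, [0, 0, 4]) ]

/-- The value of a word. -/
def triVal (m : Perm (Fin 6)) : List ℕ → Perm (Fin 6)
  | [] => 1
  | g :: w => (if g = 0 then m else if g = 2 then c36.2 else s36.2) * triVal m w

theorem triVal_mem (S : Subgroup (Perm (Fin 6))) {m : Perm (Fin 6)} (hm : m ∈ S) (hc : c36.2 ∈ S)
    (hs : s36.2 ∈ S) : ∀ w, triVal m w ∈ S
  | [] => one_mem S
  | g :: w => by
    refine mul_mem ?_ (triVal_mem S hm hc hs w)
    split_ifs
    exacts [hm, hc, hs]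

theorem tri_double : ∀ b : Perm (Fin 6), Perm.sign b = 1 → b ∈ sym3List ∨
    ∃ s1 ∈ sym3List, ∃ s2 ∈ sym3List, s1 * b * s2 ∈ triReps.map Prod.fst := by
  decide +kernel

theorem tri_reps : ∀ r ∈ triReps, triVal r.1 r.2 = v36.2 ∨ triVal r.1 r.2 = u36.2 ∨
    (triVal r.1 r.2 ∉ [1, c36.2, c36.2 * c36.2] ∧
      triVal r.1 r.2 * c36.2 = c36.2 * triVal r.1 r.2) := by
  decide +kernel

/-- A subgroup containing the group of order six and in which the three-cycle is self-centralising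
is that group or contains one of two involutions. -/
theorem tri_cases (S : Subgroup (Perm (Fin 6))) (heven : ∀ b ∈ S, Perm.sign b = 1) (hc : c36.2 ∈ S)
    (hs : s36.2 ∈ S) (hcc : ∀ b ∈ S, b * c36.2 = c36.2 * b → b ∈ [1, c36.2, c36.2 * c36.2]) :
    (∀ b ∈ S, b ∈ sym3List) ∨ v36.2 ∈ S ∨ u36.2 ∈ S := by
  by_contra h
  push Not at h
  obtain ⟨⟨b, hb, hn⟩, hv, hu⟩ := h
  obtain ⟨s1, h1, s2, h2, hm⟩ := (tri_double b (heven b hb)).resolve_left hn
  have hmem : ∀ s ∈ sym3List, s ∈ S := by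
    intro s hs'
    simp only [sym3List, List.mem_cons, List.not_mem_nil, or_false] at hs'
    rcases hs' with rfl | rfl | rfl | rfl | rfl | rfl
    exacts [one_mem _, hc, mul_mem hc hc, hs, mul_mem hc hs, mul_mem (mul_mem hc hc) hs]
  obtain ⟨r, hr, e⟩ := List.mem_map.1 hm
  have hy := triVal_mem S (e ▸ mul_mem (mul_mem (hmem _ h1) hb) (hmem _ h2) : r.1 ∈ S) hc hs r.2
  rcases tri_reps r hr with h' | h' | ⟨h', h''⟩
  · exact hv (h' ▸ hy)
  · exact hu (h' ▸ hy)
  · exact h' (hcc _ hy h'')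

theorem cent_a_V : ∀ b : Perm (Fin 6), Perm.sign b = 1 →
    b * v36.2 = v36.2 * b → b * w36.2 = w36.2 * b →
    b ∈ [1, v36.2, w36.2, v36.2 * w36.2] ∧
      (b * c36.2 = c36.2 * b → b = 1) := by
  decide +kernel

theorem base_cent_V : ∀ j k : Fin 3,
    (c36.2 ^ j.val * (swap 3 4 * swap 4 5 : Perm (Fin 6)) ^ k.val) * v36.2 =
      v36.2 * (c36.2 ^ j.val * (swap 3 4 * swap 4 5 : Perm (Fin 6)) ^ k.val) →
    c36.2 ^ j.val * (swap 3 4 * swap 4 5 : Perm (Fin 6)) ^ k.val = 1 := by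
  decide +kernel

end Cfsg.Lib.NineThree
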