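import Cfsg.Agent.Lib.NineThree.Perm9
import Cfsg.Agent.Lib.NineThree.Facts36
import Mathlib.GroupTheory.Perm.Cycle.Type

/-!
# Finite facts in the alternating group of degree nine
-/

set_option autoImplicit false
set_option maxRecDepth 100000
set_option maxHeartbeats 4000000
set_option synthInstance.maxSize 2000
set_option synthInstance.maxHeartbeats 200000

namespace Cfsg.Lib.NineThree

open Equiv Cfsg.Lib.Recog.ThreeCubedFour

/-- The fixed involution with four moved points. -/
def sA : A9 := ⟨swap 3 4 * swap 5 6, Perm.mem_alternatingGroup.2 (by decide +kernel)⟩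

/-- Its companion. -/
def rA : A9 := ⟨swap 3 5 * swap 4 6, Perm.mem_alternatingGroup.2 (by decide +kernel)⟩

/-- An involution with one transposition in common with the first. -/
def pA : A9 := ⟨swap 0 1 * swap 3 4, Perm.mem_alternatingGroup.2 (by decide +kernel)⟩

/-- The product with the first. -/
def qA : A9 := ⟨swap 0 1 * swap 5 6, Perm.mem_alternatingGroup.2 (by decide +kernel)⟩

/-- An element moving the companion to its translate. -/
def gA : A9 := ⟨swap 3 4 * swap 7 8, Perm.mem_alternatingGroup.2 (by decide +kernel)⟩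

/-- The involution with eight moved points. -/
def tA : A9 := ⟨swap 0 1 * swap 3 4 * swap 5 6 * swap 7 8, Perm.mem_alternatingGroup.2 (by decide +kernel)⟩

/-- The first three-cycle. -/
def cyA : A9 := ⟨swap 0 1 * swap 1 2, Perm.mem_alternatingGroup.2 (by decide +kernel)⟩

/-- The three-cycle on the fixed points of the second four-group. -/
def xA : A9 := ⟨swap 2 7 * swap 7 8, Perm.mem_alternatingGroup.2 (by decide +kernel)⟩

/-- The double three-cycle permuting the second four-group. -/
def yA : A9 := ⟨swap 0 3 * swap 3 5 * (swap 1 4 * swap 4 6), Perm.mem_alternatingGroup.2 (by decide +kernel)⟩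

theorem basics9 :
    j9 v36 = (sA : Perm (Fin 9)) ∧ j9 w36 = (rA : Perm (Fin 9)) ∧ sA * sA = 1 ∧ rA * rA = 1 ∧ pA * pA = 1 ∧ tA * tA = 1 ∧
    cyA ^ 3 = 1 ∧ xA ^ 3 = 1 ∧ yA ^ 3 = 1 := by
  decide +kernel

theorem moved9 : (sA : Perm (Fin 9)).support.card = 4 ∧ (rA : Perm (Fin 9)).support.card = 4 ∧
    (pA : Perm (Fin 9)).support.card = 4 ∧ (qA : Perm (Fin 9)).support.card = 4 ∧
    (tA : Perm (Fin 9)).support.card = 8 ∧ (m9 l7 : Perm (Fin 9)).support.card = 8 ∧
    ((sA * rA : A9) : Perm (Fin 9)).support.card = 4 ∧ m9 l7 * m9 l7 = 1 := by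
  decide +kernel

/-- Conjugate permutations are conjugate in the alternating group when an odd permutation fixes one. -/
theorem isConj_A9 {σ τ : A9} (h : IsConj (σ : Perm (Fin 9)) τ) {u : Perm (Fin 9)} (hu : Perm.sign u = -1)
    (hc : u * σ = σ * u) : IsConj σ τ := by
  obtain ⟨k, hk⟩ := isConj_iff.1 h
  rcases Int.units_eq_one_or (Perm.sign k) with hs | hs
  · exact isConj_iff.2 ⟨⟨k, Perm.mem_alternatingGroup.2 hs⟩, Subtype.ext hk⟩
  · refine isConj_iff.2 ⟨⟨k * u, Perm.mem_alternatingGroup.2 (by rw [map_mul, hs, hu]; rfl)⟩, Subtype.ext ?_⟩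
    show k * u * σ * (k * u)⁻¹ = τ
    rw [mul_assoc k, hc, ← hk]
    group

theorem cycleType_inv {σ : Perm (Fin 9)} (h : σ * σ = 1) :
    σ.cycleType = Multiset.replicate (σ.support.card / 2) 2 := by
  have h2 : σ ^ 2 = 1 := by rw [pow_two, h]
  have e := Perm.cycleType_of_pow_prime_eq_one (p := 2) h2
  have hsum := σ.sum_cycleType
  rw [e, Multiset.sum_replicate, smul_eq_mul] at hsum
  rw [e, ← hsum, Nat.mul_div_cancel _ (by norm_num : 0 < 2)]

theorem isConj_sA {σ : A9} (h : σ * σ = 1) (h4 : (σ : Perm (Fin 9)).support.card = 4) : IsConj sA σ :=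
  isConj_A9 (Perm.isConj_iff_cycleType_eq.2 (by
    rw [cycleType_inv (congrArg Subtype.val basics9.2.2.1), cycleType_inv (congrArg Subtype.val h), moved9.1, h4]))
    (u := swap 3 4) (Perm.sign_swap (by decide)) (by decide +kernel)

theorem isConj_l7 {σ : A9} (h : σ * σ = 1) (h8 : (σ : Perm (Fin 9)).support.card = 8) : IsConj (m9 l7) σ :=
  isConj_A9 (Perm.isConj_iff_cycleType_eq.2 (by
    rw [cycleType_inv (congrArg Subtype.val moved9.2.2.2.2.2.2.2), cycleType_inv (congrArg Subtype.val h),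
      moved9.2.2.2.2.2.1, h8]))
    (u := swap 0 3) (Perm.sign_swap (by decide)) (by decide +kernel)

theorem isConj_three {σ : A9} (h : σ ^ 3 = 1) (h1 : σ ≠ 1) :
    IsConj (m9 rotA) σ ∨ IsConj (m9 cubB) σ ∨ IsConj (m9 (rotA * rotB * rotC)) σ := by
  have key : ∀ τ : A9, τ ^ 3 = 1 → ∃ n, (τ : Perm (Fin 9)).cycleType = Multiset.replicate n 3 ∧
      (τ : Perm (Fin 9)).support.card = 3 * n := by
    intro τ hτ
    have h3 : (τ : Perm (Fin 9)) ^ 3 = 1 := congrArg Subtype.val hτ
    have e := Perm.cycleType_of_pow_prime_eq_one (p := 3) h3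
    refine ⟨_, e, ?_⟩
    rw [← Perm.sum_cycleType]
    conv_lhs => rw [e]
    rw [Multiset.sum_replicate, smul_eq_mul, mul_comm]
  obtain ⟨n, hn, hc⟩ := key σ h
  have hle : 3 * n ≤ 9 := hc ▸ (Finset.card_le_univ _)
  have h0 : n ≠ 0 := fun e => h1 (Subtype.ext (by
    rw [e, Multiset.replicate_zero, Perm.cycleType_eq_zero] at hn
    exact hn))
  have hfix : ∀ m : Model, ∀ k, (m9 m) ^ 3 = 1 → (m9 m : Perm (Fin 9)).support.card = 3 * k → n = k →
      IsConj (m9 m : Perm (Fin 9)) σ := by
    intro m k hm hk e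
    obtain ⟨n', hn', hc'⟩ := key _ hm
    exact Perm.isConj_iff_cycleType_eq.2 (by rw [hn', hn, show n' = n by omega])
  have hn3 : n = 1 ∨ n = 2 ∨ n = 3 := by omega
  rcases hn3 with e | e | e
  · exact Or.inl (isConj_A9 (hfix rotA 1 (by decide +kernel) (by decide +kernel) e)
      (u := swap 3 4) (Perm.sign_swap (by decide)) (by decide +kernel))
  · exact Or.inr (Or.inl (isConj_A9 (hfix cubB 2 (by decide +kernel) (by decide +kernel) e)
      (u := swap 6 7 * swap 7 8 * swap 7 8) (by decide +kernel) (by decide +kernel)))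
  · exact Or.inr (Or.inr (isConj_A9 (hfix (rotA * rotB * rotC) 3 (by decide +kernel) (by decide +kernel) e)
      (u := swap 0 3 * swap 1 4 * swap 2 5) (by decide +kernel) (by decide +kernel)))

end Cfsg.Lib.NineThree
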