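import Cfsg.Agent.Lib.NineThree.FourSetup

/-!
# The small centraliser of a four-group does not occur
-/

set_option autoImplicit false
set_option linter.unusedSectionVars false
set_option linter.style.haveILetI false
set_option maxHeartbeats 1000000
set_option maxRecDepth 100000
set_option synthInstance.maxSize 2000
set_option synthInstance.maxHeartbeats 200000

namespace Cfsg.Lib.NineThree

open Cfsg.Lib.Recog.ThreeCubedFour Cfsg.Lib.CosetEnum Subgroup

universe u

namespace NOne

variable {G : Type u} [Group G] [Finite G] {F : Frame G} (Z : NOne F)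

theorem cube_A : F.φ rotA ^ 3 = 1 := by rw [← map_pow, inBase_cube rotA rotA_eq.2, map_one]

theorem eA_pow_three : (eA : E36) ^ 3 = 1 := Subtype.ext misc36.2.2.2.2.2.1

theorem V_mem {g : G} (hg : g ∈ Z.V) : ∃ m ∈ closure ({eV, eW} : Set E36), Z.φ₁ m = g := hg

theorem V_le : Z.V ≤ Z.C := by
  rintro _ ⟨m, hm, rfl⟩
  have h := mem_closure_VW.1 hm
  refine Z.map_mem_C.2 ⟨Subtype.ext ?_, Subtype.ext ?_⟩ <;>
  · have : ∀ p ∈ [1, v36, w36, v36 * w36], p * v36 = v36 * p ∧ p * w36 = w36 * p := by decide +kernel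
    first | exact (this _ h).1 | exact (this _ h).2

theorem card_V : Nat.card Z.V = 4 := by
  rw [Subgroup.card_map_of_injective Z.inj]
  have h1 : ∀ i : Fin 4, ([1, v36, w36, v36 * w36].getD i.val 1) ∈ E36 := by decide +kernel
  let f : Fin 4 → closure ({eV, eW} : Set E36) := fun i => ⟨⟨_, h1 i⟩, mem_closure_VW.2 (by
    show [1, v36, w36, v36 * w36].getD i.val 1 ∈ _
    fin_cases i <;> simp)⟩
  have hf : Function.Bijective f := by
    constructor
    · intro i j e
      have e' := congrArg (fun z : closure ({eV, eW} : Set E36) => ((z : E36) : P36)) e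
      revert e'
      simp only [f]
      revert i j
      have : ∀ i j : Fin 4, [1, v36, w36, v36 * w36].getD i.val 1 = [1, v36, w36, v36 * w36].getD j.val 1 → i = j := by
        decide +kernel
      exact fun i j _ => this i j
    · rintro ⟨m, hm⟩
      have h := mem_closure_VW.1 hm
      simp only [List.mem_cons, List.not_mem_nil, or_false] at h
      rcases h with h | h | h | h
      · exact ⟨0, Subtype.ext (Subtype.ext h.symm)⟩
      · exact ⟨1, Subtype.ext (Subtype.ext h.symm)⟩
      · exact ⟨2, Subtype.ext (Subtype.ext h.symm)⟩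
      · exact ⟨3, Subtype.ext (Subtype.ext h.symm)⟩
  rw [← Nat.card_congr (Equiv.ofBijective f hf), Nat.card_fin]

theorem A_mem_C : F.φ rotA ∈ Z.C := by
  rw [← Z.map_A, map_mem_C]
  exact ⟨Subtype.ext misc36.2.2.2.2.2.2.2.2.2.2.2.2.2.1, Subtype.ext misc36.2.2.2.2.2.2.2.2.2.2.2.2.2.2⟩

/-- The normaliser of the four-group normalises its centraliser. -/
theorem conj_mem_C {g : G} (hv : g⁻¹ * Z.φ₁ eV * g ∈ Z.V) (hw : g⁻¹ * Z.φ₁ eW * g ∈ Z.V) :
    ∀ c ∈ Z.C, g * c * g⁻¹ ∈ Z.C := by
  intro c hc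
  have hcomm : ∀ u ∈ Z.V, c * u = u * c := by
    rintro _ ⟨m, hm, rfl⟩
    induction hm using closure_induction with
    | mem m hm =>
      rcases hm with rfl | rfl
      · exact (Z.mem_C.1 hc).1
      · exact (Z.mem_C.1 hc).2
    | one => simp
    | mul a b _ _ ha hb => rw [map_mul]; exact (Commute.mul_right ha hb).eq
    | inv a _ ha => rw [map_inv]; exact (Commute.inv_right ha).eq
  have key : ∀ u : G, g⁻¹ * u * g ∈ Z.V → g * c * g⁻¹ * u = u * (g * c * g⁻¹) := by
    intro u hu
    calc g * c * g⁻¹ * u = g * (c * (g⁻¹ * u * g)) * g⁻¹ := by group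
      _ = g * (g⁻¹ * u * g * c) * g⁻¹ := by rw [hcomm _ hu]
      _ = u * (g * c * g⁻¹) := by group
  exact Z.mem_C.2 ⟨key _ hv, key _ hw⟩

/-- The data for the centraliser of the four-group, given a subgroup containing all fixed points. -/
def loc (K : Subgroup G) (hK : Z.φ₁.range ≤ K) (hy : ∀ c ∈ Z.C, c * F.φ rotB = F.φ rotB * c → c ∈ K) :
    Loc G where
  V := Z.V
  C := Z.C
  K := K
  x := F.φ rotA
  y := F.φ rotB
  V_le := Z.V_le
  central := by
    rintro _ ⟨m, hm, rfl⟩ c hc
    induction hm using closure_induction with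
    | mem m hm =>
      rcases hm with rfl | rfl
      · exact (Z.mem_C.1 hc).1.symm
      · exact (Z.mem_C.1 hc).2.symm
    | one => simp
    | mul a b _ _ ha hb => rw [map_mul]; exact (Commute.mul_left ha hb).eq
    | inv a _ ha => rw [map_inv]; exact (Commute.inv_left ha).eq
  card_V := Z.card_V
  x_three := cube_A
  x_ne := fun e => rotA_base.2.1 (F.inj (e.trans (map_one _).symm))
  y_three := by rw [← map_pow, inBase_cube rotB rotA_base.2.2.1, map_one]
  comm := by rw [← map_mul, ← map_mul, inBase_commute rotA rotB rotA_eq.2 rotA_base.2.2.1]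
  y_not := by
    intro h
    obtain ⟨k, hk⟩ := h
    have : F.φ rotB ∈ Z.C := hk ▸ zpow_mem Z.A_mem_C k
    exact Z.not_B_mem.1 this
  x_mem := Z.A_mem_C
  y_norm := by
    refine Z.conj_mem_C ?_ ?_ <;> rw [← Z.map_C, ← map_inv, ← map_mul, ← map_mul] <;>
      refine mem_map_of_mem _ (mem_closure_VW.2 ?_)
    · show c36⁻¹ * v36 * c36 ∈ _
      decide +kernel
    · show c36⁻¹ * w36 * c36 ∈ _
      decide +kernel
  self := by
    intro c hc h
    obtain ⟨i, v, hv, e, -⟩ := Z.cent_a hc h
    refine ⟨Z.φ₁ v, mem_map_of_mem _ hv, ?_⟩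
    rw [e, map_mul, mul_inv_cancel_right, map_pow, Z.map_A]
    exact pow_mem (mem_zpowers _) _
  fix := by
    intro z hz c hc h
    simp only [List.mem_cons, List.not_mem_nil, or_false] at hz
    rcases hz with rfl | rfl | rfl | rfl
    · obtain ⟨i, v, -, e, -⟩ := Z.cent_a hc h
      exact hK ⟨_, e.symm⟩
    · exact hy c hc h
    · rw [← map_mul] at h
      obtain ⟨i, e⟩ := Z.cent_double_mem (b := cubB) (by simp) hc h
      exact hK ⟨_, e.symm⟩
    · rw [← map_mul, ← map_mul] at h
      obtain ⟨i, e⟩ := Z.cent_double_mem (b := rotA * rotA * rotB) (by simp) hc h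
      exact hK ⟨_, e.symm⟩

theorem card_C_range : Nat.card ↥(Z.C ⊓ Z.φ₁.range) = 24 := by
  classical
  have h := count36.1
  rw [← Fintype.card_subtype, ← Nat.card_eq_fintype_card] at h
  rw [← h]
  refine Nat.card_congr (Equiv.ofBijective
    (fun m : {m : P36 // Equiv.Perm.sign m.1 * Equiv.Perm.sign m.2 = 1 ∧ m * v36 = v36 * m ∧ m * w36 = w36 * m} =>
      (⟨Z.φ₁ ⟨m.1, mem_E36.2 m.2.1⟩, Z.map_mem_C.2 ⟨Subtype.ext m.2.2.1, Subtype.ext m.2.2.2⟩, _, rfl⟩ :
        ↥(Z.C ⊓ Z.φ₁.range))) ⟨fun a b e => Subtype.ext (congrArg (fun z : E36 => (z : P36)) (Z.inj (congrArg Subtype.val e))), ?_⟩).symm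
  rintro ⟨_, hc, m, rfl⟩
  obtain ⟨h1, h2⟩ := Z.map_mem_C.1 hc
  exact ⟨⟨m, mem_E36.1 m.2, congrArg Subtype.val h1, congrArg Subtype.val h2⟩, rfl⟩

/-- In the small case the centraliser lies in the normaliser of the three-cycle. -/
theorem C_le (hsmall : ∀ b ∈ Z.sixPart, b ∈ sym3List) : Z.C ≤ Z.φ₁.range := by
  obtain ⟨-, -, -, hB, -, hs, -⟩ := f_facts
  have hy : ∀ c ∈ Z.C, c * F.φ rotB = F.φ rotB * c → c ∈ Z.φ₁.range := by
    intro c hc h
    set d := F.φ l7 * c * F.φ l7 with hd
    have ec : c = F.φ l7 * d * F.φ l7 := by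
      rw [hd]
      simp only [mul_assoc]
      simp only [← mul_assoc (F.φ l7) (F.φ l7), f_sq (F := F), one_mul, mul_one]
    have eB : F.φ l7 * F.φ rotB * F.φ l7 = F.φ rotA := by rw [← map_mul, ← map_mul, hB]
    have hda : d * F.φ rotA = F.φ rotA * d := by
      rw [← eB, hd]
      simp only [mul_assoc]
      simp only [← mul_assoc (F.φ l7) (F.φ l7), f_sq (F := F), one_mul]
      rw [← mul_assoc c, h, mul_assoc]
    obtain ⟨m, hm, hmd⟩ := Z.cent d (mem_centralizer_singleton_iff.2 hda)
    obtain ⟨i, b, rfl⟩ := coords_of_comm hm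
    have hcm : c = F.φ rotB ^ i.val * (F.φ l7 * Z.φ₁ (sixHom b) * F.φ l7) := by
      rw [ec, ← hmd, map_mul, map_pow, Z.map_A, ← eB]
      have hpow : ∀ n : ℕ, (F.φ l7 * F.φ rotB * F.φ l7) ^ n = F.φ l7 * F.φ rotB ^ n * F.φ l7 := by
        intro n
        induction n with
        | zero => simp [f_sq (F := F)]
        | succ n ih =>
          rw [pow_succ, ih, pow_succ]
          simp only [mul_assoc]
          simp only [← mul_assoc (F.φ l7) (F.φ l7), f_sq (F := F), one_mul]
      rw [hpow]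
      simp only [mul_assoc]
      simp only [← mul_assoc (F.φ l7) (F.φ l7), f_sq (F := F), one_mul]
    have hpre : eA ^ i.val * sixHom b ∈ Z.pre := Z.mem_pre.2 ⟨by rw [hmd, ← ec]; exact hc, hm⟩
    have hbS := hsmall _ (Z.mem_sixPart hpre)
    -- the element of the group of order six with the same action
    obtain ⟨s, hs', hs1, hs2⟩ : ∃ s ∈ Z.pre, (s : P36).1 = 1 ∧ (s : P36).2 = b.1 := by
      have h2 : ((eA ^ i.val * sixHom b : E36) : P36).2 = b.1 := by
        rw [Subgroup.coe_mul, Prod.snd_mul, Subgroup.coe_pow, Prod.pow_snd, show (eA : P36).2 = 1 from rfl,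
          one_pow, one_mul]
        rfl
      rw [h2] at hbS
      obtain ⟨hC, hS⟩ := Z.C_S_mem_pre
      simp only [sym3List, List.mem_cons, List.not_mem_nil, or_false] at hbS
      rcases hbS with h | h | h | h | h | h
      · exact ⟨1, one_mem _, rfl, h.symm⟩
      · exact ⟨eC, hC, rfl, h.symm⟩
      · exact ⟨eC * eC, mul_mem hC hC, rfl, h.symm⟩
      · exact ⟨eS, hS, rfl, h.symm⟩
      · exact ⟨eC * eS, mul_mem hC hS, rfl, h.symm⟩
      · exact ⟨eC * eC * eS, mul_mem (mul_mem hC hC) hS, rfl, h.symm⟩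
    have hsb : sixHom b = s := Subtype.ext (Prod.ext hs1.symm hs2.symm)
    have hcA : eA ^ i.val * eC = eC * eA ^ i.val :=
      ((show Commute eA eC from Subtype.ext misc36.2.2.2.2.2.2.1.symm).pow_left _).eq
    have hz : eA ^ i.val ∈ Z.pre := by
      have := mul_mem hpre (inv_mem hs')
      rwa [hsb, mul_inv_cancel_right] at this
    obtain ⟨j, hj⟩ := Z.self_pre hz hcA
    have hi : eA ^ i.val = 1 := by
      refine Subtype.ext (Prod.ext ?_ ?_)
      · rw [hj, Subgroup.coe_pow, Prod.pow_fst, show (eC : P36).1 = 1 from rfl, one_pow]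
        rfl
      · rw [Subgroup.coe_pow, Prod.pow_snd, show (eA : P36).2 = 1 from rfl, one_pow]
        rfl
    rw [ec, ← hmd, hi, one_mul, hsb]
    -- the conjugates of the two generators
    have hgen : ∀ s : E36, (s : P36).1 = 1 → (s : P36).2 ∈ sym3List →
        F.φ l7 * Z.φ₁ s * F.φ l7 ∈ Z.φ₁.range := by
      intro s h1 h2
      have hr : ∀ q : E36, q ∈ closure ({eC, eS} : Set E36) → F.φ l7 * Z.φ₁ q * F.φ l7 ∈ Z.φ₁.range := by
        intro q hq
        induction hq using closure_induction with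
        | mem q hq =>
          rcases hq with rfl | rfl
          · exact ⟨eA, by rw [Z.map_C, eB, Z.map_A]⟩
          · exact ⟨eT, by rw [Z.map_S, ← map_mul, ← map_mul, hs, Z.map_T]⟩
        | one => exact ⟨1, by rw [map_one, mul_one, f_sq (F := F)]⟩
        | mul a b _ _ ha hb =>
          have := mul_mem ha hb
          rw [map_mul]
          simpa [mul_assoc, ← mul_assoc (F.φ l7) (F.φ l7), f_sq (F := F)] using this
        | inv a _ ha =>
          have := inv_mem ha
          rw [map_inv]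
          simpa [mul_assoc, inv_eq_of_mul_eq_one_right (f_sq (F := F))] using this
      refine hr s ?_
      have hC : eC ∈ closure ({eC, eS} : Set E36) := subset_closure (by simp)
      have hS : eS ∈ closure ({eC, eS} : Set E36) := subset_closure (by simp)
      simp only [sym3List, List.mem_cons, List.not_mem_nil, or_false] at h2
      rcases h2 with h | h | h | h | h | h
      · rw [show s = 1 from Subtype.ext (Prod.ext h1 h)]; exact one_mem _
      · rw [show s = eC from Subtype.ext (Prod.ext h1 h)]; exact hC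
      · rw [show s = eC * eC from Subtype.ext (Prod.ext h1 h)]; exact mul_mem hC hC
      · rw [show s = eS from Subtype.ext (Prod.ext h1 h)]; exact hS
      · rw [show s = eC * eS from Subtype.ext (Prod.ext h1 h)]; exact mul_mem hC hS
      · rw [show s = eC * eC * eS from Subtype.ext (Prod.ext h1 h)]; exact mul_mem (mul_mem hC hC) hS
    exact hgen s hs1 (hsmall _ (Z.mem_sixPart hs'))
  refine (Z.loc Z.φ₁.range le_rfl hy).le_K_small Z.card_C_range ?_
  rintro _ ⟨-, m, rfl⟩
  show Z.φ₁ m * F.φ rotA * (Z.φ₁ m)⁻¹ ∈ zpowers (F.φ rotA)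
  rw [← Z.map_A, ← map_inv, ← map_mul, ← map_mul]
  rcases eA_conj m with h | h <;> rw [h]
  · exact mem_zpowers _
  · rw [map_mul]; exact mul_mem (mem_zpowers _) (mem_zpowers _)

end NOne

end Cfsg.Lib.NineThree
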