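import Cfsg.Agent.Lib.NineThree.Cert.Words
import Cfsg.Agent.Lib.CosetEnum.Perm

/-!
# The even part of `Sym(3) × Sym(6)`
-/

set_option autoImplicit false
set_option maxRecDepth 100000
set_option synthInstance.maxSize 2000

namespace Cfsg.Lib.NineThree

open Equiv Cfsg.Lib.CosetEnum

/-- Permutations of three and of six points. -/
abbrev P36 : Type := Perm (Fin 3) × Perm (Fin 6)

/-- The product of the signs. -/
def sgn36 : P36 →* ℤˣ :=
  (Perm.sign.comp (MonoidHom.fst _ _)) * (Perm.sign.comp (MonoidHom.snd _ _))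

/-- The even part. -/
abbrev E36 : Subgroup P36 := sgn36.ker

theorem mem_E36 {m : P36} : m ∈ E36 ↔ Perm.sign m.1 * Perm.sign m.2 = 1 := Iff.rfl

instance e36Dec : DecidablePred (· ∈ E36) := fun m =>
  decidable_of_iff (Perm.sign m.1 * Perm.sign m.2 = 1) Iff.rfl

/-- The letters as pairs. -/
def x36 : ℕ → P36
  | 0 => (1, swap 0 1 * swap 3 4)
  | 1 => (1, swap 1 2 * swap 3 4)
  | 2 => (1, swap 0 1 * swap 4 5)
  | 3 => (1, swap 0 1 * swap 2 3)
  | 4 => (swap 0 1, swap 0 1)
  | 5 => (swap 0 1, swap 0 3 * swap 1 4 * swap 2 5)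
  | 6 => (swap 1 2, swap 0 1)
  | _ => 1

theorem x36_mem (g : ℕ) : x36 g ∈ E36 := by
  by_cases h : g < 7
  · interval_cases g <;> decide +kernel
  · unfold x36; split <;> first | omega | exact one_mem _

theorem x36_sq (g : ℕ) : x36 g * x36 g = 1 := by
  by_cases h : g < 7
  · interval_cases g <;> decide +kernel
  · unfold x36; split <;> first | omega | exact one_mul 1

theorem x36_rels : ∀ r ∈ Words.relN, wordVal x36 r = 1 := by decide +kernel

/-- The three-cycle on the three points. -/
def a36 : P36 := (swap 0 1 * swap 1 2, 1)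

theorem a36_eq : a36 = x36 4 * x36 6 := by decide +kernel

theorem swap_words : ∀ i : Fin 5,
    (wordVal x36 (![[4], [0, 4, 1], [3, 4], [0, 4], [2, 4]] i)).2 = swap i.castSucc i.succ := by
  decide +kernel

theorem even_three : ∀ p : Perm (Fin 3), Perm.sign p = 1 →
    p = 1 ∨ p = a36.1 ∨ p = a36.1 * a36.1 := by
  decide +kernel

theorem sign_three : ∀ p q : Perm (Fin 3), ∀ s : Perm (Fin 6), Perm.sign p * Perm.sign s = 1 →
    Perm.sign q * Perm.sign s = 1 → Perm.sign (p * q⁻¹) = 1 := by
  intro p q s h1 h2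
  rw [map_mul, map_inv, ← mul_right_cancel (h1.trans h2.symm), mul_inv_cancel]

/-- The even part is generated by the letters. -/
theorem closure_x36 : Subgroup.closure (x36 '' {g | g ∈ [0, 1, 2, 3, 4, 5, 6]}) = E36 := by
  set T := Subgroup.closure (x36 '' {g | g ∈ [0, 1, 2, 3, 4, 5, 6]})
  refine le_antisymm ?_ ?_
  · rw [Subgroup.closure_le]
    rintro _ ⟨g, -, rfl⟩
    exact x36_mem g
  have hgen : ∀ g < 7, x36 g ∈ T := fun g hg => Subgroup.subset_closure ⟨g, by
    simp only [Set.mem_ofPred_eq, List.mem_cons, List.not_mem_nil, or_false]; omega, rfl⟩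
  have hword : ∀ w : List ℕ, (∀ g ∈ w, g < 7) → wordVal x36 w ∈ T := by
    intro w
    induction w with
    | nil => exact fun _ => one_mem _
    | cons g w ih =>
      intro hw
      refine mul_mem (ih fun a ha => hw a (by simp [ha])) ?_
      unfold gen
      split
      · exact one_mem _
      · exact hgen g (hw g (by simp))
  have hsnd : T.map (MonoidHom.snd _ _) = ⊤ := by
    rw [eq_top_iff]
    intro s _
    have h : s ∈ Submonoid.closure (Set.range fun i : Fin 5 => swap i.castSucc i.succ) := by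
      rw [Equiv.Perm.mclosure_swap_castSucc_succ]; trivial
    refine (Submonoid.closure_le.2 ?_ h : s ∈ (T.map (MonoidHom.snd _ _)).toSubmonoid)
    rintro _ ⟨i, rfl⟩
    refine ⟨_, hword _ ?_, swap_words i⟩
    have : ∀ i : Fin 5, ∀ g ∈ ![[4], [0, 4, 1], [3, 4], [0, 4], [2, 4]] i, g < 7 := by decide
    exact this i
  have ha : a36 ∈ T := a36_eq ▸ mul_mem (hgen 4 (by norm_num)) (hgen 6 (by norm_num))
  intro m hm
  obtain ⟨t, ht, e⟩ : m.2 ∈ T.map (MonoidHom.snd _ _) := hsnd ▸ Subgroup.mem_top _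
  change t.2 = m.2 at e
  have hte : t ∈ E36 := (Subgroup.closure_le E36).2 (by rintro _ ⟨g, -, rfl⟩; exact x36_mem g) ht
  have hq : m * t⁻¹ ∈ T := by
    have h2 : (m * t⁻¹).2 = 1 := by
      rw [Prod.snd_mul, Prod.snd_inv, e, mul_inv_cancel]
    rcases even_three _ (sign_three m.1 t.1 m.2 hm (e ▸ hte)) with h | h | h
    · rw [show m * t⁻¹ = 1 from Prod.ext h h2]; exact one_mem _
    · rw [show m * t⁻¹ = a36 from Prod.ext h h2]; exact ha
    · rw [show m * t⁻¹ = a36 * a36 from Prod.ext h (by rw [h2]; rfl)]; exact mul_mem ha ha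
  simpa using mul_mem hq ht

theorem card_E36 : Nat.card E36 = 2160 := by
  have h := Subgroup.card_mul_index E36
  have hs : Function.Surjective sgn36 := by
    intro u
    rcases Int.units_eq_one_or u with rfl | rfl
    · exact ⟨1, map_one _⟩
    · exact ⟨(swap 0 1, 1), by decide +kernel⟩
  rw [Subgroup.index_ker, MonoidHom.range_eq_top.2 hs, Subgroup.card_top, Nat.card_prod,
    Nat.card_perm, Nat.card_perm, Nat.card_fin, Nat.card_fin, Nat.card_eq_fintype_card (α := ℤˣ),
    Fintype.card_units_int] at h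
  rw [show Nat.factorial 3 = 6 from rfl, show Nat.factorial 6 = 720 from rfl] at h
  omega

end Cfsg.Lib.NineThree
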