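import Cfsg.Agent.Lib.NineThree.Letters
import Cfsg.Agent.Lib.NineThree.Perm36
import Cfsg.Agent.Lib.NineThree.Facts36

/-!
# Finite facts for the centraliser of a four-group
-/

set_option autoImplicit false
set_option maxRecDepth 100000
set_option maxHeartbeats 4000000
set_option synthInstance.maxSize 20000
set_option synthInstance.maxHeartbeats 2000000

namespace Cfsg.Lib.NineThree

open Cfsg.Lib.Recog.ThreeCubedFour Equiv

theorem f_facts : l7 * l7 = 1 ∧ rotB = l0 * l1 ∧ rotC = l0 * l2 ∧ l7 * rotB * l7 = rotA ∧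
    l7 * rotA * l7 = rotB ∧ l7 * (l0 * l2 * l0) * l7 = l4 * l2 ∧ l7 * cubB = cubB * l7 := by
  decide +kernel

theorem cent_double : ∀ b ∈ [cubB, rotA * rotA * rotB], ∀ m : Model, m * b = b * m →
    InBase m ∨ m * rotA * m⁻¹ ∈ [rotB, rotB * rotB] := by
  decide +kernel

theorem cubB_not_rotA : ∀ m : Model, m * cubB * m⁻¹ ∉ [rotA, rotA * rotA] := by decide +kernel

theorem f_conj : ∃ m : Model, m * l7 * m⁻¹ = l5 := by decide +kernel

theorem t_conj : ∃ m : Model, m * l0 * m⁻¹ = l4 * l2 := by decide +kernel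

/-- The sixteen elements commuting with the two central involutions. -/
def T16 : List P36 :=
  ([1, t36].flatMap fun x => [1, v36].map fun y => x * y).flatMap fun x =>
    [1, w36, x36 2, w36 * x36 2].map fun y => x * y

theorem mem_T16 : ∀ p : Perm (Fin 3), ∀ b : Perm (Fin 6), Perm.sign p * Perm.sign b = 1 →
    p * t36.1 = t36.1 * p → b * t36.2 = t36.2 * b → b * v36.2 = v36.2 * b → ((p, b) : P36) ∈ T16 := by
  decide +kernel

theorem T16_ok : ∀ m ∈ T16, m * t36 = t36 * m ∧ m * v36 = v36 * m ∧ (m * m = 1 ∨ m * m = v36) := by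
  decide +kernel

theorem v_square : (x36 2 * w36) * (x36 2 * w36) = v36 ∧ x36 2 * w36 ∈ T16 ∧ v36 ≠ 1 ∧ t36 ≠ v36 ∧
    w36 ∈ T16 ∧ t36 ∈ T16 ∧ v36 ∈ T16 := by
  decide +kernel

/-- Behaves like the involutions of the four-group. -/
def VLike (n : P36) : Prop := n.1 = 1 ∨ (Finset.univ.filter fun i => n.2 i ≠ i).card = 2

instance vLikeDec (n : P36) : Decidable (VLike n) := inferInstanceAs (Decidable (_ ∨ _))

theorem vlike_conj : ∀ n ∈ T16, n * n = 1 → n ≠ 1 → VLike n →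
    (∃ q : Perm (Fin 6), n.1 = 1 ∧ Perm.sign q = 1 ∧ q * n.2 * q⁻¹ = v36.2) ∨
    ∃ q : Perm (Fin 6), ∃ p : Perm (Fin 3), Perm.sign p * Perm.sign q = 1 ∧
      p * n.1 * p⁻¹ = t36.1 ∧ q * n.2 * q⁻¹ = t36.2 := by
  decide +kernel

theorem flike_two : ∀ n ∈ [t36 * w36, t36 * w36 * v36],
    n ∈ T16 ∧ n * n = 1 ∧ n * v36 = v36 * n ∧ n * w36 = w36 * n ∧
      ∃ q : Perm (Fin 6), ∃ p : Perm (Fin 3), Perm.sign p * Perm.sign q = 1 ∧
        p * n.1 * p⁻¹ = (x36 5).1 ∧ q * n.2 * q⁻¹ = (x36 5).2 := by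
  decide +kernel

theorem flike_ne : t36 * w36 ≠ t36 * w36 * v36 ∧ w36 * v36 ≠ 1 ∧ w36 ≠ 1 ∧ w36 * w36 = 1 ∧
    v36 * v36 = 1 ∧ w36 * v36 = v36 * w36 := by
  decide +kernel

/-- Only the four-group has two commuting involutions of the other class. -/
theorem v_char : ∀ z ∈ T16, z * z = 1 → z ≠ 1 → z ≠ v36 → VLike z → VLike (z * v36) →
    ∀ n1 ∈ T16, ∀ n2 ∈ T16, n1 * n1 = 1 → n1 ≠ 1 → n2 * n2 = 1 → n2 ≠ 1 → n1 ≠ n2 →
      ¬ VLike n1 → ¬ VLike n2 → n1 * z = z * n1 → n2 * z = z * n2 → z ∈ [w36, w36 * v36] := by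
  decide +kernel

theorem count36 :
    (Finset.univ.filter fun m : P36 => Perm.sign m.1 * Perm.sign m.2 = 1 ∧ m * v36 = v36 * m ∧
      m * w36 = w36 * m).card = 24 ∧
    (Finset.univ.filter fun m : P36 => Perm.sign m.1 * Perm.sign m.2 = 1 ∧ m * a36 = a36 * m ∧
      m * v36 = v36 * m).card = 24 := by
  decide +kernel

theorem three_cent_V : ∀ p : Perm (Fin 3), ∀ b : Perm (Fin 6),
    p * p * p = 1 → b * b * b = 1 → b * v36.2 = v36.2 * b → b * w36.2 = w36.2 * b → b = 1 := by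
  decide +kernel

theorem misc36 : c36 * v36 ≠ v36 * c36 ∧ c36 * c36 * v36 ≠ v36 * (c36 * c36) ∧
    (c36 * v36 * c36⁻¹ ∈ [v36, w36, v36 * w36]) ∧ (c36 * w36 * c36⁻¹ ∈ [v36, w36, v36 * w36]) ∧
    c36 ^ 3 = 1 ∧ a36 ^ 3 = 1 ∧ c36 * a36 = a36 * c36 ∧ a36 ≠ 1 ∧ c36 ∉ [1, a36, a36 * a36] ∧
    v36 ≠ w36 ∧ (v36 * w36 ∉ [1, v36, w36]) ∧ t36 * v36 = v36 * t36 ∧ t36 * w36 = w36 * t36 ∧
    a36 * v36 = v36 * a36 ∧ a36 * w36 = w36 * a36 := by
  decide +kernel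

end Cfsg.Lib.NineThree
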