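import Cfsg.Agent.Lib.Recog.SelfThree.Main
import Cfsg.Agent.Lib.Coprime.Generation
import Cfsg.Agent.Lib.Core.Cores

/-!
# A subgroup with a central four-group, normalised by an elementary group of order nine
-/

set_option autoImplicit false
set_option linter.unusedSectionVars false
set_option linter.style.haveILetI false

namespace Cfsg.Lib.NineThree

open Subgroup

universe u

variable {G : Type u} [Group G] [Finite G]

/-- The data. -/
structure Loc (G : Type u) [Group G] where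
  /-- the central four-group -/
  V : Subgroup G
  /-- the subgroup -/
  C : Subgroup G
  /-- the subgroup to compare with -/
  K : Subgroup G
  /-- the self-centralising element -/
  x : G
  /-- the second element -/
  y : G
  V_le : V ≤ C
  central : ∀ v ∈ V, ∀ c ∈ C, v * c = c * v
  card_V : Nat.card V = 4
  x_three : x ^ 3 = 1
  x_ne : x ≠ 1
  y_three : y ^ 3 = 1
  comm : x * y = y * x
  y_not : y ∉ zpowers x
  x_mem : x ∈ C
  y_norm : ∀ c ∈ C, y * c * y⁻¹ ∈ C
  self : ∀ c ∈ C, c * x = x * c → ∃ v ∈ V, c * v⁻¹ ∈ zpowers x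
  fix : ∀ z ∈ [x, y, x * y, x * x * y], ∀ c ∈ C, c * z = z * c → c ∈ K

namespace Loc

variable (L : Loc G)

/-- The element of the group of order nine with given exponents. -/
def el (p : Fin 3 × Fin 3) : G := L.x ^ p.1.val * L.y ^ p.2.val

theorem orderOf_x : orderOf L.x = 3 := orderOf_eq_prime L.x_three L.x_ne

theorem y_ne : L.y ≠ 1 := fun e => L.y_not (e ▸ one_mem _)

theorem el_inj : Function.Injective L.el := by
  rintro ⟨i, j⟩ ⟨i', j'⟩ h
  have hc : Commute L.x L.y := L.comm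
  have h' : L.y ^ (j.val : ℤ) * (L.y ^ (j'.val : ℤ))⁻¹ = (L.x ^ (i.val : ℤ))⁻¹ * L.x ^ (i'.val : ℤ) := by
    rw [mul_inv_eq_iff_eq_mul, mul_assoc, eq_inv_mul_iff_mul_eq, zpow_natCast, zpow_natCast, zpow_natCast,
      zpow_natCast]
    exact h
  have hmem : L.y ^ ((j.val : ℤ) - j'.val) ∈ zpowers L.x := by
    rw [zpow_sub, h']
    exact mul_mem (inv_mem (zpow_mem (mem_zpowers _) _)) (zpow_mem (mem_zpowers _) _)
  have hj : j = j' := by
    by_contra hne
    have hcop : Int.gcd ((j.val : ℤ) - j'.val) 3 = 1 :=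
      (by decide : ∀ a b : Fin 3, a ≠ b → Int.gcd ((a.val : ℤ) - b.val) 3 = 1) j j' hne
    obtain ⟨a, b, hab⟩ : ∃ a b : ℤ, ((j.val : ℤ) - j'.val) * a + 3 * b = 1 :=
      ⟨_, _, by rw [← Int.gcd_eq_gcd_ab, hcop]; rfl⟩
    refine L.y_not ?_
    have : L.y = (L.y ^ ((j.val : ℤ) - j'.val)) ^ a := by
      conv_lhs => rw [← zpow_one L.y, ← hab, zpow_add, zpow_mul L.y _ a, zpow_mul L.y 3 b,
        show L.y ^ (3 : ℤ) = 1 from by exact_mod_cast L.y_three, one_zpow, mul_one]
    rw [this]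
    exact zpow_mem hmem a
  subst hj
  have h2 : L.x ^ i.val = L.x ^ i'.val := mul_right_cancel h
  rw [pow_inj_mod, L.orderOf_x, Nat.mod_eq_of_lt i.2, Nat.mod_eq_of_lt i'.2] at h2
  exact Prod.ext (Fin.ext h2) rfl

theorem el_norm (p : Fin 3 × Fin 3) : ∀ c ∈ L.C, L.el p * c * (L.el p)⁻¹ ∈ L.C := by
  intro c hc
  have hy : ∀ n : ℕ, L.y ^ n * c * (L.y ^ n)⁻¹ ∈ L.C := by
    intro n
    induction n with
    | zero => simpa using hc
    | succ n ih =>
      rw [pow_succ']
      have := L.y_norm _ ih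
      simpa [mul_assoc] using this
  have := mul_mem (mul_mem (pow_mem L.x_mem p.1.val) (hy p.2.val)) (inv_mem (pow_mem L.x_mem p.1.val))
  simpa [el, mul_assoc] using this

theorem el_commute (p q : Fin 3 × Fin 3) : Commute (L.el p) (L.el q) := by
  have hc : Commute L.x L.y := L.comm
  exact (((Commute.refl L.x).pow_pow _ _).mul_right (hc.pow_pow _ _)).mul_left
    ((hc.symm.pow_pow _ _).mul_right ((Commute.refl L.y).pow_pow _ _))

theorem el_three (p : Fin 3 × Fin 3) : L.el p ^ 3 = 1 := by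
  rw [el, (show Commute L.x L.y from L.comm).pow_pow _ _ |>.mul_pow, ← pow_mul, ← pow_mul, mul_comm p.1.val,
    mul_comm p.2.val, pow_mul, pow_mul, L.x_three, L.y_three, one_pow, one_pow, one_mul]

theorem el_mul (p q : Fin 3 × Fin 3) : L.el p * L.el q = L.el (p + q) := by
  have hc : Commute L.x L.y := L.comm
  simp only [el, Prod.fst_add, Prod.snd_add, Fin.val_add]
  rw [← pow_eq_pow_mod _ L.x_three, ← pow_eq_pow_mod _ L.y_three, pow_add, pow_add]
  simp only [mul_assoc]
  rw [← mul_assoc (L.y ^ p.2.val), (hc.symm.pow_pow _ _).eq, mul_assoc]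

/-- The group of order nine. -/
def A : Subgroup G where
  carrier := Set.range L.el
  one_mem' := ⟨(0, 0), by simp [el]⟩
  mul_mem' := by rintro _ _ ⟨p, rfl⟩ ⟨q, rfl⟩; exact ⟨p + q, (L.el_mul p q).symm⟩
  inv_mem' := by
    rintro _ ⟨p, rfl⟩
    refine ⟨p + p, ?_⟩
    rw [← el_mul, eq_inv_iff_mul_eq_one, ← pow_two, ← pow_succ, L.el_three]

theorem card_A : Nat.card L.A = 9 := by
  show Nat.card (Set.range L.el) = 9
  rw [Nat.card_range_of_injective L.el_inj]
  simp

theorem A_isPGroup : IsPGroup 3 L.A := IsPGroup.of_card (n := 2) (by rw [L.card_A]; norm_num)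

/-- Fixed elements of any nontrivial element of the group of order nine lie in `K`. -/
theorem fix_el {p : Fin 3 × Fin 3} (hp : p ≠ (0, 0)) {c : G} (hc : c ∈ L.C) (h : c * L.el p = L.el p * c) :
    c ∈ L.K := by
  have hc' : Commute c (L.el p) := h
  have key : ∀ p : Fin 3 × Fin 3, p ≠ (0, 0) → ∃ q ∈ [((1, 0) : Fin 3 × Fin 3), (0, 1), (1, 1), (2, 1)],
      ∃ n : Fin 3, p.1.val * n.val % 3 = q.1.val ∧ p.2.val * n.val % 3 = q.2.val := by decide
  obtain ⟨q, hq, n, h1, h2⟩ := key p hp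
  have he : L.el q = L.el p ^ n.val := by
    rw [el, el, ((show Commute L.x L.y from L.comm).pow_pow _ _).mul_pow, ← pow_mul, ← pow_mul, ← h1, ← h2,
      ← pow_eq_pow_mod _ L.x_three, ← pow_eq_pow_mod _ L.y_three]
  have hcq : Commute c (L.el q) := he ▸ hc'.pow_right _
  refine L.fix (L.el q) ?_ c hc hcq.eq
  simp only [List.mem_cons, List.not_mem_nil, or_false] at hq ⊢
  rcases hq with rfl | rfl | rfl | rfl <;> simp [el, pow_two]

/-- The central four-group inside the subgroup. -/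
abbrev V' : Subgroup L.C := L.V.subgroupOf L.C

instance normal_V' : L.V'.Normal := ⟨fun v hv c => by
  rw [mem_subgroupOf] at hv ⊢
  rw [Subgroup.coe_mul, Subgroup.coe_mul, Subgroup.coe_inv, ← L.central _ hv _ c.2, mul_inv_cancel_right]
  exact hv⟩

theorem card_V' : Nat.card L.V' = 4 := by
  rw [Nat.card_congr (subgroupOfEquivOfLe L.V_le).toEquiv, L.card_V]

theorem three_not_mem_V {z : G} (h3 : z ^ 3 = 1) (hz : z ∈ L.V) : z = 1 := by
  have h4 : z ^ 4 = 1 := by
    have := pow_card_eq_one' (G := L.V) (x := ⟨z, hz⟩)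
    rw [L.card_V] at this
    exact congrArg Subtype.val this
  rwa [pow_succ, h3, one_mul] at h4

/-- The image of the self-centralising element is self-centralising in the quotient. -/
theorem sc_bar : Recog.SelfThree.SC (QuotientGroup.mk' L.V' ⟨L.x, L.x_mem⟩) := by
  constructor
  · refine orderOf_eq_prime (hp := ⟨Nat.prime_three⟩) ?_ ?_
    · rw [← map_pow, show (⟨L.x, L.x_mem⟩ : L.C) ^ 3 = 1 from Subtype.ext L.x_three, map_one]
    · rw [QuotientGroup.mk'_apply, Ne, QuotientGroup.eq_one_iff]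
      exact fun h => L.x_ne (L.three_not_mem_V L.x_three h)
  · intro g hg
    obtain ⟨c, rfl⟩ := QuotientGroup.mk'_surjective L.V' g
    have hv : (c * ⟨L.x, L.x_mem⟩ * c⁻¹ * (⟨L.x, L.x_mem⟩ : L.C)⁻¹) ∈ L.V' := by
      rw [← QuotientGroup.eq_one_iff, ← QuotientGroup.mk'_apply, map_mul, map_mul, map_mul, map_inv, map_inv,
        hg, mul_inv_cancel_right, mul_inv_cancel]
    rw [mem_subgroupOf] at hv
    set v : G := (c : G) * L.x * (c : G)⁻¹ * L.x⁻¹ with hvdef
    have hv' : v ∈ L.V := hv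
    have e : v * L.x = (c : G) * L.x * (c : G)⁻¹ := by rw [hvdef, inv_mul_cancel_right]
    have h3 : (v * L.x) ^ 3 = 1 := by rw [e, conj_pow, L.x_three, mul_one, mul_inv_cancel]
    rw [(show Commute v L.x from L.central v hv' L.x L.x_mem).mul_pow, L.x_three, mul_one] at h3
    have hc : (c : G) * L.x = L.x * c := by
      have h1 := L.three_not_mem_V h3 hv'
      rw [h1, one_mul, eq_mul_inv_iff_mul_eq] at e
      exact e.symm
    obtain ⟨w, hw, k, hk⟩ := L.self c c.2 hc
    refine ⟨k, ?_⟩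
    show (QuotientGroup.mk' L.V' ⟨L.x, L.x_mem⟩) ^ k = _
    rw [← map_zpow, QuotientGroup.mk'_apply, QuotientGroup.mk'_apply, QuotientGroup.eq, mem_subgroupOf]
    have hk' : L.x ^ k = (c : G) * w⁻¹ := hk
    rw [Subgroup.coe_mul, Subgroup.coe_inv, SubgroupClass.coe_zpow, hk', mul_inv_rev, inv_inv, mul_assoc,
      inv_mul_cancel, mul_one]
    exact hw

/-- A normal 3'-subgroup lies in `K`. -/
theorem core_le {N : Subgroup L.C} (hN : N.Normal) (h3 : (Nat.card N).Coprime 3) :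
    N.map L.C.subtype ≤ L.K := by
  classical
  let M : Subgroup G := (Cfsg.pPrimeCore 3 L.C).map L.C.subtype
  have hM : N.map L.C.subtype ≤ M := map_mono (Core.le_pPrimeCore' hN h3)
  refine hM.trans ?_
  let A : Subgroup G := L.A
  haveI : IsMulCommutative A := IsMulCommutative.of_setLike_mul_comm fun a ha b hb => by
    obtain ⟨p, rfl⟩ := ha
    obtain ⟨q, rfl⟩ := hb
    exact (L.el_commute p q).eq
  have hAel : ∀ a ∈ A, ∃ p, a = L.el p := fun a ⟨p, hp⟩ => ⟨p, hp.symm⟩
  have hcard : Nat.card A = 9 := L.card_A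
  have hnc : ¬ IsCyclic A := by
    intro hc
    obtain ⟨g, hg⟩ := hc.exists_generator
    have : orderOf g = 9 := by rw [orderOf_eq_card_of_forall_mem_zpowers hg, hcard]
    obtain ⟨p, hp⟩ := hAel g g.2
    have h3 : orderOf g ∣ 3 := orderOf_dvd_of_pow_eq_one (Subtype.ext (by rw [Subgroup.coe_pow, hp, L.el_three]; rfl))
    rw [this] at h3
    norm_num at h3
  have hnorm : A ≤ normalizer (M : Set G) := by
    rintro _ ⟨p, rfl⟩
    refine mem_normalizer_fintype fun m hm => ?_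
    obtain ⟨m, hm', rfl⟩ := hm
    have hn : ∀ c : G, c ∈ L.C → L.el p * c * (L.el p)⁻¹ ∈ L.C := L.el_norm p
    let α : L.C →* L.C :=
      { toFun := fun c => ⟨L.el p * c * (L.el p)⁻¹, hn c c.2⟩
        map_one' := Subtype.ext (by simp)
        map_mul' := fun a b => Subtype.ext (by simp [mul_assoc]) }
    have hα : Function.Surjective α := by
      have hi : Function.Injective α := fun a b e => Subtype.ext (by
        have e' : L.el p * (a : G) * (L.el p)⁻¹ = L.el p * (b : G) * (L.el p)⁻¹ := congrArg Subtype.val e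
        simpa using e')
      exact Finite.injective_iff_surjective.1 hi
    exact ⟨α m, Core.map_pPrimeCore_le α hα (mem_map_of_mem _ hm'), rfl⟩
  have hcop : (Nat.card A).Coprime (Nat.card M) := by
    rw [hcard, Subgroup.card_map_of_injective L.C.subtype_injective]
    exact (Nat.Coprime.pow_right 2 (Core.pPrimeCore_coprime 3 L.C)).symm
  refine (Coprime.le_iSup_centralizer_of_not_isCyclic hnc hnorm hcop).trans (iSup_le fun a => ?_)
  rintro c ⟨hcM, hca⟩
  obtain ⟨p, hp⟩ := hAel a a.2.1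
  refine L.fix_el (p := p) (fun e => a.2.2 (by rw [hp, e]; simp [el])) (map_subtype_le _ hcM) ?_
  rw [← hp]
  exact mem_centralizer_singleton_iff.1 hca

/-- A prime divisor of the order divides the order of the part in `K`. -/
theorem prime_dvd {p : ℕ} [Fact p.Prime] (hp : p = 5 ∨ p = 7) (hd : p ∣ Nat.card L.C)
    (hsmall : ∀ P : Sylow p L.C, Nat.card (P : Subgroup L.C) = p)
    (hn : ∀ n, n ∣ Nat.card L.C → n ≡ 1 [MOD p] → n % 3 ≠ 0 ∨ (n < 9 ∧ p = 5)) :
    p ∣ Nat.card ↥(L.C ⊓ L.K) := by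
  classical
  obtain ⟨P0⟩ : Nonempty (Sylow p L.C) := inferInstance
  let Ω := {Q : Subgroup G // Q ≤ L.C ∧ Nat.card Q = p}
  let e : Sylow p L.C ≃ Ω :=
    { toFun := fun P => ⟨(P : Subgroup L.C).map L.C.subtype, map_subtype_le _, by
        rw [Subgroup.card_map_of_injective L.C.subtype_injective, hsmall]⟩
      invFun := fun Q => Sylow.ofCard (Q.1.subgroupOf L.C) (by
        rw [Nat.card_congr (subgroupOfEquivOfLe Q.2.1).toEquiv, Q.2.2]
        exact (hsmall P0).symm.trans P0.card_eq_multiplicity)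
      left_inv := fun P => Sylow.ext (by
        show (((P : Subgroup L.C).map L.C.subtype).subgroupOf L.C) = P
        exact comap_map_eq_self_of_injective L.C.subtype_injective _)
      right_inv := fun Q => Subtype.ext (map_subgroupOf_eq_of_le Q.2.1) }
  have hcardΩ : Nat.card Ω = Nat.card (Sylow p L.C) := (Nat.card_congr e).symm
  have hmod := card_sylow_modEq_one p L.C
  have hdvd : Nat.card (Sylow p L.C) ∣ Nat.card L.C := by
    rw [P0.card_eq_index_normalizer]
    exact Subgroup.index_dvd_card _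
  have hcases := hn _ hdvd hmod
  rw [← hcardΩ] at hcases
  -- an element fixing a point fixes its generator
  let act : Fin 3 × Fin 3 → Ω → Ω := fun z Q => ⟨Q.1.map (MulAut.conj (L.el z)).toMonoidHom, by
    rintro _ ⟨q, hq, rfl⟩; exact L.el_norm z q (Q.2.1 hq), by
    rw [Subgroup.card_map_of_injective (MulAut.conj (L.el z)).injective, Q.2.2]⟩
  have finish : ∀ z : Fin 3 × Fin 3, z ≠ (0, 0) → ∀ q : G, q ∈ L.C → orderOf q = p →
      q * L.el z = L.el z * q → p ∣ Nat.card ↥(L.C ⊓ L.K) := by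
    intro z hz q hq hqp hc
    have := orderOf_dvd_natCard (⟨q, hq, L.fix_el hz hq hc⟩ : ↥(L.C ⊓ L.K))
    rwa [← Subgroup.orderOf_coe, hqp] at this
  have gen : ∀ Q : Ω, ∃ q : G, q ∈ L.C ∧ orderOf q = p ∧ q ∈ Q.1 ∧
      ∀ z, act z Q = Q → ∃ k : ℕ, k < p ∧ k * k * k % p = 1 ∧ L.el z * q * (L.el z)⁻¹ = q ^ k := by
    intro Q
    obtain ⟨q, hq⟩ := exists_prime_orderOf_dvd_card' (G := Q.1) p (by rw [Q.2.2])
    rw [← Subgroup.orderOf_coe] at hq
    refine ⟨q, Q.2.1 q.2, hq, q.2, fun z hz => ?_⟩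
    have hmem : L.el z * q * (L.el z)⁻¹ ∈ Q.1 := by
      exact (congrArg Subtype.val hz).le ⟨q, q.2, rfl⟩
    have hgen : zpowers (q : G) = Q.1 :=
      eq_of_le_of_card_ge (zpowers_le.2 q.2) (by rw [Nat.card_zpowers, hq, Q.2.2])
    have hmem := hgen.ge hmem
    rw [mem_zpowers_iff_mem_range_orderOf, Finset.mem_image] at hmem
    obtain ⟨k, hk, hk'⟩ := hmem
    rw [Finset.mem_range, hq] at hk
    refine ⟨k, hk, ?_, hk'.symm⟩
    have h2 : ∀ m : ℕ, L.el z * (q : G) ^ m * (L.el z)⁻¹ = (q : G) ^ (k * m) := fun m => by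
      rw [← conj_pow, ← hk', ← pow_mul]
    have h3 : (q : G) ^ (k * k * k) = q := by
      calc (q : G) ^ (k * k * k) = L.el z * (L.el z * (L.el z * q * (L.el z)⁻¹) * (L.el z)⁻¹) * (L.el z)⁻¹ := by
            rw [← hk', h2, h2, mul_assoc k k k]
        _ = L.el z ^ 3 * q * (L.el z ^ 3)⁻¹ := by simp [pow_succ, pow_zero, mul_assoc]
        _ = q := by rw [L.el_three]; simp
    nth_rewrite 2 [← pow_one (q : G)] at h3
    rw [pow_inj_mod, hq] at h3
    rw [h3, Nat.mod_eq_of_lt (Fact.out : p.Prime).one_lt]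
  letI : MulAction L.A Ω :=
    { smul := fun a Q => ⟨Q.1.map (MulAut.conj (a : G)).toMonoidHom, by
        obtain ⟨z, hz⟩ := a.2
        rw [← hz]
        exact (act z Q).2⟩
      one_smul := fun Q => Subtype.ext (by
        show Q.1.map (MulAut.conj ((1 : L.A) : G)).toMonoidHom = Q.1
        rw [Subgroup.coe_one, map_one]
        exact Subgroup.map_id _)
      mul_smul := fun a b Q => Subtype.ext (by
        show Q.1.map (MulAut.conj ((a * b : L.A) : G)).toMonoidHom =
          (Q.1.map (MulAut.conj (b : G)).toMonoidHom).map (MulAut.conj (a : G)).toMonoidHom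
        rw [Subgroup.map_map, Subgroup.coe_mul, map_mul]
        rfl) }
  have hsmul : ∀ (z : Fin 3 × Fin 3) (Q : Ω), act z Q = (⟨L.el z, z, rfl⟩ : L.A) • Q := fun z Q => rfl
  have hcube : ∀ k : ℕ, k < p → k * k * k % p = 1 → k = 1 ∨ (p = 7 ∧ (k = 2 ∨ k = 4)) := by
    intro k hk h
    rcases hp with rfl | rfl
    · interval_cases k <;> simp at h ⊢
    · interval_cases k <;> simp at h ⊢
  rcases hcases with hmod3 | ⟨hlt, h5⟩
  · -- a point fixed by all
    obtain ⟨Q, hQ⟩ : (MulAction.fixedPoints L.A Ω).Nonempty := by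
      by_contra he
      have h := L.A_isPGroup.card_modEq_card_fixedPoints Ω
      rw [Set.not_nonempty_iff_eq_empty.1 he] at h
      simp only [Nat.ModEq] at h
      simp at h
      omega
    obtain ⟨q, hqC, hqp, -, hk⟩ := gen Q
    choose k hklt hk3 hkeq using fun z => hk z ((hsmul z Q).trans (hQ _))
    have hk' : ∀ z, k z ∈ ({1, 2, 4} : Finset ℕ) := fun z => by
      rcases hcube _ (hklt z) (hk3 z) with h | ⟨-, h | h⟩ <;> simp [h]
    obtain ⟨z1, -, z2, -, hne, heq⟩ := Finset.exists_ne_map_eq_of_card_lt_of_maps_to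
      (s := (Finset.univ : Finset (Fin 3 × Fin 3))) (by decide : ({1, 2, 4} : Finset ℕ).card < _)
      (fun z _ => hk' z)
    refine finish (z1 + (z2 + z2)) (fun e => hne ?_) q hqC hqp ?_
    · revert e; revert z1 z2
      exact fun z1 z2 _ _ => (by decide : ∀ a b : Fin 3 × Fin 3, a + (b + b) = (0, 0) → a = b) z1 z2
    · have h1 := hkeq z1
      rw [heq, ← hkeq z2] at h1
      rw [← el_mul, ← el_mul]
      have h2 : L.el z2 * L.el z2 = (L.el z2)⁻¹ := by
        rw [eq_inv_iff_mul_eq_one, ← pow_two, ← pow_succ, L.el_three]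
      rw [h2]
      have h3 : Commute (L.el z1) (L.el z2)⁻¹ := (L.el_commute z1 z2).inv_right
      calc q * (L.el z1 * (L.el z2)⁻¹) = (L.el z2)⁻¹ * (L.el z2 * q * (L.el z2)⁻¹) * L.el z1 := by
            rw [h3.eq]; group
        _ = (L.el z2)⁻¹ * L.el z1 * q := by rw [← h1]; group
        _ = _ := by rw [h3.eq]
  · obtain ⟨Q⟩ : Nonempty Ω := ⟨e P0⟩
    obtain ⟨q, hqC, hqp, -, hk⟩ := gen Q
    obtain ⟨z1, z2, hne, heq⟩ := Fintype.exists_ne_map_eq_of_card_lt
      (fun z : Fin 3 × Fin 3 => Finite.equivFin Ω (act z Q)) (by simp; omega)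
    have heq := (Finite.equivFin Ω).injective heq
    have hw : z1 + (z2 + z2) ≠ (0, 0) := fun e =>
      hne ((by decide : ∀ a b : Fin 3 × Fin 3, a + (b + b) = (0, 0) → a = b) z1 z2 e)
    have hfix : act (z1 + (z2 + z2)) Q = Q := by
      rw [hsmul] at heq ⊢
      rw [hsmul] at heq
      have h2 : (⟨L.el (z1 + (z2 + z2)), _, rfl⟩ : L.A) =
          (⟨L.el z2, z2, rfl⟩ : L.A)⁻¹ * ⟨L.el z1, z1, rfl⟩ := by
        refine Subtype.ext ?_
        show L.el (z1 + (z2 + z2)) = (L.el z2)⁻¹ * L.el z1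
        rw [← el_mul, ← el_mul, (L.el_commute z2 z1).inv_left.eq]
        congr 1
        rw [eq_inv_iff_mul_eq_one, ← pow_two, ← pow_succ, L.el_three]
      rw [h2, mul_smul, heq, inv_smul_smul]
    obtain ⟨k, hk1, hk2, hk3⟩ := hk _ hfix
    rcases hcube k hk1 hk2 with h | ⟨h7, -⟩
    · rw [h, pow_one, mul_inv_eq_iff_eq_mul] at hk3
      exact finish _ hw q hqC hqp hk3.symm
    · omega

/-- The possible orders of the subgroup, once its normal 3'-subgroups lie in the four-group. -/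
theorem card_cases
    (hcore : ∀ N : Subgroup L.C, N.Normal → (Nat.card N).Coprime 3 → L.V' ≤ N → N ≤ L.V') :
    Nat.card L.C = 12 ∨ Nat.card L.C = 24 ∨ Nat.card L.C = 240 ∨ Nat.card L.C = 672 := by
  have hC := Subgroup.card_eq_card_quotient_mul_card_subgroup L.V'
  rw [L.card_V'] at hC
  have small : ∀ M : Subgroup (L.C ⧸ L.V'), M.Normal → ¬ 3 ∣ Nat.card M → M = ⊥ := by
    intro M hM h3
    have hcop : (Nat.card (M.comap (QuotientGroup.mk' L.V'))).Coprime 3 := by
      rw [Core.card_comap_eq _ (QuotientGroup.mk'_surjective _), QuotientGroup.ker_mk', L.card_V']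
      exact Nat.Coprime.mul_left (by norm_num) ((Nat.Prime.coprime_iff_not_dvd Nat.prime_three).2 h3).symm
    have h := hcore _ (hM.comap _) hcop (QuotientGroup.le_comap_mk' L.V' M)
    rw [eq_bot_iff]
    intro m hm
    obtain ⟨c, rfl⟩ := QuotientGroup.mk'_surjective L.V' m
    exact mem_bot.2 ((QuotientGroup.eq_one_iff c).2 (h hm))
  rcases Recog.SelfThree.struct_of_sc L.sc_bar with ⟨M, hM, h3, hidx⟩ | ⟨E, hE, h3, -, ⟨e⟩⟩ | ⟨-, hcard⟩
  · have hMb := small M hM h3
    subst hMb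
    rw [Subgroup.index_bot] at hidx
    omega
  · have hEb := small E hE h3
    subst hEb
    have hb : Nat.card (L.C ⧸ L.V') = 60 := by
      rw [← Nat.card_congr (QuotientGroup.quotientBot (G := L.C ⧸ L.V')).toEquiv, Nat.card_congr e.toEquiv,
        Nat.card_eq_fintype_card]
      decide +kernel
    omega
  · omega

theorem sylow_card {p m : ℕ} [hp : Fact p.Prime] (hC : Nat.card L.C = p * m) (hm : ¬ p ∣ m)
    (P : Sylow p L.C) : Nat.card (P : Subgroup L.C) = p := by
  obtain ⟨k, hk⟩ := IsPGroup.iff_card.1 P.isPGroup'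
  have hd : p ^ k ∣ p * m := hC ▸ hk ▸ Subgroup.card_subgroup_dvd_card _
  have hpd : p ∣ Nat.card (P : Subgroup L.C) := P.dvd_card_of_dvd_card (hC ▸ dvd_mul_right p m)
  rw [hk] at hpd ⊢
  rcases k with _ | _ | k
  · rw [pow_zero] at hpd; exact absurd (Nat.dvd_one.1 hpd) hp.out.one_lt.ne'
  · rw [pow_one]
  · exfalso
    refine hm ((Nat.mul_dvd_mul_iff_left hp.out.pos).1 (dvd_trans ?_ hd))
    rw [← pow_two]
    exact pow_dvd_pow p (by omega)

theorem five_dvd (h : Nat.card L.C = 240) : 5 ∣ Nat.card ↥(L.C ⊓ L.K) := by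
  haveI : Fact (Nat.Prime 5) := ⟨by norm_num⟩
  refine L.prime_dvd (Or.inl rfl) (h ▸ (by norm_num)) (L.sylow_card (m := 48) (by omega) (by norm_num))
    fun n hn hmod => ?_
  rw [h] at hn
  have : n ∈ Nat.divisors 240 := Nat.mem_divisors.2 ⟨hn, by norm_num⟩
  have key : ∀ n ∈ Nat.divisors 240, n % 5 = 1 % 5 → n % 3 ≠ 0 ∨ (n < 9 ∧ (5 : ℕ) = 5) := by decide +kernel
  exact key n this hmod

theorem seven_dvd (h : Nat.card L.C = 672) : 7 ∣ Nat.card ↥(L.C ⊓ L.K) := by
  haveI : Fact (Nat.Prime 7) := ⟨by norm_num⟩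
  refine L.prime_dvd (Or.inr rfl) (h ▸ (by norm_num)) (L.sylow_card (m := 96) (by omega) (by norm_num))
    fun n hn hmod => ?_
  rw [h] at hn
  have : n ∈ Nat.divisors 672 := Nat.mem_divisors.2 ⟨hn, by norm_num⟩
  have key : ∀ n ∈ Nat.divisors 672, n % 7 = 1 % 7 → n % 3 ≠ 0 ∨ (n < 9 ∧ (7 : ℕ) = 5) := by decide +kernel
  exact key n this hmod

theorem le_of_card (h : Nat.card L.C ≤ Nat.card ↥(L.C ⊓ L.K)) : L.C ≤ L.K :=
  inf_eq_left.1 (eq_of_le_of_card_ge inf_le_left h)

/-- When the part in `K` has order 24. -/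
theorem le_K_small (hK : Nat.card ↥(L.C ⊓ L.K) = 24)
    (hn : ∀ m ∈ L.C ⊓ L.K, m * L.x * m⁻¹ ∈ zpowers L.x) : L.C ≤ L.K := by
  have hd : 24 ∣ Nat.card L.C := hK ▸ card_dvd_of_le inf_le_left
  refine L.le_of_card ?_
  have hcore : ∀ N : Subgroup L.C, N.Normal → (Nat.card N).Coprime 3 → L.V' ≤ N → N ≤ L.V' := by
    intro N hN hcop hVN n hn'
    have hnK : (n : G) ∈ L.K := L.core_le hN hcop (mem_map_of_mem _ hn')
    have hx3 : (⟨L.x, L.x_mem⟩ : L.C) ^ 3 = 1 := Subtype.ext L.x_three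
    have small3 : ∀ k : ℤ, (⟨L.x, L.x_mem⟩ : L.C) ^ k ∈ N → L.x ^ k = 1 := by
      intro k hk
      have h3 : ((⟨L.x, L.x_mem⟩ : L.C) ^ k) ^ 3 = 1 := by
        rw [← zpow_natCast, ← zpow_mul, mul_comm, zpow_mul, zpow_natCast, hx3, one_zpow]
      have h1 : orderOf ((⟨L.x, L.x_mem⟩ : L.C) ^ k) ∣ 1 := by
        rw [← hcop]
        refine Nat.dvd_gcd ?_ (orderOf_dvd_of_pow_eq_one h3)
        have h' := orderOf_dvd_natCard (⟨_, hk⟩ : N)
        rwa [← Subgroup.orderOf_coe] at h' 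
      rw [Nat.dvd_one, orderOf_eq_one_iff] at h1
      exact congrArg Subtype.val h1
    obtain ⟨k, hk⟩ := hn n ⟨n.2, hnK⟩
    have hcomm : (n : G) * L.x = L.x * n := by
      have hmem : (⟨L.x, L.x_mem⟩ : L.C) ^ (k - 1) ∈ N := by
        have := mul_mem hn' (hN.conj_mem _ (inv_mem hn') ⟨L.x, L.x_mem⟩)
        convert this using 1
        refine Subtype.ext ?_
        show L.x ^ (k - 1) = (n : G) * (L.x * (n : G)⁻¹ * L.x⁻¹)
        rw [zpow_sub, show L.x ^ k = (n : G) * L.x * (n : G)⁻¹ from hk, zpow_one]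
        group
      have h1 := small3 _ hmem
      rw [zpow_sub, show L.x ^ k = (n : G) * L.x * (n : G)⁻¹ from hk, zpow_one, mul_inv_eq_one,
        mul_inv_eq_iff_eq_mul] at h1
      exact h1
    obtain ⟨v, hv, j, hj⟩ := L.self n n.2 hcomm
    have hmem : (⟨L.x, L.x_mem⟩ : L.C) ^ j ∈ N := by
      have := mul_mem hn' (inv_mem (hVN (show (⟨v, L.V_le hv⟩ : L.C) ∈ L.V' from hv)))
      convert this using 1
      exact Subtype.ext hj
    have h1 := small3 _ hmem
    have hnv : (n : G) = v := mul_inv_eq_one.1 (hj.symm.trans h1)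
    exact show (n : G) ∈ L.V from hnv ▸ hv
  rcases L.card_cases hcore with h | h | h | h
  · omega
  · omega
  · have := L.five_dvd h; omega
  · have := L.seven_dvd h; omega

/-- When the part in `K` has order 240 and its normal 3'-subgroups lie in the four-group. -/
theorem le_K_big (hK : Nat.card ↥(L.C ⊓ L.K) = 240)
    (hn : ∀ M : Subgroup G, M ≤ L.C ⊓ L.K → (Nat.card M).Coprime 3 →
      (∀ g ∈ L.C ⊓ L.K, ∀ m ∈ M, g * m * g⁻¹ ∈ M) → M ≤ L.V) : L.C ≤ L.K := by
  have hd : 240 ∣ Nat.card L.C := hK ▸ card_dvd_of_le inf_le_left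
  refine L.le_of_card ?_
  have hcore : ∀ N : Subgroup L.C, N.Normal → (Nat.card N).Coprime 3 → L.V' ≤ N → N ≤ L.V' := by
    intro N hN hcop _ n hn'
    refine show (n : G) ∈ L.V from hn (N.map L.C.subtype)
      (le_inf (map_subtype_le _) (L.core_le hN hcop))
      (by rwa [Subgroup.card_map_of_injective L.C.subtype_injective]) ?_ (mem_map_of_mem _ hn')
    rintro g ⟨hg, -⟩ _ ⟨m, hm, rfl⟩
    exact ⟨⟨g, hg⟩ * m * (⟨g, hg⟩ : L.C)⁻¹, hN.conj_mem m hm _, rfl⟩
  rcases L.card_cases hcore with h | h | h | h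
  · omega
  · omega
  · omega
  · have := L.seven_dvd h; omega

end Loc

end Cfsg.Lib.NineThree
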