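import Cfsg.Agent.Lib.NineThree.Hom36
import Cfsg.Agent.Lib.NineThree.FourModel
import Cfsg.Agent.Lib.NineThree.Local

/-!
# The centraliser of a four-group: either small or one of the two relations holds
-/

set_option autoImplicit false
set_option linter.unusedSectionVars false
set_option linter.style.haveILetI false
set_option maxHeartbeats 1000000
set_option maxRecDepth 100000
set_option synthInstance.maxSize 2000
set_option synthInstance.maxHeartbeats 200000

namespace Cfsg.Lib.NineThree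

open Cfsg.Lib.Recog.ThreeCubedFour Cfsg.Lib.CosetEnum Subgroup

universe u

/-- The elements of the four-group and the involution inverting the three-cycle. -/
def eV : E36 := ⟨v36, by decide +kernel⟩

/-- The second involution. -/
def eW : E36 := ⟨w36, by decide +kernel⟩

/-- The inverting involution. -/
def eT : E36 := ⟨t36, by decide +kernel⟩

/-- The three-cycle on the middle block. -/
def eC : E36 := ⟨c36, by decide +kernel⟩

/-- An involution inverting it. -/
def eS : E36 := ⟨s36, by decide +kernel⟩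

/-- The involution of the exceptional configuration. -/
def eU : E36 := ⟨u36, by decide +kernel⟩

/-- The alternating group of degree six inside. -/
def sixHom : alternatingGroup (Fin 6) →* E36 where
  toFun b := ⟨(1, b.1), mem_E36.2 (by rw [map_one, one_mul]; exact Equiv.Perm.mem_alternatingGroup.1 b.2)⟩
  map_one' := rfl
  map_mul' a b := Subtype.ext (Prod.ext (one_mul 1).symm rfl)

theorem e36_eqs : eV = e36 3 ∧ eT = e36 4 * e36 2 ∧ eC = e36 0 * e36 1 ∧ eS = e36 0 * e36 2 * e36 0 ∧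
    eU = e36 0 * e36 3 * e36 0 ∧ eW = e36 1 * e36 0 * e36 3 * e36 0 * e36 1 := by
  obtain ⟨h1, h2, h3, h4, h5, h6⟩ := def36
  exact ⟨Subtype.ext h1, Subtype.ext h3, Subtype.ext h4, Subtype.ext h5, Subtype.ext h6, Subtype.ext h2⟩

theorem eA_val : ((eA : E36) : P36) = a36 := rfl

/-- An element of the centraliser of the three-cycle in coordinates. -/
theorem coords_of_comm {m : E36} (h : m * eA = eA * m) :
    ∃ i : Fin 3, ∃ b : alternatingGroup (Fin 6), m = eA ^ i.val * sixHom b := by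
  have h1 : (m : P36).1 * a36.1 = a36.1 * (m : P36).1 := congrArg (fun y : E36 => (y : P36).1) h
  obtain ⟨i, hi⟩ := mem_cent_a36 _ h1
  have hb : Equiv.Perm.sign (m : P36).2 = 1 := by
    have h2 := mem_E36.1 m.2
    rw [hi, map_pow, show Equiv.Perm.sign a36.1 = 1 from by decide +kernel, one_pow, one_mul] at h2
    exact h2
  refine ⟨i, ⟨(m : P36).2, Equiv.Perm.mem_alternatingGroup.2 hb⟩, Subtype.ext (Prod.ext ?_ ?_)⟩
  · show (m : P36).1 = ((eA ^ i.val : E36) : P36).1 * 1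
    rw [mul_one, Subgroup.coe_pow, Prod.pow_fst]
    exact hi
  · show (m : P36).2 = ((eA ^ i.val : E36) : P36).2 * (m : P36).2
    rw [Subgroup.coe_pow, Prod.pow_snd, show (eA : P36).2 = 1 from rfl, one_pow, one_mul]

theorem eA_conj (m : E36) : m * eA * m⁻¹ = eA ∨ m * eA * m⁻¹ = eA * eA := by
  have key : ∀ p : Equiv.Perm (Fin 3), p * a36.1 * p⁻¹ = a36.1 ∨ p * a36.1 * p⁻¹ = a36.1 * a36.1 := by
    decide +kernel
  have h2 : ∀ q : Equiv.Perm (Fin 6), q * (1 : Equiv.Perm (Fin 6)) * q⁻¹ = 1 := fun q => by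
    rw [mul_one, mul_inv_cancel]
  rcases key (m : P36).1 with h | h
  · exact Or.inl (Subtype.ext (Prod.ext h (h2 _)))
  · exact Or.inr (Subtype.ext (Prod.ext h ((h2 _).trans (one_mul 1).symm)))

namespace NOne

variable {G : Type u} [Group G] [Finite G] {F : Frame G} (Z : NOne F)

theorem map_e {g : ℕ} (hg : g < 7) (h3 : g ≠ 3) : Z.φ₁ (e36 g) = F.φ (lM g) := by
  rw [Z.gens g hg, Z.lt.x_eq, if_neg h3]

theorem map_A : Z.φ₁ eA = F.φ rotA := by
  rw [eA_eq, map_mul, Z.map_e (by norm_num) (by norm_num), Z.map_e (by norm_num) (by norm_num), ← map_mul,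
    rotA_eq.1]
  rfl

theorem map_C : Z.φ₁ eC = F.φ rotB := by
  rw [e36_eqs.2.2.1, map_mul, Z.map_e (by norm_num) (by norm_num), Z.map_e (by norm_num) (by norm_num),
    ← map_mul, f_facts.2.1]
  rfl

theorem map_T : Z.φ₁ eT = F.φ (l4 * l2) := by
  rw [e36_eqs.2.1, map_mul, Z.map_e (by norm_num) (by norm_num), Z.map_e (by norm_num) (by norm_num),
    ← map_mul]
  rfl

theorem map_S : Z.φ₁ eS = F.φ (l0 * l2 * l0) := by
  rw [e36_eqs.2.2.2.1, map_mul, map_mul, Z.map_e (by norm_num) (by norm_num),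
    Z.map_e (by norm_num) (by norm_num), ← map_mul, ← map_mul]
  rfl

theorem map_V : Z.φ₁ eV = Z.lt.v := by
  rw [e36_eqs.1, Z.gens 3 (by norm_num), Z.lt.x_eq, if_pos rfl]

/-- The four-group. -/
abbrev V : Subgroup G := (closure {eV, eW}).map Z.φ₁

/-- Its centraliser. -/
abbrev C : Subgroup G := centralizer ({Z.φ₁ eV, Z.φ₁ eW} : Set G)

theorem mem_C {g : G} : g ∈ Z.C ↔ g * Z.φ₁ eV = Z.φ₁ eV * g ∧ g * Z.φ₁ eW = Z.φ₁ eW * g := by
  rw [mem_centralizer_iff]
  simp only [Set.mem_insert_iff, Set.mem_singleton_iff, forall_eq_or_imp, forall_eq]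
  exact ⟨fun h => ⟨h.1.symm, h.2.symm⟩, fun h => ⟨h.1.symm, h.2.symm⟩⟩

theorem map_mem_C {m : E36} : Z.φ₁ m ∈ Z.C ↔ m * eV = eV * m ∧ m * eW = eW * m := by
  rw [mem_C, ← map_mul, ← map_mul, ← map_mul, ← map_mul]
  exact and_congr ⟨fun h => Z.inj h, fun h => congrArg _ h⟩ ⟨fun h => Z.inj h, fun h => congrArg _ h⟩

theorem mem_closure_VW {m : E36} : m ∈ closure ({eV, eW} : Set E36) ↔
    (m : P36) ∈ [1, v36, w36, v36 * w36] := by
  constructor
  · intro h
    induction h using closure_induction with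
    | mem x hx =>
      rcases hx with rfl | rfl
      · simp [eV]
      · simp [eW]
    | one => simp
    | mul x y _ _ hx hy =>
      have : ∀ p ∈ [1, v36, w36, v36 * w36], ∀ q ∈ [1, v36, w36, v36 * w36],
          p * q ∈ [1, v36, w36, v36 * w36] := by decide +kernel
      exact this _ hx _ hy
    | inv x _ hx =>
      have : ∀ p ∈ [1, v36, w36, v36 * w36], p⁻¹ ∈ [1, v36, w36, v36 * w36] := by decide +kernel
      exact this _ hx
  · intro h
    simp only [List.mem_cons, List.not_mem_nil, or_false] at h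
    rcases h with h | h | h | h
    · rw [show m = 1 from Subtype.ext h]; exact one_mem _
    · rw [show m = eV from Subtype.ext h]; exact subset_closure (by simp)
    · rw [show m = eW from Subtype.ext h]; exact subset_closure (by simp)
    · rw [show m = eV * eW from Subtype.ext h]
      exact mul_mem (subset_closure (by simp)) (subset_closure (by simp))

/-- An element of the centraliser of the three-cycle and the four-group. -/
theorem cent_a {c : G} (hc : c ∈ Z.C) (h : c * F.φ rotA = F.φ rotA * c) :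
    ∃ i : Fin 3, ∃ v ∈ closure ({eV, eW} : Set E36), c = Z.φ₁ (eA ^ i.val * v) ∧
      (c * F.φ rotB = F.φ rotB * c → v = 1) := by
  obtain ⟨m, hm, rfl⟩ := Z.cent c (mem_centralizer_singleton_iff.2 h)
  obtain ⟨i, b, rfl⟩ := coords_of_comm hm
  obtain ⟨h1, h2⟩ := Z.map_mem_C.1 hc
  have e1 : ∀ q : E36, (eA ^ i.val * sixHom b) * q = q * (eA ^ i.val * sixHom b) →
      b.1 * (q : P36).2 = (q : P36).2 * b.1 := by
    intro q hq
    have := congrArg (fun y : E36 => (y : P36).2) hq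
    simp only [Subgroup.coe_mul, Subgroup.coe_pow, Prod.snd_mul, Prod.pow_snd,
      show (eA : P36).2 = 1 from rfl, one_pow, one_mul, show (sixHom b : P36).2 = b.1 from rfl] at this
    exact this
  obtain ⟨hb, hbc⟩ := cent_a_V b.1 (Equiv.Perm.mem_alternatingGroup.1 b.2) (e1 eV h1) (e1 eW h2)
  refine ⟨i, sixHom b, mem_closure_VW.2 ?_, rfl, fun hB => ?_⟩
  · show ((1, b.1) : P36) ∈ _
    simp only [List.mem_cons, List.not_mem_nil, or_false] at hb ⊢
    rcases hb with h | h | h | h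
    · exact Or.inl (by rw [h]; rfl)
    · exact Or.inr (Or.inl (by rw [h]; rfl))
    · exact Or.inr (Or.inr (Or.inl (by rw [h]; rfl)))
    · exact Or.inr (Or.inr (Or.inr (by rw [h]; rfl)))
  · rw [← Z.map_C, ← map_mul, ← map_mul] at hB
    refine Subtype.ext ?_
    show ((1, b.1) : P36) = 1
    rw [hbc (e1 eC (Z.inj hB))]
    rfl

theorem not_B_mem : F.φ rotB ∉ Z.C ∧ F.φ rotB * F.φ rotB ∉ Z.C := by
  constructor <;> rw [← Z.map_C]
  · intro h
    exact misc36.1 (congrArg Subtype.val (Z.map_mem_C.1 h).1)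
  · rw [← map_mul]
    intro h
    exact misc36.2.1 (congrArg Subtype.val (Z.map_mem_C.1 h).1)

/-- An element commuting with a double three-cycle and the four-group. -/
theorem cent_double_mem {b : Model} (hb : b ∈ [cubB, rotA * rotA * rotB]) {c : G} (hc : c ∈ Z.C)
    (h : c * F.φ b = F.φ b * c) : ∃ i : ℕ, c = Z.φ₁ (eA ^ i) := by
  obtain ⟨n, rfl⟩ : c ∈ F.φ.range := by
    simp only [List.mem_cons, List.not_mem_nil, or_false] at hb
    rcases hb with rfl | rfl
    · exact F.cent_cubB_le (mem_centralizer_singleton_iff.2 h)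
    · obtain ⟨g, hg⟩ := kernel_conj.2.2.2.2.2.2.1
      have e : rotA⁻¹ * rotB = rotA * rotA * rotB := by decide +kernel
      exact F.cent_conj_le F.cent_cubB_le (hg.trans e) (mem_centralizer_singleton_iff.2 h)
  have hn : n * b = b * n := F.inj (by rw [map_mul, map_mul]; exact h)
  rcases cent_double b hb n hn with hbase | hswap
  · obtain ⟨i, j, k, rfl⟩ := (inBase_iff n).1 hbase
    have hCeq : F.φ rotC = Z.φ₁ (e36 0 * e36 2) := by
      rw [map_mul, Z.map_e (by norm_num) (by norm_num), Z.map_e (by norm_num) (by norm_num), ← map_mul,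
        f_facts.2.2.1]
      rfl
    have e : F.φ (rotA ^ i.val * rotB ^ j.val * rotC ^ k.val) =
        Z.φ₁ (eA ^ i.val * eC ^ j.val * (e36 0 * e36 2) ^ k.val) := by
      rw [map_mul, map_mul, map_pow, map_pow, map_pow, ← Z.map_A, ← Z.map_C, hCeq]
      simp only [map_mul, map_pow]
    rw [e] at hc ⊢
    have h1 := congrArg (fun y : E36 => (y : P36).2) (Z.map_mem_C.1 hc).1
    have hd : ((e36 0 * e36 2 : E36) : P36).2 = Equiv.swap 3 4 * Equiv.swap 4 5 := by decide +kernel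
    simp only [Subgroup.coe_mul, Subgroup.coe_pow, Prod.snd_mul, Prod.pow_snd, show (eA : P36).2 = 1 from rfl,
      one_pow, one_mul] at h1
    rw [show ((e36 0 : E36) : P36).2 * ((e36 2 : E36) : P36).2 = Equiv.swap 3 4 * Equiv.swap 4 5 from hd] at h1
    have h2 := base_cent_V j k h1
    refine ⟨i.val, congrArg Z.φ₁ (Subtype.ext (Prod.ext ?_ ?_))⟩
    · simp only [Subgroup.coe_mul, Subgroup.coe_pow, Prod.fst_mul, Prod.pow_fst,
        show (eC : P36).1 = 1 from rfl, show (e36 0 : P36).1 = 1 from rfl, show (e36 2 : P36).1 = 1 from rfl,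
        one_pow, mul_one]
    · simp only [Subgroup.coe_mul, Subgroup.coe_pow, Prod.snd_mul, Prod.pow_snd, show (eA : P36).2 = 1 from rfl,
        one_pow, one_mul]
      rw [show ((e36 0 : E36) : P36).2 * ((e36 2 : E36) : P36).2 = Equiv.swap 3 4 * Equiv.swap 4 5 from hd]
      exact h2
  · exfalso
    have ha : F.φ rotA ∈ Z.C := by
      rw [← Z.map_A, map_mem_C]
      exact ⟨Subtype.ext misc36.2.2.2.2.2.2.2.2.2.2.2.2.2.1, Subtype.ext misc36.2.2.2.2.2.2.2.2.2.2.2.2.2.2⟩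
    have hmem : F.φ (n * rotA * n⁻¹) ∈ Z.C := by
      rw [map_mul, map_mul, map_inv]
      exact mul_mem (mul_mem hc ha) (inv_mem hc)
    simp only [List.mem_cons, List.not_mem_nil, or_false] at hswap
    rcases hswap with e | e <;> rw [e] at hmem
    · exact Z.not_B_mem.1 hmem
    · rw [map_mul] at hmem; exact Z.not_B_mem.2 hmem

/-- The involution swapping the first two blocks. -/
abbrev f : G := F.φ l7

theorem f_sq : F.φ l7 * F.φ l7 = 1 := by rw [← map_mul, f_facts.1, map_one]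

/-- The elements of the centraliser of the three-cycle carried into the centraliser by the swap. -/
def pre : Subgroup E36 :=
  Z.C.comap ((MulAut.conj (F.φ l7)).toMonoidHom.comp Z.φ₁) ⊓ centralizer {eA}

theorem mem_pre {m : E36} : m ∈ Z.pre ↔ F.φ l7 * Z.φ₁ m * F.φ l7 ∈ Z.C ∧ m * eA = eA * m := by
  rw [pre, Subgroup.mem_inf, mem_centralizer_singleton_iff]
  refine and_congr ?_ Iff.rfl
  show (MulAut.conj (F.φ l7)) (Z.φ₁ m) ∈ Z.C ↔ _
  rw [MulAut.conj_apply, inv_eq_of_mul_eq_one_right (f_sq (F := F))]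

/-- Their action on six points. -/
def sixPart : Subgroup (Equiv.Perm (Fin 6)) :=
  Z.pre.map ((MonoidHom.snd _ _).comp E36.subtype)

theorem mem_sixPart {m : E36} (h : m ∈ Z.pre) : (m : P36).2 ∈ Z.sixPart := ⟨m, h, rfl⟩

theorem comm_eA {m : E36} (h : (m : P36).1 = 1) : m * eA = eA * m :=
  Subtype.ext (Prod.ext (by show (m : P36).1 * _ = _ * (m : P36).1; rw [h, one_mul, mul_one])
    ((mul_one _).trans (one_mul _).symm))

theorem C_S_mem_pre : eC ∈ Z.pre ∧ eS ∈ Z.pre := by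
  obtain ⟨-, -, -, hB, -, hs, -⟩ := f_facts
  refine ⟨Z.mem_pre.2 ⟨?_, comm_eA rfl⟩, Z.mem_pre.2 ⟨?_, comm_eA rfl⟩⟩
  · rw [Z.map_C, ← map_mul, ← map_mul, hB, ← Z.map_A, map_mem_C]
    exact ⟨Subtype.ext misc36.2.2.2.2.2.2.2.2.2.2.2.2.2.1, Subtype.ext misc36.2.2.2.2.2.2.2.2.2.2.2.2.2.2⟩
  · rw [Z.map_S, ← map_mul, ← map_mul, hs, ← Z.map_T, map_mem_C]
    exact ⟨Subtype.ext misc36.2.2.2.2.2.2.2.2.2.2.2.1, Subtype.ext misc36.2.2.2.2.2.2.2.2.2.2.2.2.1⟩

theorem c_mem : c36.2 ∈ Z.sixPart ∧ s36.2 ∈ Z.sixPart :=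
  ⟨Z.mem_sixPart Z.C_S_mem_pre.1, Z.mem_sixPart Z.C_S_mem_pre.2⟩

/-- Only the powers of the three-cycle commute with it there. -/
theorem self_pre {m : E36} (hm : m ∈ Z.pre) (hcomm : m * eC = eC * m) : ∃ i : Fin 3, m = eC ^ i.val := by
  obtain ⟨-, -, -, hB, hA, -, -⟩ := f_facts
  obtain ⟨hc, hmA⟩ := Z.mem_pre.1 hm
  set y := Z.φ₁ m with hy
  have hya : y * F.φ rotA = F.φ rotA * y := by rw [hy, ← Z.map_A, ← map_mul, ← map_mul, hmA]
  have hyb : y * F.φ rotB = F.φ rotB * y := by rw [hy, ← Z.map_C, ← map_mul, ← map_mul, hcomm]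
  set c : G ≃* G := MulAut.conj (F.φ l7) with hcdef
  have hconj : ∀ w, c w = F.φ l7 * w * F.φ l7 := fun w => by
    rw [hcdef, MulAut.conj_apply, inv_eq_of_mul_eq_one_right (f_sq (F := F))]
  have eB : c (F.φ rotB) = F.φ rotA := by rw [hconj, ← map_mul, ← map_mul, hB]
  have eA' : c (F.φ rotA) = F.φ rotB := by rw [hconj, ← map_mul, ← map_mul, hA]
  rw [← hconj] at hc
  obtain ⟨i, v, -, hcy, hv⟩ := Z.cent_a hc (by rw [← eB, ← map_mul, ← map_mul, hyb])
  have h2 := hv (by rw [← eA', ← map_mul, ← map_mul, hya])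
  rw [h2, mul_one, map_pow, Z.map_A, ← eB, ← map_pow] at hcy
  have h3 := c.injective hcy
  rw [hy, ← Z.map_C, ← map_pow] at h3
  exact ⟨i, Z.inj h3⟩

theorem self_c {b : Equiv.Perm (Fin 6)} (hb : b ∈ Z.sixPart) (hcomm : b * c36.2 = c36.2 * b) :
    b ∈ [1, c36.2, c36.2 * c36.2] := by
  obtain ⟨m, hm, rfl⟩ := hb
  obtain ⟨i, rfl⟩ := Z.self_pre hm (Subtype.ext (Prod.ext ((mul_one _).trans (one_mul _).symm) hcomm))
  show ((eC ^ i.val : E36) : P36).2 ∈ _
  rw [Subgroup.coe_pow, Prod.pow_snd]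
  fin_cases i <;> simp [pow_two, eC]

theorem sixPart_even : ∀ b ∈ Z.sixPart, Equiv.Perm.sign b = 1 := by
  rintro _ ⟨m, hm, rfl⟩
  obtain ⟨i, b, rfl⟩ := coords_of_comm (Z.mem_pre.1 hm).2
  show Equiv.Perm.sign ((eA ^ i.val * sixHom b : E36) : P36).2 = 1
  rw [Subgroup.coe_mul, Prod.snd_mul, Subgroup.coe_pow, Prod.pow_snd, show (eA : P36).2 = 1 from rfl, one_pow,
    one_mul]
  exact Equiv.Perm.mem_alternatingGroup.1 b.2

theorem inv_mem_pre {q : E36} (h : (q : P36).2 ∈ Z.sixPart) (h1 : (q : P36).1 = 1) (h2 : q * q = 1) :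
    F.φ l7 * Z.φ₁ q * F.φ l7 ∈ Z.C := by
  obtain ⟨m, hm, e⟩ := h
  obtain ⟨i, b, rfl⟩ := coords_of_comm (Z.mem_pre.1 hm).2
  have e' : b.1 = (q : P36).2 := by
    rw [← e]
    show b.1 = ((eA ^ i.val : E36) : P36).2 * b.1
    rw [Subgroup.coe_pow, Prod.pow_snd, show (eA : P36).2 = 1 from rfl, one_pow, one_mul]
  have hb : sixHom b = q := Subtype.ext (Prod.ext h1.symm e')
  have h3 : (eA ^ i.val * sixHom b) ^ 3 = q := by
    have hc : Commute (eA ^ i.val) (sixHom b) :=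
      (show Commute eA (sixHom b) from (comm_eA rfl).symm).pow_left _
    rw [hc.mul_pow, ← pow_mul, mul_comm, pow_mul, show (eA : E36) ^ 3 = 1 from Subtype.ext misc36.2.2.2.2.2.1,
      one_pow, one_mul, hb, pow_succ, pow_two, h2, one_mul]
  exact (Z.mem_pre.1 (h3 ▸ pow_mem hm 3)).1

/-- The relation with the involution of the exceptional configuration. -/
theorem crossSix_of (h : u36.2 ∈ Z.sixPart) : wordVal Z.lt.x Words.crossSix = 1 := by
  have hc := Z.inv_mem_pre (q := eU) h rfl (Subtype.ext (by decide +kernel))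
  rw [e36_eqs.2.2.2.2.1, map_mul, map_mul,
    Z.gens 0 (by norm_num), Z.gens 3 (by norm_num)] at hc
  have h1 := (Z.mem_C.1 hc).1
  rw [e36_eqs.1, Z.gens 3 (by norm_num)] at h1
  have x7 : Z.lt.x 7 = F.φ l7 := by rw [Z.lt.x_eq, if_neg (by norm_num)]; rfl
  rw [← x7] at h1
  have h0 := Z.lt.sq 0
  have h3 := Z.lt.sq 3
  have h7 := Z.lt.sq 7
  set a := Z.lt.x 7 * (Z.lt.x 0 * Z.lt.x 3 * Z.lt.x 0) * Z.lt.x 7 with ha
  have ha2 : a * a = 1 := by
    rw [ha]
    simp only [mul_assoc]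
    simp only [← mul_assoc (Z.lt.x 7) (Z.lt.x 7), h7, one_mul]
    simp only [← mul_assoc (Z.lt.x 0) (Z.lt.x 0), h0, one_mul]
    simp only [← mul_assoc (Z.lt.x 3) (Z.lt.x 3), h3, one_mul]
    simp only [← mul_assoc (Z.lt.x 0) (Z.lt.x 0), h0, one_mul, h7]
  show 1 * Z.lt.x 7 * Z.lt.x 0 * Z.lt.x 3 * Z.lt.x 0 * Z.lt.x 7 * Z.lt.x 3 * Z.lt.x 7 * Z.lt.x 0 *
    Z.lt.x 3 * Z.lt.x 0 * Z.lt.x 7 * Z.lt.x 3 = 1
  calc _ = a * (Z.lt.x 3 * a) * Z.lt.x 3 := by rw [ha]; simp only [mul_assoc, one_mul]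
    _ = a * a * (Z.lt.x 3 * Z.lt.x 3) := by rw [← h1]; simp only [mul_assoc]
    _ = 1 := by rw [ha2, h3, one_mul]

/-- The relation of the alternating group of degree nine. -/
theorem crossNine_of (h : v36.2 ∈ Z.sixPart) : wordVal Z.lt.x Words.crossNine = 1 := by
  have hc := Z.inv_mem_pre (q := eV) h rfl (Subtype.ext (by decide +kernel))
  rw [e36_eqs.1, Z.gens 3 (by norm_num)] at hc
  have h1 := (Z.mem_C.1 hc).1
  rw [e36_eqs.1, Z.gens 3 (by norm_num)] at h1
  have x7 : Z.lt.x 7 = F.φ l7 := by rw [Z.lt.x_eq, if_neg (by norm_num)]; rfl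
  rw [← x7] at h1
  have h3 := Z.lt.sq 3
  have h7 := Z.lt.sq 7
  set a := Z.lt.x 7 * Z.lt.x 3 * Z.lt.x 7 with ha
  have ha2 : a * a = 1 := by
    rw [ha]
    simp only [mul_assoc]
    simp only [← mul_assoc (Z.lt.x 7) (Z.lt.x 7), h7, one_mul]
    simp only [← mul_assoc (Z.lt.x 3) (Z.lt.x 3), h3, one_mul, h7]
  show 1 * Z.lt.x 7 * Z.lt.x 3 * Z.lt.x 7 * Z.lt.x 3 * Z.lt.x 7 * Z.lt.x 3 * Z.lt.x 7 * Z.lt.x 3 = 1
  calc _ = a * (Z.lt.x 3 * a) * Z.lt.x 3 := by rw [ha]; simp only [mul_assoc, one_mul]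
    _ = a * a * (Z.lt.x 3 * Z.lt.x 3) := by rw [← h1]; simp only [mul_assoc]
    _ = 1 := by rw [ha2, h3, one_mul]

/-- The trichotomy. -/
theorem cross_or_small :
    wordVal Z.lt.x Words.crossNine = 1 ∨ wordVal Z.lt.x Words.crossSix = 1 ∨
      (∀ b ∈ Z.sixPart, b ∈ sym3List) := by
  rcases tri_cases Z.sixPart Z.sixPart_even Z.c_mem.1 Z.c_mem.2 (fun b hb h => Z.self_c hb h) with h | h | h
  · exact Or.inr (Or.inr h)
  · exact Or.inl (Z.crossNine_of h)
  · exact Or.inr (Or.inl (Z.crossSix_of h))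

end NOne

end Cfsg.Lib.NineThree
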