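import Cfsg.Agent.Lib.NineThree.Four

/-!
# Fusion of the central involutions rules out the small case
-/

set_option autoImplicit false
set_option linter.unusedSectionVars false
set_option linter.style.haveILetI false
set_option maxHeartbeats 1000000
set_option maxRecDepth 100000
set_option synthInstance.maxSize 2000
set_option synthInstance.maxHeartbeats 200000

namespace Cfsg.Lib.NineThree

open Cfsg.Lib.Recog.ThreeCubedFour Subgroup

universe u

namespace NOne

variable {G : Type u} [Group G] [Finite G] {F : Frame G} (Z : NOne F)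

theorem card_cent_a_v :
    Nat.card ↥(centralizer ({F.φ rotA} : Set G) ⊓ centralizer ({Z.φ₁ eV} : Set G)) = 24 := by
  classical
  have h := count36.2
  rw [← Fintype.card_subtype, ← Nat.card_eq_fintype_card] at h
  rw [← h]
  refine Nat.card_congr (Equiv.ofBijective
    (fun m : {m : P36 // Equiv.Perm.sign m.1 * Equiv.Perm.sign m.2 = 1 ∧ m * a36 = a36 * m ∧ m * v36 = v36 * m} =>
      (⟨Z.φ₁ ⟨m.1, mem_E36.2 m.2.1⟩,
        mem_centralizer_singleton_iff.2 (by rw [← Z.map_A, ← map_mul, ← map_mul]; exact congrArg _ (Subtype.ext m.2.2.1)),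
        mem_centralizer_singleton_iff.2 (by rw [← map_mul, ← map_mul]; exact congrArg _ (Subtype.ext m.2.2.2))⟩ :
        ↥(centralizer ({F.φ rotA} : Set G) ⊓ centralizer ({Z.φ₁ eV} : Set G))))
    ⟨fun a b e => Subtype.ext (congrArg (fun z : E36 => (z : P36)) (Z.inj (congrArg Subtype.val e))), ?_⟩).symm
  rintro ⟨g, hga, hgv⟩
  obtain ⟨m, hm, rfl⟩ := Z.cent g hga
  have h2 : m * eV = eV * m := Z.inj (by rw [map_mul, map_mul]; exact mem_centralizer_singleton_iff.1 hgv)
  exact ⟨⟨m, mem_E36.1 m.2, congrArg Subtype.val hm, congrArg Subtype.val h2⟩, rfl⟩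

/-- The two classes of involutions are not fused. -/
theorem not_fused : ¬ IsConj (Z.φ₁ eV) (F.φ l7) := by
  intro hconj
  haveI : Fact (Nat.Prime 3) := ⟨Nat.prime_three⟩
  obtain ⟨g, hg⟩ := isConj_iff.1 hconj.symm
  obtain ⟨-, -, -, -, -, -, hfb⟩ := f_facts
  obtain ⟨hbb, hb1, hb3⟩ := cubB_base
  set X := centralizer ({Z.φ₁ eV} : Set G)
  have hbX : g * F.φ cubB * g⁻¹ ∈ X := by
    rw [mem_centralizer_singleton_iff, ← hg]
    calc g * F.φ cubB * g⁻¹ * (g * F.φ l7 * g⁻¹) = g * (F.φ cubB * F.φ l7) * g⁻¹ := by group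
      _ = g * (F.φ l7 * F.φ cubB) * g⁻¹ := by rw [← map_mul, ← hfb, map_mul]
      _ = _ := by group
  have haX : F.φ rotA ∈ X := by
    rw [mem_centralizer_singleton_iff, ← Z.map_A, ← map_mul, ← map_mul]
    exact congrArg _ (Subtype.ext misc36.2.2.2.2.2.2.2.2.2.2.2.2.2.1)
  set a : X := ⟨F.φ rotA, haX⟩
  have hp : IsPGroup 3 (zpowers a) := by
    intro y
    obtain ⟨k, hk⟩ := y.2
    refine ⟨1, Subtype.ext ?_⟩
    show (y : X) ^ 3 ^ 1 = 1
    rw [← hk, pow_one, ← zpow_natCast, ← zpow_mul, mul_comm, zpow_mul, zpow_natCast,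
      show a ^ 3 = 1 from Subtype.ext cube_A, one_zpow]
  obtain ⟨Q, hQ⟩ := hp.exists_le_sylow
  have hcent : ∀ q ∈ (Q : Subgroup X), q * a = a * q → q ∈ zpowers a := by
    intro q hq hqa
    let W : Subgroup X := centralizer ({a} : Set X) ⊓ Q
    have hW : IsPGroup 3 W := Q.isPGroup'.to_le inf_le_right
    have hle : W.map X.subtype ≤ centralizer ({F.φ rotA} : Set G) ⊓ centralizer ({Z.φ₁ eV} : Set G) := by
      rintro _ ⟨w, hw, rfl⟩
      exact ⟨mem_centralizer_singleton_iff.2 (congrArg Subtype.val (mem_centralizer_singleton_iff.1 hw.1)), w.2⟩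
    have hd := card_dvd_of_le hle
    rw [Subgroup.card_map_of_injective X.subtype_injective, Z.card_cent_a_v] at hd
    obtain ⟨k, hk⟩ := IsPGroup.iff_card.1 hW
    rw [hk] at hd
    have hk1 : k ≤ 1 := by
      by_contra hk1
      have : 3 ^ 2 ∣ 24 := (pow_dvd_pow 3 (show 2 ≤ k by omega)).trans hd
      norm_num at this
    have ha : zpowers a ≤ W := zpowers_le.2 ⟨mem_centralizer_singleton_iff.2 rfl, hQ (mem_zpowers a)⟩
    have hcard : Nat.card (zpowers a) = 3 := by
      rw [Nat.card_zpowers]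
      exact orderOf_eq_prime (Subtype.ext cube_A)
        fun e => rotA_base.2.1 (F.inj ((congrArg Subtype.val e).trans (map_one _).symm))
    have heq := eq_of_le_of_card_ge ha (by
      rw [hcard, hk]
      calc 3 ^ k ≤ 3 ^ 1 := Nat.pow_le_pow_right (by norm_num) hk1
        _ = 3 := pow_one 3)
    exact heq ▸ ⟨mem_centralizer_singleton_iff.2 hqa, hq⟩
  have hQeq : (Q : Subgroup X) = zpowers a := by
    refine le_antisymm ?_ hQ
    haveI : Group.IsNilpotent (Q : Subgroup X) := Q.isPGroup'.isNilpotent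
    by_contra hne
    have hlt : (zpowers a).subgroupOf (Q : Subgroup X) < ⊤ := by
      rw [lt_top_iff_ne_top, Ne, Subgroup.subgroupOf_eq_top]; exact hne
    obtain ⟨n, hn, hn'⟩ := SetLike.exists_of_lt (Group.normalizerCondition_of_isNilpotent _ hlt)
    have hmem := (mem_normalizer_iff.1 hn ⟨a, hQ (mem_zpowers a)⟩).1 (mem_zpowers a)
    have hmem' : (n : X) * a * (n : X)⁻¹ ∈ zpowers a := hmem
    -- conjugation by a three-element fixes the generator
    obtain ⟨k, hk⟩ := hmem'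
    have hcard : orderOf a = 3 := orderOf_eq_prime (Subtype.ext cube_A)
      fun e => rotA_base.2.1 (F.inj ((congrArg Subtype.val e).trans (map_one _).symm))
    refine hn' (hcent _ n.2 ?_)
    have hk' : a ^ k = a ^ (k % 3).toNat := by
      rw [← zpow_natCast, Int.toNat_of_nonneg (Int.emod_nonneg _ (by norm_num)), ← zpow_mod_orderOf a k, hcard]
      rfl
    have hlt3 : (k % 3).toNat < 3 := by omega
    rw [show a ^ k = (n : X) * a * (n : X)⁻¹ from hk] at hk'
    obtain ⟨e, he⟩ := Q.isPGroup' n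
    interval_cases hj : (k % 3).toNat
    · rw [pow_zero, mul_inv_eq_one, mul_eq_left] at hk'
      rw [hk', orderOf_one] at hcard
      norm_num at hcard
    · rw [pow_one, mul_inv_eq_iff_eq_mul] at hk'; exact hk'
    · exfalso
      have hsq : ∀ m : ℕ, (n : X) ^ m * a * ((n : X) ^ m)⁻¹ = a ^ (2 ^ m) := by
        intro m
        induction m with
        | zero => simp
        | succ m ih =>
          calc (n : X) ^ (m + 1) * a * ((n : X) ^ (m + 1))⁻¹
              = (n : X) * ((n : X) ^ m * a * ((n : X) ^ m)⁻¹) * (n : X)⁻¹ := by rw [pow_succ']; group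
            _ = a ^ (2 ^ (m + 1)) := by rw [ih, ← conj_pow, hk', ← pow_mul, pow_succ']
      have h1 := hsq (3 ^ e)
      rw [show (n : X) ^ 3 ^ e = 1 from congrArg Subtype.val he, one_mul, inv_one, mul_one] at h1
      nth_rewrite 1 [← pow_one a] at h1
      rw [pow_inj_mod, hcard] at h1
      have hodd : ∀ m, 2 ^ m % 3 = if Even m then 1 else 2 := by
        intro m
        induction m with
        | zero => rfl
        | succ m ih =>
          rw [pow_succ, Nat.mul_mod, ih]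
          by_cases hm : Even m
          · rw [if_pos hm, if_neg (by simpa [Nat.even_add_one] using hm)]
          · rw [if_neg hm, if_pos (by simpa [Nat.even_add_one] using hm)]
      rw [hodd, if_neg (Nat.not_even_iff_odd.2 (Odd.pow (by decide)))] at h1
      norm_num at h1
  -- conjugating the double three-cycle to the single one
  set b' : X := ⟨g * F.φ cubB * g⁻¹, hbX⟩
  have hb'3 : b' ^ 3 = 1 := Subtype.ext (by
    show (g * F.φ cubB * g⁻¹) ^ 3 = 1
    rw [conj_pow, ← map_pow, hb3, map_one, mul_one, mul_inv_cancel])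
  have hpb : IsPGroup 3 (zpowers b') := by
    intro y
    obtain ⟨k, hk⟩ := y.2
    refine ⟨1, Subtype.ext ?_⟩
    show (y : X) ^ 3 ^ 1 = 1
    rw [← hk, pow_one, ← zpow_natCast, ← zpow_mul, mul_comm, zpow_mul, zpow_natCast, hb'3, one_zpow]
  obtain ⟨R, hR⟩ := hpb.exists_le_sylow
  obtain ⟨c, hc⟩ := MulAction.exists_smul_eq X R Q
  have hmem : c * b' * c⁻¹ ∈ (Q : Subgroup X) := hc ▸ ⟨b', hR (mem_zpowers b'), rfl⟩
  rw [hQeq] at hmem
  obtain ⟨k, hk⟩ := hmem
  have hk' : (F.φ rotA) ^ k = (c : G) * g * F.φ cubB * ((c : G) * g)⁻¹ := by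
    have := congrArg Subtype.val hk
    simpa [a, b', mul_assoc] using this
  obtain ⟨y, hy, hy'⟩ : ∃ y : Model, (y = 1 ∨ y = rotA ∨ y = rotA * rotA) ∧ F.φ y = (F.φ rotA) ^ k := by
    have h3 : F.φ rotA ^ (3 : ℤ) = 1 := by exact_mod_cast (cube_A (F := F))
    rw [zpow_mod_three h3 k]
    have h0 : 0 ≤ k % 3 := Int.emod_nonneg _ (by norm_num)
    have h2 : k % 3 < 3 := Int.emod_lt_of_pos _ (by norm_num)
    interval_cases k % 3
    · exact ⟨1, Or.inl rfl, by rw [map_one, zpow_zero]⟩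
    · exact ⟨rotA, Or.inr (Or.inl rfl), by rw [zpow_one]⟩
    · exact ⟨rotA * rotA, Or.inr (Or.inr rfl), by rw [map_mul, zpow_two]⟩
  rw [← hy'] at hk'
  rcases hy with rfl | hy
  · rw [map_one, eq_comm, mul_inv_eq_one, mul_eq_left] at hk'
    exact hb1 (F.inj (hk'.trans (map_one _).symm))
  · have hyb : InBase y := by
      rcases hy with rfl | rfl
      · exact rotA_eq.2
      · exact baseSub.mul_mem rotA_eq.2 rotA_eq.2
    obtain ⟨-, -, m, -, hm⟩ := F.fusion hbb hyb hk'.symm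
    refine cubB_not_rotA m ?_
    rw [hm]
    rcases hy with rfl | rfl <;> simp
where
  zpow_mod_three {x : G} (h : x ^ (3 : ℤ) = 1) (k : ℤ) : x ^ k = x ^ (k % 3) := by
    conv_lhs => rw [← Int.emod_add_mul_ediv k 3, zpow_add, zpow_mul, h, one_zpow, mul_one]

/-- The standard Sylow 2-subgroup. -/
def T36' : Subgroup E36 := centralizer {eT, eV}

theorem mem_T36' {m : E36} : m ∈ T36' ↔ m * eT = eT * m ∧ m * eV = eV * m := by
  rw [T36', mem_centralizer_iff]
  simp only [Set.mem_insert_iff, Set.mem_singleton_iff, forall_eq_or_imp, forall_eq]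
  exact ⟨fun h => ⟨h.1.symm, h.2.symm⟩, fun h => ⟨h.1.symm, h.2.symm⟩⟩

theorem T36'_list {m : E36} : m ∈ T36' ↔ (m : P36) ∈ T16 := by
  rw [mem_T36']
  refine ⟨fun h => ?_, fun h => ?_⟩
  · exact mem_T16 _ _ (mem_E36.1 m.2) (congrArg (fun z : E36 => (z : P36).1) h.1)
      (congrArg (fun z : E36 => (z : P36).2) h.1) (congrArg (fun z : E36 => (z : P36).2) h.2)
  · exact ⟨Subtype.ext (T16_ok _ h).1, Subtype.ext (T16_ok _ h).2.1⟩

theorem vlike_isConj {m : E36} (hm : (m : P36) ∈ T16) (h2 : m * m = 1) (h1 : m ≠ 1) (hv : VLike (m : P36)) :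
    IsConj (Z.φ₁ eV) (Z.φ₁ m) := by
  have htv : IsConj (Z.φ₁ eV) (Z.φ₁ eT) := by
    have h0 : IsConj (Z.φ₁ eV) (Z.φ₁ (e36 0)) := by
      have : ∃ q : Equiv.Perm (Fin 6), Equiv.Perm.sign q = 1 ∧ q * v36.2 * q⁻¹ = (x36 0).2 := by decide +kernel
      obtain ⟨q, hq, e⟩ := this
      refine Z.φ₁.map_isConj (isConj_iff.2 ⟨sixHom ⟨q, Equiv.Perm.mem_alternatingGroup.2 hq⟩, ?_⟩)
      exact Subtype.ext (Prod.ext rfl e)
    obtain ⟨n, hn⟩ := t_conj
    refine h0.trans (isConj_iff.2 ⟨F.φ n, ?_⟩)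
    rw [Z.map_e (by norm_num) (by norm_num), Z.map_T, ← hn, map_mul, map_mul, map_inv]
    rfl
  rcases vlike_conj _ hm (congrArg Subtype.val h2) (fun e => h1 (Subtype.ext e)) hv with
    ⟨q, hp, hq, e⟩ | ⟨q, p, hpq, e1, e2⟩
  · refine (Z.φ₁.map_isConj (isConj_iff.2 ⟨sixHom ⟨q, Equiv.Perm.mem_alternatingGroup.2 hq⟩, ?_⟩)).symm
    refine Subtype.ext (Prod.ext ?_ e)
    show 1 * (m : P36).1 * 1⁻¹ = 1
    rw [hp, mul_one, mul_inv_cancel]
  · exact htv.trans (Z.φ₁.map_isConj (isConj_iff.2 ⟨⟨(p, q), mem_E36.2 hpq⟩, Subtype.ext (Prod.ext e1 e2)⟩)).symm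

theorem flike_isConj {n : E36} (hn : (n : P36) ∈ [t36 * w36, t36 * w36 * v36]) :
    IsConj (F.φ l7) (Z.φ₁ n) := by
  obtain ⟨-, -, -, -, q, p, hpq, e1, e2⟩ := flike_two _ hn
  obtain ⟨k, hk⟩ := f_conj
  refine (isConj_iff.2 ⟨F.φ k, by rw [← map_inv, ← map_mul, ← map_mul, hk]⟩ : IsConj (F.φ l7) (F.φ l5)).trans ?_
  rw [show F.φ l5 = Z.φ₁ (e36 5) from (Z.map_e (g := 5) (by norm_num) (by norm_num)).symm]
  exact (Z.φ₁.map_isConj (isConj_iff.2 ⟨⟨(p, q), mem_E36.2 hpq⟩, Subtype.ext (Prod.ext e1 e2)⟩)).symm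

/-- The small case is impossible. -/
theorem not_small (hsmall : ∀ b ∈ Z.sixPart, b ∈ sym3List) : False := by
  classical
  haveI : Fact (Nat.Prime 2) := ⟨Nat.prime_two⟩
  have hC := Z.C_le hsmall
  set T : Subgroup G := T36'.map Z.φ₁
  have hT2 : IsPGroup 2 T := by
    rintro ⟨_, m, hm, rfl⟩
    refine ⟨2, Subtype.ext ?_⟩
    show Z.φ₁ m ^ 2 ^ 2 = 1
    rw [← map_pow, ← map_one Z.φ₁]
    refine congrArg Z.φ₁ (Subtype.ext ?_)
    rw [Subgroup.coe_pow, show (2 : ℕ) ^ 2 = 2 * 2 from rfl, pow_mul, pow_two, pow_two]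
    rcases (T16_ok _ (T36'_list.1 hm)).2.2 with h | h <;> rw [h]
    · exact one_mul 1
    · exact flike_ne.2.2.2.2.1
  obtain ⟨hvsq, hq16, hv1, htv, hw16, ht16, hv16⟩ := v_square
  have sqT : ∀ y ∈ T, y * y = 1 ∨ y * y = Z.φ₁ eV := by
    rintro _ ⟨m, hm, rfl⟩
    rcases (T16_ok _ (T36'_list.1 hm)).2.2 with h | h
    · left; rw [← map_mul, show m * m = 1 from Subtype.ext h, map_one]
    · right; rw [← map_mul]; exact congrArg _ (Subtype.ext h)
  -- the central involution is fixed by the normaliser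
  have fixV : ∀ x : G, (∀ y ∈ T, x * y * x⁻¹ ∈ T) → x * Z.φ₁ eV * x⁻¹ = Z.φ₁ eV := by
    intro x hx
    let q : E36 := ⟨x36 2 * w36, mul_mem (x36_mem 2) eW.2⟩
    have hq : q * q = eV := Subtype.ext hvsq
    rw [← hq, map_mul, show x * (Z.φ₁ q * Z.φ₁ q) * x⁻¹ = x * Z.φ₁ q * x⁻¹ * (x * Z.φ₁ q * x⁻¹) by group]
    refine ((sqT _ (hx _ ⟨q, T36'_list.2 hq16, rfl⟩)).resolve_left fun h => hv1 ?_).trans (by rw [← map_mul, hq])
    have h' : Z.φ₁ q * Z.φ₁ q = 1 := by
      have := congrArg (fun y => x⁻¹ * y * x) h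
      simpa [mul_assoc] using this
    rw [← map_mul, hq, ← map_one Z.φ₁] at h'
    exact congrArg Subtype.val (Z.inj h')
  obtain ⟨P, hP⟩ := hT2.exists_le_sylow
  have hPT : (P : Subgroup G) = T := by
    refine le_antisymm ?_ hP
    haveI : Group.IsNilpotent (P : Subgroup G) := P.isPGroup'.isNilpotent
    by_contra hne
    have hlt : T.subgroupOf (P : Subgroup G) < ⊤ := by
      rw [lt_top_iff_ne_top, Ne, Subgroup.subgroupOf_eq_top]; exact hne
    obtain ⟨n, hn, hnT⟩ := SetLike.exists_of_lt (Group.normalizerCondition_of_isNilpotent _ hlt)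
    set x : G := (P : Subgroup G).subtype n with hxdef
    have hx : ∀ y ∈ T, x * y * x⁻¹ ∈ T := fun y hy => (mem_normalizer_iff.1 hn ⟨y, hP hy⟩).1 hy
    have hxv := fixV x hx
    have hwT : Z.φ₁ eW ∈ T := ⟨eW, T36'_list.2 hw16, rfl⟩
    obtain ⟨z, hz, hzw⟩ := hx _ hwT
    have hz16 := T36'_list.1 hz
    set c : G ≃* G := MulAut.conj x with hc
    have hcx : ∀ y, c y = x * y * x⁻¹ := fun y => MulAut.conj_apply x y
    have hzw' : c (Z.φ₁ eW) = Z.φ₁ z := hzw.symm
    have hcv : c (Z.φ₁ eV) = Z.φ₁ eV := hxv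
    have hinvol : ∀ {p q : E36}, c (Z.φ₁ p) = Z.φ₁ q → p * p = 1 → q * q = 1 := fun {p q} e h => Z.inj (by
      rw [map_mul, ← e, ← map_mul, ← map_mul, h, map_one, map_one])
    have hne : ∀ {p q r s : E36}, c (Z.φ₁ p) = Z.φ₁ q → c (Z.φ₁ r) = Z.φ₁ s → p ≠ r → q ≠ s :=
      fun {p q r s} e e' h hqs => h (Z.inj (c.injective (by rw [e, e', hqs])))
    have eW2 : eW * eW = 1 := Subtype.ext flike_ne.2.2.2.1
    have eWV2 : eW * eV * (eW * eV) = 1 := Subtype.ext (by
      show w36 * v36 * (w36 * v36) = 1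
      decide +kernel)
    have c1 : c (Z.φ₁ 1) = Z.φ₁ 1 := by rw [map_one, map_one]
    have hzv : c (Z.φ₁ (eW * eV)) = Z.φ₁ (z * eV) := by rw [map_mul, map_mul, hzw', hcv, map_mul]
    have hz2 := hinvol hzw' eW2
    have hzv2 := hinvol hzv eWV2
    have hz1 : z ≠ 1 := hne hzw' c1 (fun e => flike_ne.2.2.1 (congrArg Subtype.val e))
    have hzv1 : z * eV ≠ 1 := hne hzv c1 (fun e => flike_ne.2.1 (congrArg Subtype.val e))
    have hzne : z ≠ eV := hne hzw' hcv (fun e => by
      have := congrArg (fun y : E36 => (y : P36)) e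
      exact (by decide +kernel : w36 ≠ v36) this)
    have vl : ∀ {p q : E36}, c (Z.φ₁ p) = Z.φ₁ q → (p : P36) ∈ T16 → p * p = 1 → p ≠ 1 → VLike (p : P36) →
        (q : P36) ∈ T16 → VLike (q : P36) := by
      intro p q e hp hp2 hp1 hpv hq
      by_contra hcon
      have hq2 := hinvol e hp2
      have hfl : ∀ n ∈ T16, n * n = 1 → n ≠ 1 → ¬ VLike n → n ∈ [t36 * w36, t36 * w36 * v36] ∨ n = t36 * v36 := by
        decide +kernel
      have hconj : IsConj (Z.φ₁ p) (Z.φ₁ q) := isConj_iff.2 ⟨x, by rw [← e, hcx]⟩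
      have hbase := (Z.vlike_isConj hp hp2 hp1 hpv).trans hconj
      have hq1 : q ≠ 1 := hne e c1 hp1
      rcases hfl _ hq (congrArg Subtype.val hq2) (fun h => hq1 (Subtype.ext h)) hcon with h | h
      · exact Z.not_fused (hbase.trans (Z.flike_isConj h).symm)
      · obtain ⟨k, hk⟩ := f_conj
        have h5 : IsConj (F.φ l7) (Z.φ₁ (e36 5)) := by
          rw [Z.map_e (by norm_num) (by norm_num)]
          exact isConj_iff.2 ⟨F.φ k, by rw [← map_inv, ← map_mul, ← map_mul, hk]; rfl⟩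
        obtain ⟨p', q', hpq, e1, e2⟩ : ∃ p' : Equiv.Perm (Fin 3), ∃ q' : Equiv.Perm (Fin 6),
            Equiv.Perm.sign p' * Equiv.Perm.sign q' = 1 ∧ p' * (t36 * v36).1 * p'⁻¹ = (x36 5).1 ∧
              q' * (t36 * v36).2 * q'⁻¹ = (x36 5).2 := by
          decide +kernel
        refine Z.not_fused (hbase.trans (IsConj.trans ?_ h5.symm))
        exact Z.φ₁.map_isConj (isConj_iff.2 ⟨⟨(p', q'), mem_E36.2 hpq⟩, Subtype.ext (by
          show (p', q') * (q : P36) * (p', q')⁻¹ = x36 5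
          rw [h]; exact Prod.ext e1 e2)⟩)
    have hv16' : VLike w36 ∧ VLike (w36 * v36) ∧ w36 * v36 ∈ T16 := by decide +kernel
    have hzvl : VLike (z : P36) := vl hzw' hw16 eW2 (fun e => flike_ne.2.2.1 (congrArg Subtype.val e)) hv16'.1 hz16
    have hzvT : ((z * eV : E36) : P36) ∈ T16 := T36'_list.1 (mul_mem hz (T36'_list.2 hv16))
    have hzvvl : VLike ((z * eV : E36) : P36) :=
      vl hzv hv16'.2.2 eWV2 (fun e => flike_ne.2.1 (congrArg Subtype.val e)) hv16'.2.1 hzvT
    -- the images of the two involutions of the other class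
    have himg : ∀ n : E36, (n : P36) ∈ [t36 * w36, t36 * w36 * v36] → ∃ n' : E36, c (Z.φ₁ n) = Z.φ₁ n' ∧
        (n' : P36) ∈ T16 ∧ n' * n' = 1 ∧ n' ≠ 1 ∧ ¬ VLike (n' : P36) ∧ n' * z = z * n' := by
      intro n hn
      obtain ⟨hn16, hn2, -, hnw, -⟩ := flike_two _ hn
      obtain ⟨n', hn', e⟩ := hx _ ⟨n, T36'_list.2 hn16, rfl⟩
      have e' : c (Z.φ₁ n) = Z.φ₁ n' := e.symm
      have hconj : IsConj (F.φ l7) (Z.φ₁ n') :=
        (Z.flike_isConj hn).trans (isConj_iff.2 ⟨x, by rw [← e', hcx]⟩)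
      have h2 := hinvol e' (Subtype.ext hn2)
      have h1 : n' ≠ 1 := hne e' c1 (fun e => by
        have h := congrArg (fun y : E36 => (y : P36)) e
        simp only [List.mem_cons, List.not_mem_nil, or_false] at hn
        rcases hn with hn | hn <;> rw [hn] at h <;> revert h <;> decide +kernel)
      refine ⟨n', e', T36'_list.1 hn', h2, h1, fun hv => Z.not_fused ?_, Z.inj ?_⟩
      · exact (Z.vlike_isConj (T36'_list.1 hn') h2 h1 hv).trans hconj.symm
      · rw [map_mul, map_mul, ← e', ← hzw', ← map_mul c, ← map_mul c, ← map_mul, ← map_mul,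
          show n * eW = eW * n from Subtype.ext hnw]
    have hm1 : t36 * w36 ∈ E36 := mul_mem eT.2 eW.2
    have hm2 : t36 * w36 * v36 ∈ E36 := mul_mem hm1 eV.2
    obtain ⟨a1, ea1, a1T, a12, a11, a1v, a1z⟩ := himg ⟨_, hm1⟩ (by simp)
    obtain ⟨a2, ea2, a2T, a22, a21, a2v, a2z⟩ := himg ⟨_, hm2⟩ (by simp)
    have hane : a1 ≠ a2 := hne ea1 ea2 (fun e => flike_ne.1 (congrArg Subtype.val e))
    have hzmem := v_char _ hz16 (congrArg Subtype.val hz2) (fun e => hz1 (Subtype.ext e))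
      (fun e => hzne (Subtype.ext e)) hzvl hzvvl _ a1T _ a2T (congrArg Subtype.val a12)
      (fun e => a11 (Subtype.ext e)) (congrArg Subtype.val a22) (fun e => a21 (Subtype.ext e))
      (fun e => hane (Subtype.ext e)) a1v a2v (congrArg Subtype.val a1z) (congrArg Subtype.val a2z)
    -- so the element normalises the four-group
    have hwin : ∀ u ∈ ({eV, eW} : Set E36), x⁻¹ * Z.φ₁ u * x ∈ Z.V := by
      have hxV : x⁻¹ * Z.φ₁ eV * x = Z.φ₁ eV := by
        nth_rewrite 1 [← hxv]; group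
      intro u hu
      rcases hu with rfl | rfl
      · rw [hxV]; exact mem_map_of_mem _ (subset_closure (by simp))
      · simp only [List.mem_cons, List.not_mem_nil, or_false] at hzmem
        rcases hzmem with h | h
        · rw [show z = eW from Subtype.ext h] at hzw'
          have : x⁻¹ * Z.φ₁ eW * x = Z.φ₁ eW := by
            nth_rewrite 1 [← hzw']; rw [hcx]; group
          rw [this]; exact mem_map_of_mem _ (subset_closure (by simp))
        · rw [show z = eW * eV from Subtype.ext h] at hzw'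
          have e2 : c (Z.φ₁ (eW * eV)) = Z.φ₁ eW := by
            rw [map_mul, map_mul, hzw', hcv, ← map_mul, mul_assoc,
              show eV * eV = 1 from Subtype.ext flike_ne.2.2.2.2.1, mul_one]
          have : x⁻¹ * Z.φ₁ eW * x = Z.φ₁ (eW * eV) := by
            nth_rewrite 1 [← e2]; rw [hcx]; group
          rw [this]
          exact mem_map_of_mem _ (mul_mem (subset_closure (by simp)) (subset_closure (by simp)))
    have hnormC := Z.conj_mem_C (g := x) (hwin _ (Or.inl rfl)) (hwin _ (Or.inr rfl))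
    have ha : x * F.φ rotA * x⁻¹ = F.φ rotA ∨ x * F.φ rotA * x⁻¹ = F.φ rotA * F.φ rotA := by
      have hmemC := hnormC _ Z.A_mem_C
      obtain ⟨m, hm⟩ := hC hmemC
      rw [← hm] at hmemC ⊢
      obtain ⟨h1, h2⟩ := Z.map_mem_C.1 hmemC
      have h3 : m ^ 3 = 1 := Z.inj (by rw [map_pow, hm, conj_pow, cube_A, mul_one, mul_inv_cancel, map_one])
      have hne1 : m ≠ 1 := by
        rintro rfl
        rw [map_one, eq_comm, mul_inv_eq_one, mul_eq_left] at hm
        exact rotA_base.2.1 (F.inj (hm.trans (map_one _).symm))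
      rw [pow_succ, pow_two] at h3
      have hb := three_cent_V (m : P36).1 (m : P36).2 (congrArg (fun y : E36 => (y : P36).1) h3)
        (congrArg (fun y : E36 => (y : P36).2) h3) (congrArg (fun y : E36 => (y : P36).2) h1)
        (congrArg (fun y : E36 => (y : P36).2) h2)
      have hs : Equiv.Perm.sign (m : P36).1 = 1 := by
        have := mem_E36.1 m.2
        rwa [hb, map_one, mul_one] at this
      rcases even_three _ hs with h | h | h
      · exact absurd (Subtype.ext (Prod.ext h hb)) hne1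
      · left; rw [show m = eA from Subtype.ext (Prod.ext h hb), Z.map_A]
      · right
        rw [show m = eA * eA from Subtype.ext (Prod.ext h (hb.trans (one_mul 1).symm)), map_mul, Z.map_A]
    have hxr : x ∈ Z.φ₁.range := by
      rcases ha with h | h
      · obtain ⟨m, -, hm⟩ := Z.cent x (mem_centralizer_singleton_iff.2 (mul_inv_eq_iff_eq_mul.1 h))
        exact ⟨m, hm⟩
      · have h4 : F.φ l4 * (x * F.φ rotA * x⁻¹) * F.φ l4 = F.φ rotA := by
          rw [h, ← map_mul, ← map_mul, ← map_mul]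
          exact congrArg _ (by decide +kernel)
        have h4sq : F.φ l4 * F.φ l4 = 1 := by
          rw [← map_mul, show l4 * l4 = 1 from lM_sq 4 (by norm_num), map_one]
        obtain ⟨m, -, hm⟩ := Z.cent (F.φ l4 * x) (mem_centralizer_singleton_iff.2 (by
          nth_rewrite 2 [← h4]
          simp only [mul_assoc, inv_mul_cancel_left]
          rw [← mul_assoc (F.φ l4) (F.φ l4), h4sq, one_mul]
          simp))
        refine ⟨e36 4 * m, ?_⟩
        rw [map_mul, hm, Z.map_e (by norm_num) (by norm_num), ← mul_assoc]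
        show F.φ l4 * F.φ l4 * x = x
        rw [h4sq, one_mul]
    -- a 2-subgroup of the normaliser of the three-cycle with more than sixteen elements
    have hle : T ≤ (P : Subgroup G) ⊓ Z.φ₁.range := le_inf hP (map_le_range _ _)
    have hcardT : Nat.card T = 16 := by
      rw [Subgroup.card_map_of_injective Z.inj]
      have h16 : T16.toFinset.card = 16 ∧ ∀ p ∈ T16, Equiv.Perm.sign p.1 * Equiv.Perm.sign p.2 = 1 := by
        decide +kernel
      rw [← h16.1, ← Nat.card_eq_finsetCard]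
      exact Nat.card_congr
        { toFun := fun m => ⟨(m.1 : P36), List.mem_toFinset.2 (T36'_list.1 m.2)⟩
          invFun := fun p => ⟨⟨p.1, mem_E36.2 (h16.2 _ (List.mem_toFinset.1 p.2))⟩, T36'_list.2 (List.mem_toFinset.1 p.2)⟩
          left_inv := fun m => rfl
          right_inv := fun p => rfl }
    have hdvd : Nat.card ↥((P : Subgroup G) ⊓ Z.φ₁.range) ∣ 2160 := by
      rw [← card_E36, Nat.card_congr (MonoidHom.ofInjective Z.inj).toEquiv]
      exact card_dvd_of_le inf_le_right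
    obtain ⟨k, hk⟩ := IsPGroup.iff_card.1 (P.isPGroup'.to_le (inf_le_left : (P : Subgroup G) ⊓ Z.φ₁.range ≤ P))
    rw [hk] at hdvd
    have hk4 : k ≤ 4 := by
      by_contra hk4
      have : 2 ^ 5 ∣ 2160 := (pow_dvd_pow 2 (show 5 ≤ k by omega)).trans hdvd
      norm_num at this
    have heq := eq_of_le_of_card_ge hle (by
      rw [hk, hcardT]
      calc 2 ^ k ≤ 2 ^ 4 := Nat.pow_le_pow_right (by norm_num) hk4
        _ = 16 := by norm_num)
    exact hnT (show x ∈ T from heq ▸ ⟨n.2, hxr⟩)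
  -- fusion of the two central involutions
  have ht2 : eT * eT = 1 := Subtype.ext (by show t36 * t36 = 1; decide +kernel)
  have ht1 : eT ≠ 1 := fun e => (by decide +kernel : t36 ≠ 1) (congrArg Subtype.val e)
  obtain ⟨g, hg⟩ := isConj_iff.1 (Z.vlike_isConj (m := eT) ht16 ht2 ht1 (by decide +kernel))
  have hcentT : ∀ e : E36, (e : P36) = t36 ∨ (e : P36) = v36 → Z.φ₁ e ∈ centralizer (P : Set G) := by
    intro e he
    show Z.φ₁ e ∈ centralizer ((P : Subgroup G) : Set G)
    rw [hPT, mem_centralizer_iff]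
    rintro _ ⟨m, hm, rfl⟩
    rw [← map_mul, ← map_mul]
    refine congrArg _ (Subtype.ext ?_)
    rcases he with h | h <;> rw [Subgroup.coe_mul, Subgroup.coe_mul, h]
    · exact (T16_ok _ (T36'_list.1 hm)).1
    · exact (T16_ok _ (T36'_list.1 hm)).2.1
  obtain ⟨n, hn, e⟩ := P.conj_eq_normalizer_conj_of_mem_centralizer (Z.φ₁ eV) g⁻¹ (hcentT _ (Or.inr rfl))
    (by rw [inv_inv, hg]; exact hcentT _ (Or.inl rfl))
  rw [inv_inv, hg] at e
  have hn' : n⁻¹ ∈ normalizer ((P : Subgroup G) : Set G) := inv_mem hn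
  rw [hPT] at hn'
  have hfix := fixV n⁻¹ fun y hy => (mem_normalizer_iff.1 hn' y).1 hy
  rw [inv_inv] at hfix
  rw [hfix] at e
  exact htv (congrArg Subtype.val (Z.inj e))

/-- One of the two crossing relations holds. -/
theorem cross : CosetEnum.wordVal Z.lt.x Words.crossNine = 1 ∨ CosetEnum.wordVal Z.lt.x Words.crossSix = 1 := by
  rcases Z.cross_or_small with h | h | h
  · exact Or.inl h
  · exact Or.inr h
  · exact (Z.not_small h).elim

end NOne

end Cfsg.Lib.NineThree
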