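import Cfsg.Agent.Lib.CosetEnum.Order

/-!
# Homomorphisms from subgroups of a product, and reading tables
-/

set_option autoImplicit false

namespace Cfsg.Lib.NineThree

open Cfsg.Lib.CosetEnum

universe u v

/-- A subgroup of a product that is no larger than its projection is the graph of a homomorphism. -/
theorem exists_hom_of_graph {M : Type u} {G : Type v} [Group M] [Group G] {D : Subgroup (M × G)}
    [Finite D] {T : Subgroup M} (hT : D.map (MonoidHom.fst M G) = T)
    (hcard : Nat.card D ≤ Nat.card T) :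
    ∃ f : T →* G, ∀ d ∈ D, ∀ h : d.1 ∈ T, f ⟨d.1, h⟩ = d.2 := by
  subst hT
  let p : D →* D.map (MonoidHom.fst M G) := (MonoidHom.fst M G).subgroupMap D
  have hs : Function.Surjective p := (MonoidHom.fst M G).subgroupMap_surjective D
  have hb : Function.Bijective p :=
    (Nat.bijective_iff_surjective_and_card p).2 ⟨hs, le_antisymm hcard (Nat.card_le_card_of_surjective p hs)⟩
  let e := MulEquiv.ofBijective p hb
  refine ⟨(MonoidHom.snd M G).comp (D.subtype.comp e.symm.toMonoidHom), fun d hd h => ?_⟩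
  have : e.symm ⟨d.1, h⟩ = ⟨d, hd⟩ := e.injective (by rw [e.apply_symm_apply]; rfl)
  simp [this]

variable {G : Type u} [Group G]

/-- The edges read from a table of proved facts. -/
theorem closedOK_img {F Z P : Tab} {bound n k : ℕ} {S : List ℕ} :
    ∀ {m i : ℕ}, closedOK F Z P bound n k S m i = true → ∀ j, i ≤ j → j < i + m → ∀ g ∈ S,
      img P k g j < n ∧ ∃ r < bound, fg (F.getP r) = g ∧
        ((fu (F.getP r) = j ∧ fv (F.getP r) = img P k g j) ∨
          (fv (F.getP r) = j ∧ fu (F.getP r) = img P k g j))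
  | 0, i, _, j, h1, h2 => by omega
  | m + 1, i, hc, j, h1, h2 => by
    rw [closedOK, force_eq, Bool.and_eq_true, List.all_eq_true] at hc
    rcases Nat.eq_or_lt_of_le h1 with h | h
    · subst h
      intro g hg
      have := hc.1 g hg
      simp only [edgeOK, force_eq, Bool.and_eq_true, Bool.or_eq_true, Nat.blt_eq,
        Nat.beq_eq] at this
      obtain ⟨⟨ht, hr⟩, hg', hends⟩ := this
      exact ⟨ht, _, hr, hg', hends⟩
    · exact closedOK_img hc.2 j h (by omega)

/-- A word fixing the first point of the table lies in the subgroup. -/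
theorem mem_of_twalk {c : StepCert} {R0 : List (List ℕ)} (h : c.Valid R0) {x : ℕ → G}
    (hx : ∀ g, x g * x g = 1) (hrel : ∀ r ∈ R0, wordVal x r = 1) {K : Subgroup G}
    (hK : ∀ u ∈ c.U, wordVal x u ∈ K) {w : List ℕ} (hw : (w.all fun g => c.S.contains g) = true)
    (hfix : twalk c.P c.k w 0 = 0) : wordVal x w ∈ K := by
  have h1 := h.pos
  rw [Bool.and_eq_true, Nat.blt_eq, List.all_eq_true] at h1
  have hU : ∀ r ∈ c.U, act x r ((1 : G) : G ⧸ K) = ((1 : G) : G ⧸ K) := by
    intro r hr
    rw [act_eq_smul]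
    show ((wordVal x r * 1 : G) : G ⧸ K) = ((1 : G) : G ⧸ K)
    rw [QuotientGroup.eq, mul_one, mul_one, inv_mem_iff]
    exact hK r hr
  obtain ⟨ψ, hψ0, hψ⟩ := exists_labelling x ((1 : G) : G ⧸ K) (F := c.F) (d := c.d)
    fun i hi => defsOK_get h.defs i (Nat.zero_le _) (by omega)
  have hF := stepsOK_sound hx (fun r hr q => by
    rw [act_eq_smul, shift_eq_one hx h.shifts hrel r hr, one_smul]) (φ := ψ)
    (by rw [hψ0]; exact hU) h.steps (j := 0) hψ
  rw [Nat.add_zero] at hF
  have key : ∀ (w : List ℕ), (∀ g ∈ w, g ∈ c.S) → ∀ i < c.n, act x w (ψ i) = ψ (twalk c.P c.k w i) := by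
    intro w
    induction w with
    | nil => intro _ i _; rfl
    | cons g w ih =>
      intro hw i hi
      have hg : g ∈ c.S := hw g (by simp)
      obtain ⟨ht, r, hr, hgr, hends⟩ := closedOK_img h.closed i (Nat.zero_le _) (by omega) g hg
      have hf := hF r hr
      rw [hgr] at hf
      have hstep : gen x g • ψ i = ψ (img c.P c.k g i) := by
        rcases hends with ⟨e1, e2⟩ | ⟨e1, e2⟩
        · rwa [e1, e2] at hf
        · rw [← e2, ← e1, ← hf, gen_smul_smul hx]
      rw [act_cons, hstep, twalk_cons, ih (fun a ha => hw a (by simp [ha])) _ ht]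
  have h2 := key w (fun g hg => by simpa using List.all_eq_true.1 hw g hg) 0 h1.1
  rw [hfix, hψ0, act_eq_smul] at h2
  have h3 : ((wordVal x w * 1 : G) : G ⧸ K) = ((1 : G) : G ⧸ K) := h2
  rwa [QuotientGroup.eq, mul_one, mul_one, inv_mem_iff] at h3

end Cfsg.Lib.NineThree
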