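import Cfsg.Agent.Lib.NineThree.NOne
import Cfsg.Agent.Lib.NineThree.Perm36

/-!
# The normaliser of the three-cycle as a group of permutations
-/

set_option autoImplicit false
set_option linter.unusedSectionVars false
set_option linter.style.haveILetI false
set_option maxHeartbeats 1000000
set_option synthInstance.maxSize 2000
set_option synthInstance.maxHeartbeats 200000

namespace Cfsg.Lib.NineThree

open Cfsg.Lib.Recog.ThreeCubedFour Cfsg.Lib.CosetEnum Subgroup
open scoped commutatorElement

universe u

/-- The generators in the even part. -/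
def e36 (g : ℕ) : E36 := ⟨x36 g, x36_mem g⟩

/-- The three-cycle in the even part. -/
def eA : E36 := ⟨a36, a36_eq ▸ mul_mem (x36_mem 4) (x36_mem 6)⟩

theorem eA_eq : eA = e36 4 * e36 6 := Subtype.ext a36_eq

theorem closure_e36 : closure (e36 '' {g | g ∈ [0, 1, 2, 3, 4, 5, 6]}) = ⊤ := by
  refine map_injective E36.subtype_injective ?_
  rw [MonoidHom.map_closure, Set.image_image]
  show closure (x36 '' _) = _
  rw [closure_x36, ← MonoidHom.range_eq_map, range_subtype]

/-- The normaliser of the three-cycle. -/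
structure NOne {G : Type u} [Group G] (F : Frame G) where
  /-- the letter -/
  lt : Letter F
  /-- the isomorphism -/
  φ₁ : E36 →* G
  inj : Function.Injective φ₁
  gens : ∀ g < 7, φ₁ (e36 g) = lt.x g
  cent : ∀ y ∈ centralizer ({F.φ rotA} : Set G), ∃ m : E36, m * eA = eA * m ∧ φ₁ m = y

namespace Big

variable {G : Type u} [Group G] [Finite G] {F : Frame G}

theorem six_simple : IsSimpleGroup (alternatingGroup (Fin 6)) :=
  alternatingGroup.isSimpleGroup (by simp)

/-- The normaliser exists. -/
theorem exists_nOne (B : Big F) : Nonempty (NOne F) := by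
  classical
  obtain ⟨L⟩ := B.exists_letter
  let z : ℕ → P36 × G := fun g => if g < 7 then (x36 g, L.x g) else 1
  have hz : ∀ g, z g * z g = 1 := fun g => by
    by_cases h : g < 7
    · simp only [z, if_pos h]
      exact Prod.ext (x36_sq g) (L.sq g)
    · simp only [z, if_neg h, one_mul]
  have hlt : ∀ r ∈ Words.relN, ∀ g ∈ r, g < 7 := by decide +kernel
  have hzw : ∀ r : List ℕ, (∀ g ∈ r, g < 7) → wordVal z r = (wordVal x36 r, wordVal L.x r) := by
    intro r hr
    induction r with
    | nil => rfl
    | cons g r ih =>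
      rw [wordVal, wordVal, wordVal, ih fun a ha => hr a (by simp [ha])]
      have hg : g < 7 := hr g (by simp)
      simp only [gen, z, if_neg (show g ≠ eps from fun e => by rw [e] at hg; exact absurd hg (by decide)), if_pos hg]
      rfl
  have hrel : ∀ r ∈ Words.relN, wordVal z r = 1 := fun r hr => by
    rw [hzw r (hlt r hr), x36_rels r hr, L.rels r (List.mem_append_left _ hr)]
    rfl
  have hR : ∀ r ∈ Words.relN ++ [[]], wordVal z r = 1 := by
    intro r hr
    rcases List.mem_append.1 hr with hr | hr
    · exact hrel r hr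
    · rw [List.mem_singleton.1 hr]; rfl
  have hvalid := One.step_valid (R0 := Words.relN ++ [[]]) (by decide +kernel)
  obtain ⟨hfin, hle⟩ := hvalid.card_le hz hR (K := ⊥) (by simp [One.step]) inferInstance (m := 1)
    (by rw [card_bot])
  set D := closure (z '' {g | g ∈ One.step.S})
  haveI := hfin
  have hS : One.step.S = [0, 1, 2, 3, 4, 5, 6] := rfl
  have hzg : ∀ g < 7, z g = (x36 g, L.x g) := fun g hg => by simp only [z, if_pos hg]
  have hmem : ∀ g < 7, z g ∈ D := fun g hg => subset_closure ⟨g, by
    simp only [hS, Set.mem_ofPred_eq, List.mem_cons, List.not_mem_nil, or_false]; omega, rfl⟩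
  have hfst : D.map (MonoidHom.fst P36 G) = E36 := by
    rw [MonoidHom.map_closure, Set.image_image, hS, ← closure_x36]
    congr 1
    refine Set.image_congr fun g hg => ?_
    simp only [Set.mem_ofPred_eq, List.mem_cons, List.not_mem_nil, or_false] at hg
    rw [hzg g (by omega)]
    rfl
  obtain ⟨f, hf⟩ := exists_hom_of_graph hfst (by
    rw [card_E36]
    have h2 : One.step.n * 1 = 2160 := rfl
    omega)
  have hgens : ∀ g < 7, f (e36 g) = L.x g := fun g hg => by
    have h1 := hzg g hg
    have := hf (z g) (hmem g hg) (by rw [h1]; exact x36_mem g)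
    rw [show (⟨(z g).1, by rw [h1]; exact x36_mem g⟩ : E36) = e36 g from Subtype.ext (show (z g).1 = x36 g by rw [h1])] at this
    rw [this, h1]
  have hxM : ∀ g, g ≠ 3 → L.x g = F.φ (lM g) := fun g hg => by rw [L.x_eq, if_neg hg]
  have ha : f eA = F.φ rotA := by
    rw [eA_eq, map_mul, hgens 4 (by norm_num), hgens 6 (by norm_num), hxM 4 (by norm_num), hxM 6 (by norm_num),
      ← map_mul, rotA_eq.1]
    rfl
  -- the alternating group of degree six
  let ι : alternatingGroup (Fin 6) →* E36 :=
    { toFun := fun b => ⟨(1, b.1), mem_E36.2 (by rw [map_one, one_mul]; exact Equiv.Perm.mem_alternatingGroup.1 b.2)⟩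
      map_one' := rfl
      map_mul' := fun a b => Subtype.ext (Prod.ext (one_mul 1).symm rfl) }
  have hιcomm : ∀ b, ι b * eA = eA * ι b := fun b =>
    Subtype.ext (Prod.ext ((one_mul _).trans (mul_one _).symm) ((mul_one _).trans (one_mul _).symm))
  have hcent : ∀ b, f (ι b) ∈ centralizer ({F.φ rotA} : Set G) := fun b => by
    rw [mem_centralizer_singleton_iff, ← ha, ← map_mul, ← map_mul, hιcomm]
  -- commutators of the centraliser lie in the complement
  haveI := six_simple
  have hA' : ∀ b, f (ι b) ∈ B.L := by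
    let M : Subgroup (alternatingGroup (Fin 6)) := B.L.comap (f.comp ι)
    have hperf : commutator (alternatingGroup (Fin 6)) = ⊤ := by
      refine ((commutator (alternatingGroup (Fin 6))).normal_of_characteristic.eq_bot_or_eq_top).resolve_left ?_
      intro h
      rw [commutator_eq_bot_iff_center_eq_top] at h
      have h1 : ∀ x y : alternatingGroup (Fin 6), x * y = y * x := fun x y =>
        ((mem_center_iff.1 (h ▸ mem_top y : y ∈ center _)) x)
      have h2 := h1 ⟨Equiv.swap 0 1 * Equiv.swap 1 2, Equiv.Perm.mem_alternatingGroup.2 (by decide)⟩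
        ⟨Equiv.swap 1 2 * Equiv.swap 2 3, Equiv.Perm.mem_alternatingGroup.2 (by decide)⟩
      revert h2
      decide +kernel
    have hle : commutator (alternatingGroup (Fin 6)) ≤ M := by
      rw [_root_.commutator_def, commutator_le]
      intro p _ q _
      show f (ι ⁅p, q⁆) ∈ B.L
      obtain ⟨z1, hz1, l1, hl1, e1⟩ := B.decomp _ (hcent p)
      obtain ⟨z2, hz2, l2, hl2, e2⟩ := B.decomp _ (hcent q)
      have hcz : ∀ z ∈ zpowers (F.φ rotA), ∀ y ∈ centralizer ({F.φ rotA} : Set G), Commute z y := by
        rintro _ ⟨i, rfl⟩ y hy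
        exact (show Commute (F.φ rotA) y from (mem_centralizer_singleton_iff.1 hy).symm).zpow_left i
      have c1 := hcz z1 hz1
      have c2 := hcz z2 hz2
      have hzX : ∀ z ∈ zpowers (F.φ rotA), z ∈ centralizer ({F.φ rotA} : Set G) := fun z hz =>
        zpowers_le.2 (mem_centralizer_singleton_iff.2 rfl) hz
      have key : ∀ z l m : G, Commute z l → Commute z m → ⁅z * l, m⁆ = ⁅l, m⁆ := fun z l m h1 h2 => by
        rw [commutatorElement_def, commutatorElement_def]
        have h3 : Commute z (l * m * l⁻¹) := (h1.mul_right h2).mul_right h1.inv_right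
        calc z * l * m * (z * l)⁻¹ * m⁻¹ = z * (l * m * l⁻¹) * z⁻¹ * m⁻¹ := by group
          _ = _ := by rw [h3.eq, mul_inv_cancel_right]
      rw [map_commutatorElement, map_commutatorElement, e1, e2, key z1 l1 _ (c1 _ (B.L_le hl1))
        (c1 _ (mul_mem (hzX _ hz2) (B.L_le hl2))), ← inv_inv ⁅l1, z2 * l2⁆, commutatorElement_inv,
        key z2 l2 _ (c2 _ (B.L_le hl2)) (c2 _ (B.L_le hl1)), commutatorElement_inv]
      exact mul_mem (mul_mem (mul_mem hl1 hl2) (inv_mem hl1)) (inv_mem hl2)
    intro b
    exact hle (hperf ▸ mem_top b)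
  have hιinj : Function.Injective (f.comp ι) := by
    rcases (f.comp ι).normal_ker.eq_bot_or_eq_top with h | h
    · exact (MonoidHom.ker_eq_bot_iff _).1 h
    · exfalso
      have h0 : f (e36 0) = 1 := by
        have := (h ▸ mem_top _ : (⟨(x36 0).2, Equiv.Perm.mem_alternatingGroup.2 (by decide +kernel)⟩ :
          alternatingGroup (Fin 6)) ∈ (f.comp ι).ker)
        rw [MonoidHom.mem_ker, MonoidHom.comp_apply] at this
        exact this
      rw [hgens 0 (by norm_num), hxM 0 (by norm_num)] at h0
      exact kappa_facts.2.2.2.2.2.2.1 (F.inj (h0.trans (map_one _).symm))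
  have hL : ∀ l ∈ B.L, ∃ b, f (ι b) = l := by
    let g : alternatingGroup (Fin 6) →* B.L := (f.comp ι).codRestrict B.L hA'
    have hg : Function.Injective g := fun a b e => hιinj (congrArg Subtype.val e)
    have hcard : Nat.card B.L = Nat.card (alternatingGroup (Fin 6)) := by
      rw [Nat.card_congr (MonoidHom.ofInjective B.θ_inj).toEquiv, B.θ_range]
    have hb := ((Nat.bijective_iff_injective_and_card g).2 ⟨hg, hcard.symm⟩).2
    intro l hl
    obtain ⟨b, hb⟩ := hb ⟨l, hl⟩
    exact ⟨b, congrArg Subtype.val hb⟩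
  have hcover : ∀ y ∈ centralizer ({F.φ rotA} : Set G), ∃ m : E36, m * eA = eA * m ∧ f m = y := by
    intro y hy
    obtain ⟨z, ⟨i, rfl⟩, l, hl, rfl⟩ := B.decomp y hy
    obtain ⟨b, rfl⟩ := hL l hl
    refine ⟨eA ^ i * ι b, ?_, by rw [map_mul, map_zpow, ha]⟩
    rw [mul_assoc, hιcomm, ← mul_assoc, ((Commute.refl eA).zpow_left i).eq, mul_assoc]
  refine ⟨⟨L, f, ?_, hgens, hcover⟩⟩
  -- injectivity by counting
  rw [← MonoidHom.ker_eq_bot_iff, ← card_eq_one]
  have h5 : L.x 4 ∈ f.range := ⟨_, hgens 4 (by norm_num)⟩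
  have hXle : centralizer ({F.φ rotA} : Set G) < f.range := by
    refine lt_of_le_of_ne (fun y hy => ?_) fun e => ?_
    · obtain ⟨m, -, hm⟩ := hcover y hy; exact ⟨m, hm⟩
    · rw [← e, hxM 4 (by norm_num), mem_centralizer_singleton_iff, ← map_mul, ← map_mul] at h5
      have := F.inj h5
      revert this
      decide +kernel
  have hX : 1080 ≤ Nat.card (centralizer ({F.φ rotA} : Set G)) := by
    let h : ↥(zpowers (F.φ rotA)) × alternatingGroup (Fin 6) → centralizer ({F.φ rotA} : Set G) := fun p =>
      ⟨p.1 * f (ι p.2), mul_mem (zpowers_le.2 (mem_centralizer_singleton_iff.2 rfl) p.1.2) (hcent _)⟩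
    have hh : Function.Injective h := by
      intro p q e
      have e' : (p.1 : G) * f (ι p.2) = q.1 * f (ι q.2) := congrArg Subtype.val e
      have e2 : (q.1 : G)⁻¹ * p.1 = f (ι q.2) * (f (ι p.2))⁻¹ := by
        rw [eq_mul_inv_iff_mul_eq, mul_assoc, e', inv_mul_cancel_left]
      have e3 := B.disjoint _ (e2 ▸ mul_mem (hA' _) (inv_mem (hA' _))) (mul_mem (inv_mem q.1.2) p.1.2)
      refine Prod.ext (Subtype.ext (inv_mul_eq_one.1 e3).symm) (hιinj ?_)
      show f (ι p.2) = f (ι q.2)
      rw [e3, eq_comm, mul_inv_eq_one] at e2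
      exact e2.symm
    have := Nat.card_le_card_of_injective h hh
    rw [Nat.card_prod, Nat.card_zpowers, nat_card_alternatingGroup, Nat.card_fin,
      orderOf_eq_prime (p := 3) (by rw [← map_pow, inBase_cube rotA rotA_eq.2, map_one])
        (fun e => rotA_base.2.1 (F.inj (e.trans (map_one _).symm))),
      show Nat.factorial 6 = 720 from rfl] at this
    omega
  have hlt' := Set.Finite.card_lt_card (Set.toFinite _) hXle
  have hdvd : 1080 < Nat.card f.range := lt_of_le_of_lt hX hlt'
  have hmul := card_mul_index f.ker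
  rw [index_ker, card_E36] at hmul
  have hk : 0 < Nat.card f.ker := Nat.card_pos
  by_contra hne
  have : 2 * Nat.card f.range ≤ Nat.card f.ker * Nat.card f.range := Nat.mul_le_mul_right _ (by omega)
  omega

end Big

end Cfsg.Lib.NineThree
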