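import Cfsg.Agent.Lib.NineThree.Frame
import Cfsg.Agent.Lib.NineThree.Cert.Words
import Cfsg.Agent.Lib.CosetEnum.Perm

/-!
# The letters of the configuration
-/

set_option autoImplicit false
set_option maxRecDepth 100000
set_option synthInstance.maxSize 2000
set_option synthInstance.maxHeartbeats 200000

namespace Cfsg.Lib.NineThree

open Cfsg.Lib.Recog.ThreeCubedFour Cfsg.Lib.CosetEnum

/-- (34)(67) -/
def l0 : Model := ⟨⟨0, 0, 2, 2⟩, rfl⟩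
/-- (45)(67) -/
def l1 : Model := ⟨⟨0, 0, 1, 2⟩, rfl⟩
/-- (34)(78) -/
def l2 : Model := ⟨⟨0, 0, 2, 1⟩, rfl⟩
/-- (01)(34) -/
def l4 : Model := ⟨⟨0, 2, 2, 0⟩, rfl⟩
/-- (01)(36)(47)(58) -/
def l5 : Model := ⟨⟨1, 2, 0, 0⟩, rfl⟩
/-- (12)(34) -/
def l6 : Model := ⟨⟨0, 1, 2, 0⟩, rfl⟩
/-- (03)(14)(25)(67) -/
def l7 : Model := ⟨⟨2, 0, 0, 2⟩, rfl⟩

/-- The letters, without the one outside the model. -/
def lM : ℕ → Model
  | 0 => l0
  | 1 => l1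
  | 2 => l2
  | 4 => l4
  | 5 => l5
  | 6 => l6
  | 7 => l7
  | _ => 1

theorem lM_sq : ∀ g < 8, lM g * lM g = 1 := by decide +kernel

theorem lM_rels : ∀ r ∈ Words.relA ++ [[1, 0, 1, 0, 1, 0], [1, 2, 0, 1, 2, 0], [2, 0, 2, 0, 2, 0]] ++
    Words.relH, wordVal lM r = 1 := by
  decide +kernel

theorem rotA_eq : rotA = l4 * l6 ∧ InBase rotA := by decide +kernel

/-- The element of order four and the relations with it. -/
theorem kappa_facts :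
    l4 * l5 * rotA = rotA * (l4 * l5) ∧ l4 * l5 * (l4 * l5) = l0 ∧
      l4 * l5 * l1 * (l4 * l5)⁻¹ = l2 ∧ l0 * rotA = rotA * l0 ∧ l1 * rotA = rotA * l1 ∧
      l2 * rotA = rotA * l2 ∧ l0 ≠ 1 ∧ l1 ≠ l0 := by
  decide +kernel

/-- The conjugates of the centralised letters by the other three. -/
theorem conj_facts :
    (l4 * rotA * l4 = rotA * rotA ∧ l5 * rotA * l5 = rotA * rotA ∧ l6 * rotA * l6 = rotA * rotA) ∧
      (l4 * l0 * l4 = l0 ∧ l4 * l2 * l4 = l2 ∧ l4 * (l1 * l0) * l4 = l0 * l1) ∧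
      (l5 * l0 * l5 = l0 ∧ l5 * l1 * l5 = l2 ∧ l5 * (l0 * l1) * l5 = l0 * l2) ∧
      (l6 * l0 * l6 = l0 ∧ l6 * l2 * l6 = l2 ∧ l6 * (l1 * l0) * l6 = l0 * l1) := by
  decide +kernel

end Cfsg.Lib.NineThree
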