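import Cfsg.Agent.Lib.NineThree.Perm9
import Cfsg.Agent.Lib.Recog.ThreeCubedFour.Inner

/-!
# The model as the normaliser of its base in the alternating group, and frames
-/

set_option autoImplicit false
set_option linter.unusedSectionVars false
set_option linter.style.haveILetI false
set_option maxRecDepth 100000
set_option maxHeartbeats 2000000
set_option synthInstance.maxSize 2000
set_option synthInstance.maxHeartbeats 200000

namespace Cfsg.Lib.NineThree

open Equiv Subgroup Cfsg.Lib.Recog.ThreeCubedFour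

/-- The six three-cycles in the base. -/
def sixCyc : Fin 6 → Perm (Fin 9) :=
  let a := swap (0 : Fin 9) 1 * swap 1 2
  let b := swap (3 : Fin 9) 4 * swap 4 5
  let c := swap (6 : Fin 9) 7 * swap 7 8
  ![a, a * a, b, b * b, c, c * c]

/-- An odd permutation normalising the base. -/
def oddNorm : Perm (Fin 9) := swap 0 3 * swap 1 4 * swap 2 5

/-- Representatives of the actions on the six three-cycles. -/
def normReps : List (Perm (Fin 9)) :=
  blk24.map (fun m => modelPerm m) ++ blk24.map (fun m => modelPerm m * oddNorm)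

theorem base_three : ∀ m : Model, InBase m → (modelPerm m).support.card = 3 → ∃ i, modelPerm m = sixCyc i := by
  decide +kernel

theorem six_support : ∀ i, (sixCyc i).support.card = 3 := by decide +kernel

theorem six_reps : ∀ i j k : Fin 6, sixCyc i ≠ sixCyc j → sixCyc i ≠ sixCyc j * sixCyc j →
    sixCyc i ≠ sixCyc k → sixCyc i ≠ sixCyc k * sixCyc k →
    sixCyc j ≠ sixCyc k → sixCyc j ≠ sixCyc k * sixCyc k →
    ∃ p ∈ normReps, p * sixCyc 0 * p⁻¹ = sixCyc i ∧ p * sixCyc 2 * p⁻¹ = sixCyc j ∧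
      p * sixCyc 4 * p⁻¹ = sixCyc k := by
  decide +kernel

theorem six_kernel_tab : ∀ x y z : Fin 9, sixCyc 0 x ≠ x → sixCyc 2 y ≠ y → sixCyc 4 z ≠ z →
    ∃ i j k : Fin 3, ∀ w, modelPerm (rotA ^ i.val * rotB ^ j.val * rotC ^ k.val) w =
      ![x, sixCyc 0 x, sixCyc 0 (sixCyc 0 x), y, sixCyc 2 y, sixCyc 2 (sixCyc 2 y),
        z, sixCyc 4 z, sixCyc 4 (sixCyc 4 z)] w := by
  decide +kernel

theorem six_pts : sixCyc 0 0 = 1 ∧ sixCyc 0 1 = 2 ∧ sixCyc 2 3 = 4 ∧ sixCyc 2 4 = 5 ∧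
    sixCyc 4 6 = 7 ∧ sixCyc 4 7 = 8 ∧ Perm.sign oddNorm = -1 ∧
    modelPerm rotA = sixCyc 0 ∧ modelPerm rotB = sixCyc 2 ∧ modelPerm rotC = sixCyc 4 ∧
    InBase rotA ∧ InBase rotB ∧ InBase rotC := by
  decide +kernel

theorem six_kernel {g : Perm (Fin 9)} (ha : g * sixCyc 0 = sixCyc 0 * g) (hb : g * sixCyc 2 = sixCyc 2 * g)
    (hc : g * sixCyc 4 = sixCyc 4 * g) : g ∈ modelPerm.range := by
  obtain ⟨a0', a1, b3, b4, c6, c7, -⟩ := six_pts
  have e : ∀ {s : Perm (Fin 9)}, g * s = s * g → ∀ x, g (s x) = s (g x) :=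
    fun h x => congrArg (fun p : Perm (Fin 9) => p x) h
  have hm : ∀ {s : Perm (Fin 9)}, g * s = s * g → ∀ x, s x ≠ x → s (g x) ≠ g x :=
    fun h x hx he => hx (g.injective ((e h x).trans he))
  obtain ⟨i, j, k, h⟩ := six_kernel_tab (g 0) (g 3) (g 6) (hm ha 0 (by decide +kernel))
    (hm hb 3 (by decide +kernel)) (hm hc 6 (by decide +kernel))
  refine ⟨_, Equiv.ext fun w => (h w).trans ?_⟩
  fin_cases w
  · rfl
  · show sixCyc 0 (g 0) = g 1
    rw [← e ha, a0']
  · show sixCyc 0 (sixCyc 0 (g 0)) = g 2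
    rw [← e ha, ← e ha, a0', a1]
  · rfl
  · show sixCyc 2 (g 3) = g 4
    rw [← e hb, b3]
  · show sixCyc 2 (sixCyc 2 (g 3)) = g 5
    rw [← e hb, ← e hb, b3, b4]
  · rfl
  · show sixCyc 4 (g 6) = g 7
    rw [← e hc, c6]
  · show sixCyc 4 (sixCyc 4 (g 6)) = g 8
    rw [← e hc, ← e hc, c6, c7]

theorem base_closure : closure ({swap (0 : Fin 9) 1 * swap 1 2, swap (3 : Fin 9) 4 * swap 4 5,
    swap (6 : Fin 9) 7 * swap 7 8} : Set (Perm (Fin 9))) = baseSub.map modelPerm := by
  obtain ⟨eA, eB, eC, -⟩ := modelPerm_gens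
  rw [← eA, ← eB, ← eC]
  refine le_antisymm ((closure_le _).2 ?_) ?_
  · rintro y hy
    simp only [Set.mem_insert_iff, Set.mem_singleton_iff] at hy
    rcases hy with rfl | rfl | rfl <;> exact mem_map_of_mem _ (mem_baseSub.2 (by decide +kernel))
  · rintro _ ⟨x, hx, rfl⟩
    obtain ⟨i, j, k, rfl⟩ := (inBase_iff x).1 hx
    rw [map_mul, map_mul, map_pow, map_pow, map_pow]
    exact mul_mem (mul_mem (pow_mem (subset_closure (by simp)) _) (pow_mem (subset_closure (by simp)) _))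
      (pow_mem (subset_closure (by simp)) _)

/-- The model is the normaliser of its base in the alternating group. -/
theorem range_model_norm :
    alternatingGroup (Fin 9) ⊓ normalizer ((baseSub.map modelPerm : Subgroup (Perm (Fin 9))) : Set (Perm (Fin 9))) =
      modelPerm.range := by
  refine le_antisymm ?_ ?_
  · rintro g ⟨hgA, hgN⟩
    obtain ⟨-, -, -, -, -, -, hodd, eA, eB, eC, hA, hB, hC⟩ := six_pts
    have him : ∀ m : Model, InBase m → (modelPerm m).support.card = 3 → ∃ i, g * modelPerm m * g⁻¹ = sixCyc i := by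
      intro m hm h3
      obtain ⟨n, hn, e⟩ := (mem_normalizer_iff.1 hgN _).1 (mem_map_of_mem modelPerm (mem_baseSub.2 hm))
      rw [← e]
      exact base_three n (mem_baseSub.1 hn) (by rw [e, Perm.support_conj, Finset.card_map, h3])
    obtain ⟨i, hi⟩ := him rotA hA (by rw [eA]; exact six_support 0)
    obtain ⟨j, hj⟩ := him rotB hB (by rw [eB]; exact six_support 2)
    obtain ⟨k, hk⟩ := him rotC hC (by rw [eC]; exact six_support 4)
    rw [eA] at hi; rw [eB] at hj; rw [eC] at hk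
    have hne : ∀ {s t : Perm (Fin 9)}, s ≠ t → g * s * g⁻¹ ≠ g * t * g⁻¹ :=
      fun h e => h (mul_left_cancel (mul_right_cancel e))
    have hne2 : ∀ {s t : Perm (Fin 9)}, s ≠ t * t → g * s * g⁻¹ ≠ g * t * g⁻¹ * (g * t * g⁻¹) :=
      fun {s t} h e => h (mul_left_cancel (mul_right_cancel (e.trans (show g * t * g⁻¹ * (g * t * g⁻¹) = g * (t * t) * g⁻¹ by group))))
    have d : sixCyc 0 ≠ sixCyc 2 ∧ sixCyc 0 ≠ sixCyc 2 * sixCyc 2 ∧ sixCyc 0 ≠ sixCyc 4 ∧
        sixCyc 0 ≠ sixCyc 4 * sixCyc 4 ∧ sixCyc 2 ≠ sixCyc 4 ∧ sixCyc 2 ≠ sixCyc 4 * sixCyc 4 := by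
      decide +kernel
    obtain ⟨p, hp, h1, h2, h3⟩ := six_reps i j k (hi ▸ hj ▸ hne d.1) (hi ▸ hj ▸ hne2 d.2.1)
      (hi ▸ hk ▸ hne d.2.2.1) (hi ▸ hk ▸ hne2 d.2.2.2.1) (hj ▸ hk ▸ hne d.2.2.2.2.1) (hj ▸ hk ▸ hne2 d.2.2.2.2.2)
    have hker : p⁻¹ * g ∈ modelPerm.range := by
      have key : ∀ s t : Perm (Fin 9), g * s * g⁻¹ = t → p * s * p⁻¹ = t → p⁻¹ * g * s = s * (p⁻¹ * g) := by
        intro s t e1 e2
        calc p⁻¹ * g * s = p⁻¹ * (g * s * g⁻¹) * g := by group
          _ = p⁻¹ * (p * s * p⁻¹) * g := by rw [e1, e2]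
          _ = s * (p⁻¹ * g) := by group
      exact six_kernel (key _ _ hi h1) (key _ _ hj h2) (key _ _ hk h3)
    simp only [normReps, List.mem_append, List.mem_map] at hp
    rcases hp with ⟨m, -, rfl⟩ | ⟨m, -, rfl⟩
    · obtain ⟨n, hn⟩ := hker
      exact ⟨m * n, by rw [map_mul, hn, mul_inv_cancel_left]⟩
    · exfalso
      obtain ⟨n, hn⟩ := hker
      have hs := Perm.mem_alternatingGroup.1 hgA
      rw [show g = modelPerm m * oddNorm * modelPerm n by rw [hn, mul_inv_cancel_left], map_mul, map_mul,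
        Perm.mem_alternatingGroup.1 (modelPerm_even m), Perm.mem_alternatingGroup.1 (modelPerm_even n), hodd] at hs
      exact absurd hs (by decide)
  · rintro _ ⟨m, rfl⟩
    refine ⟨modelPerm_even m, mem_normalizer_iff.2 fun s => ?_⟩
    haveI := baseSub_normal
    have key : ∀ (m : Model) (s : Perm (Fin 9)), s ∈ baseSub.map modelPerm →
        modelPerm m * s * (modelPerm m)⁻¹ ∈ baseSub.map modelPerm := by
      rintro m _ ⟨n, hn, rfl⟩
      exact ⟨m * n * m⁻¹, baseSub_normal.conj_mem n hn m, by rw [map_mul, map_mul, map_inv]⟩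
    refine ⟨key m s, fun h => ?_⟩
    have := key m⁻¹ _ h
    rwa [map_inv, inv_inv, show (modelPerm m)⁻¹ * (modelPerm m * s * (modelPerm m)⁻¹) * modelPerm m = s by group] at this

universe u

/-- The frame attached to the normaliser of an elementary group of order twenty-seven. -/
theorem exists_frame {G : Type u} [Group G] [Finite G] (J H : Subgroup G) (hJcard : Nat.card J = 27)
    (hH : H = normalizer (J : Set G)) (J₀ : Subgroup (Perm (Fin 9)))
    (hJ₀ : J₀ = Subgroup.closure {swap (0 : Fin 9) 1 * swap 1 2, swap (3 : Fin 9) 4 * swap 4 5, swap (6 : Fin 9) 7 * swap 7 8})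
    (eH : H ≃* ↥(alternatingGroup (Fin 9) ⊓ normalizer (J₀ : Set (Perm (Fin 9)))))
    (hcores : ∀ x ∈ H, orderOf x = 3 → Cfsg.pPrimeCore 3 (centralizer ({x} : Set G)) = ⊥) :
    ∃ F : Frame G, F.φ.range = H := by
  classical
  rw [base_closure] at hJ₀
  subst hJ₀
  let e : H ≃* Model := eH.trans ((MulEquiv.subgroupCongr range_model_norm).trans
    (MonoidHom.ofInjective modelPerm_injective).symm)
  let φ : Model →* G := H.subtype.comp e.symm.toMonoidHom
  have hinj : Function.Injective φ := H.subtype_injective.comp e.symm.injective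
  have hrange : φ.range = H := by
    ext g
    exact ⟨by rintro ⟨m, rfl⟩; exact (e.symm m).2,
      fun hg => ⟨e ⟨g, hg⟩, by show ((e.symm (e ⟨g, hg⟩) : H) : G) = g; rw [e.symm_apply_apply]⟩⟩
  have hJH : J ≤ H := hH ▸ le_normalizer
  -- the base
  let X : Subgroup Model := J.comap φ
  have hXmap : X.map φ = J := map_comap_eq_self (hrange.symm ▸ hJH)
  have hXcard : Nat.card X = 27 := by
    rw [← hJcard, ← hXmap, Subgroup.card_map_of_injective hinj]
  have hXn : X.Normal := ⟨fun x hx m => by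
    show φ (m * x * m⁻¹) ∈ J
    rw [map_mul, map_mul, map_inv]
    have hm : φ m ∈ normalizer (J : Set G) := hH ▸ (e.symm m).2
    exact (mem_normalizer_iff.1 hm _).1 hx⟩
  have hX : X = baseSub := by
    have hle : X ≤ baseSub := pCore_model ▸ Cfsg.Lib.Core.le_pCore' hXn (IsPGroup.of_card (n := 3) (by rw [hXcard]; norm_num))
    refine eq_of_le_of_card_ge hle ?_
    rw [hXcard, card_baseSub]
  rw [hX] at hXmap
  refine ⟨⟨φ, hinj, ?_, ?_⟩, hrange⟩
  · intro g hg
    rw [hrange, hH, ← hXmap]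
    refine mem_normalizer_fintype (fun s hs => ?_)
    obtain ⟨x, hx, rfl⟩ := hs
    exact hg x (mem_baseSub.1 hx)
  · intro x hx hx1
    refine hcores _ (e.symm x).2 (orderOf_eq_prime (hp := ⟨Nat.prime_three⟩) ?_ ?_)
    · rw [← map_pow, inBase_cube x hx, map_one]
    · exact fun h => hx1 (hinj (h.trans (map_one _).symm))

end Cfsg.Lib.NineThree
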