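import Mathlib

/-!
# Configurations of involutions in the alternating group of degree six
-/

set_option autoImplicit false
set_option maxRecDepth 100000
set_option synthInstance.maxSize 2000

namespace Cfsg.Lib.NineThree.Six

open Equiv

universe u

/-- The conditions on an involution `v` completing `p0, p1, p2`. -/
def RelV {H : Type u} [Monoid H] (p0 p1 p2 v : H) : Prop :=
  v * v = 1 ∧ v * p2 = p2 * v ∧ (v * p0) * (v * p0) * (v * p0) = 1 ∧
    (p0 * p1 * v) * (p0 * p1 * v) * (p0 * p1 * v) = 1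

/-- The conditions on an involution after conjugating by an element fixing `p0`, `p2`. -/
def RelE {H : Type u} [Monoid H] (p0 p1 p2 v : H) : Prop :=
  v * v = 1 ∧ v * p2 = p2 * v ∧ (v * p0) * (v * p0) * (v * p0) = 1 ∧
    (p1 * p0 * v) * (p1 * p0 * v) * (p1 * p0 * v) = 1

/-- The hypotheses on an element of order four and an involution. -/
def Pre {H : Type u} [Group H] (k p1 : H) : Prop :=
  p1 * p1 = 1 ∧ p1 ≠ k * k ∧ (p1 * (k * k)) * (p1 * (k * k)) * (p1 * (k * k)) = 1 ∧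
    (k * p1 * k⁻¹ * (k * k)) * (k * p1 * k⁻¹ * (k * k)) * (k * p1 * k⁻¹ * (k * k)) = 1 ∧
    (p1 * (k * p1 * k⁻¹) * (k * k)) * (p1 * (k * p1 * k⁻¹) * (k * k)) = 1

theorem relV_map {H K : Type*} [Monoid H] [Monoid K] {f : H →* K} (hf : Function.Injective f)
    {p0 p1 p2 v : H} : RelV (f p0) (f p1) (f p2) (f v) ↔ RelV p0 p1 p2 v := by
  simp only [RelV, ← map_mul, map_eq_one_iff f hf, hf.eq_iff]

theorem relE_map {H K : Type*} [Monoid H] [Monoid K] {f : H →* K} (hf : Function.Injective f)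
    {p0 p1 p2 v : H} : RelE (f p0) (f p1) (f p2) (f v) ↔ RelE p0 p1 p2 v := by
  simp only [RelE, ← map_mul, map_eq_one_iff f hf, hf.eq_iff]

theorem pre_map {H K : Type*} [Group H] [Group K] {f : H →* K} (hf : Function.Injective f)
    {k p1 : H} : Pre (f k) (f p1) ↔ Pre k p1 := by
  simp only [Pre, ← map_mul, ← map_inv, map_eq_one_iff f hf, hf.ne_iff]

/-- The involutions. -/
def invols : List (Perm (Fin 6)) := [
  swap 0 1 * swap 2 3, swap 0 1 * swap 2 4, swap 0 1 * swap 2 5,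
  swap 0 1 * swap 3 4, swap 0 1 * swap 3 5, swap 0 1 * swap 4 5,
  swap 0 2 * swap 1 3, swap 0 2 * swap 1 4, swap 0 2 * swap 1 5,
  swap 0 2 * swap 3 4, swap 0 2 * swap 3 5, swap 0 2 * swap 4 5,
  swap 0 3 * swap 1 2, swap 0 3 * swap 1 4, swap 0 3 * swap 1 5,
  swap 0 3 * swap 2 4, swap 0 3 * swap 2 5, swap 0 3 * swap 4 5,
  swap 0 4 * swap 1 2, swap 0 4 * swap 1 3, swap 0 4 * swap 1 5,
  swap 0 4 * swap 2 3, swap 0 4 * swap 2 5, swap 0 4 * swap 3 5,
  swap 0 5 * swap 1 2, swap 0 5 * swap 1 3, swap 0 5 * swap 1 4,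
  swap 0 5 * swap 2 3, swap 0 5 * swap 2 4, swap 0 5 * swap 3 4,
  swap 1 2 * swap 3 4, swap 1 2 * swap 3 5, swap 1 2 * swap 4 5,
  swap 1 3 * swap 2 4, swap 1 3 * swap 2 5, swap 1 3 * swap 4 5,
  swap 1 4 * swap 2 3, swap 1 4 * swap 2 5, swap 1 4 * swap 3 5,
  swap 1 5 * swap 2 3, swap 1 5 * swap 2 4, swap 1 5 * swap 3 4,
  swap 2 3 * swap 4 5, swap 2 4 * swap 3 5, swap 2 5 * swap 3 4]

theorem mem_invols : ∀ p : Perm (Fin 6), Perm.sign p = 1 → p * p = 1 → p = 1 ∨ p ∈ invols := by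
  decide +kernel

/-- The standard element of order four. -/
def k0 : Perm (Fin 6) := swap 0 4 * swap 0 1 * swap 0 3 * swap 2 5

theorem conj_k0 : ∀ k : Perm (Fin 6), Perm.sign k = 1 → k * k ≠ 1 → k * k * (k * k) = 1 →
    ∃ g : Perm (Fin 6), g * k * g⁻¹ = k0 := by
  decide +kernel

instance relVDec (p0 p1 p2 v : Perm (Fin 6)) : Decidable (RelV p0 p1 p2 v) :=
  inferInstanceAs (Decidable (_ ∧ _ ∧ _ ∧ _))

instance relEDec (p0 p1 p2 v : Perm (Fin 6)) : Decidable (RelE p0 p1 p2 v) :=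
  inferInstanceAs (Decidable (_ ∧ _ ∧ _ ∧ _))

instance preDec (k p1 : Perm (Fin 6)) : Decidable (Pre k p1) :=
  inferInstanceAs (Decidable (_ ∧ _ ∧ _ ∧ _ ∧ _))

theorem std_check : ∀ p1 ∈ invols, Pre k0 p1 → ∃ v ∈ invols,
    RelV (k0 * k0) p1 (k0 * p1 * k0⁻¹) v ∧
    k0 = v * p1 * (k0 * p1 * k0⁻¹) * v * (k0 * k0) * p1 * (k0 * k0) * v ∧
    ∀ u ∈ invols, (RelE (k0 * k0) p1 (k0 * p1 * k0⁻¹) u → u = v) ∧
      (RelV (k0 * k0) (k0 * p1 * k0⁻¹) p1 u →
        u = p1 * (k0 * p1 * k0⁻¹) * p1 * v * p1 * (k0 * p1 * k0⁻¹)) := by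
  decide +kernel

theorem exists_unique {k p1 : Perm (Fin 6)} (hk : Perm.sign k = 1) (hk2 : k * k ≠ 1)
    (hk4 : k * k * (k * k) = 1) (hp1 : Perm.sign p1 = 1) (h : Pre k p1) :
    ∃ v : Perm (Fin 6), Perm.sign v = 1 ∧ RelV (k * k) p1 (k * p1 * k⁻¹) v ∧
      k = v * p1 * (k * p1 * k⁻¹) * v * (k * k) * p1 * (k * k) * v ∧
      ∀ u : Perm (Fin 6), Perm.sign u = 1 → (RelE (k * k) p1 (k * p1 * k⁻¹) u → u = v) ∧
        (RelV (k * k) (k * p1 * k⁻¹) p1 u → u = p1 * (k * p1 * k⁻¹) * p1 * v * p1 * (k * p1 * k⁻¹)) := by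
  obtain ⟨g, hg⟩ := conj_k0 k hk hk2 hk4
  set c : Perm (Fin 6) ≃* Perm (Fin 6) := MulAut.conj g with hc
  have hck : c k = k0 := hg
  have hsign : ∀ x : Perm (Fin 6), Perm.sign (c x) = Perm.sign x := fun x => by
    rw [hc, MulAut.conj_apply, map_mul, map_mul, map_inv, mul_comm, inv_mul_cancel_left]
  obtain ⟨h1, h2, h3, h4, h5⟩ := h
  have hne : p1 ≠ 1 := by
    rintro rfl
    rw [one_mul, mul_eq_one_iff_eq_inv.2 (mul_eq_one_iff_eq_inv.1 hk4), one_mul] at h3
    exact hk2 h3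
  have hmem : c p1 ∈ invols :=
    (mem_invols _ (by rw [hsign, hp1]) (by rw [← map_mul, h1, map_one])).resolve_left
      fun e => hne (c.injective (by rw [e, map_one]))
  have hci : Function.Injective c.toMonoidHom := c.injective
  have hpre : Pre k0 (c p1) := by
    rw [← hck]
    exact (pre_map hci).2 ⟨h1, h2, h3, h4, h5⟩
  obtain ⟨v, hv, hrel, hword, huniq⟩ := std_check (c p1) hmem hpre
  have hveven : ∀ x ∈ invols, Perm.sign x = 1 := by decide +kernel
  have e0 : k0 * k0 = c (k * k) := by rw [map_mul, hck]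
  have e2 : k0 * c p1 * k0⁻¹ = c (k * p1 * k⁻¹) := by rw [map_mul, map_mul, map_inv, hck]
  obtain ⟨v, rfl⟩ := c.surjective v
  rw [e0, e2] at hrel hword huniq
  refine ⟨v, ?_, (relV_map hci).1 hrel, c.injective ?_, ?_⟩
  · rw [← hsign]; exact hveven _ hv
  · simp only [map_mul, hck] at hword ⊢
    exact hword
  · intro u hu
    have hu' : (u = 1 → False) → u * u = 1 → c u ∈ invols := fun h0 h1 =>
      (mem_invols _ (by rw [hsign, hu]) (by rw [← map_mul, h1, map_one])).resolve_left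
        fun e => h0 (c.injective (by rw [e, map_one]))
    have hk3 : k * k * (k * k) * (k * k) ≠ 1 := by rw [hk4, one_mul]; exact hk2
    constructor
    · intro hE
      have hm := hu' (fun e => hk3 (by have := hE.2.2.1; rwa [e, one_mul] at this)) hE.1
      exact c.injective ((huniq _ hm).1 ((relE_map hci).2 hE))
    · intro hV
      have hm := hu' (fun e => hk3 (by have := hV.2.2.1; rwa [e, one_mul] at this)) hV.1
      refine c.injective (((huniq _ hm).2 ((relV_map hci).2 hV)).trans ?_)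
      simp only [map_mul]

end Cfsg.Lib.NineThree.Six
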