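import Cfsg.Agent.Lib.NineThree.CentA
import Cfsg.Agent.Lib.NineThree.Letters
import Cfsg.Agent.Lib.NineThree.Six
import Cfsg.Agent.Lib.NineThree.Graph
import Cfsg.Agent.Lib.NineThree.Cert.One

/-!
# The normaliser of a three-cycle with centraliser three times the alternating group of degree six
-/

set_option autoImplicit false
set_option linter.unusedSectionVars false
set_option linter.style.haveILetI false
set_option maxHeartbeats 1000000
set_option synthInstance.maxSize 2000
set_option synthInstance.maxHeartbeats 200000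

namespace Cfsg.Lib.NineThree

open Cfsg.Lib.Recog.ThreeCubedFour Cfsg.Lib.CosetEnum Subgroup Equiv

universe u

/-- A letter completing those of the model. -/
structure Letter {G : Type u} [Group G] (F : Frame G) where
  /-- the letter -/
  v : G
  /-- all letters -/
  x : ℕ → G
  x_eq : ∀ g, x g = if g = 3 then v else F.φ (lM g)
  sq : ∀ g, x g * x g = 1
  rels : ∀ r ∈ Words.relN ++ Words.relH, wordVal x r = 1
  cent : v * F.φ rotA = F.φ rotA * v

namespace Big

variable {G : Type u} [Group G] [Finite G] {F : Frame G}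

/-- An element of two-power order dividing four in the centraliser lies in the complement. -/
theorem mem_L (B : Big F) {y : G} (hy : y ∈ centralizer ({F.φ rotA} : Set G)) (h4 : y ^ 4 = 1) : y ∈ B.L := by
  obtain ⟨z, hz, l, hl, rfl⟩ := B.decomp y hy
  have hc : Commute z l := by
    obtain ⟨i, rfl⟩ := hz
    exact ((show Commute (F.φ rotA) l from
      (mem_centralizer_singleton_iff.1 (B.L_le hl)).symm).zpow_left i)
  rw [hc.mul_pow, mul_eq_one_iff_eq_inv] at h4
  have h1 : z ^ 4 = 1 := B.disjoint _ (h4 ▸ inv_mem (pow_mem hl 4)) (pow_mem hz 4)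
  have h3 : z ^ 3 = 1 := by
    obtain ⟨i, rfl⟩ := hz
    rw [← zpow_natCast, ← zpow_mul, mul_comm, zpow_mul, zpow_natCast, ← map_pow,
      inBase_cube rotA rotA_eq.2, map_one, one_zpow]
  rw [pow_succ, h3, one_mul] at h1
  rwa [h1, one_mul]

/-- The complement as a group with an injection into the symmetric group. -/
theorem sign_θ (B : Big F) (l : B.L) : Perm.sign (B.θ l) = 1 := by
  rw [← Perm.mem_alternatingGroup, ← B.θ_range]
  exact ⟨l, rfl⟩

theorem conj_mem_cent {e : Model} (he : e * rotA * e = rotA * rotA) (he2 : e * e = 1) {y : G}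
    (hy : y ∈ centralizer ({F.φ rotA} : Set G)) :
    F.φ e * y * F.φ e ∈ centralizer ({F.φ rotA} : Set G) := by
  rw [mem_centralizer_singleton_iff] at hy ⊢
  have e1 : F.φ e * F.φ e = 1 := by rw [← map_mul, he2, map_one]
  have ei : (F.φ e)⁻¹ = F.φ e := inv_eq_of_mul_eq_one_right e1
  have h2 : Commute y (F.φ (rotA * rotA)) := by
    rw [map_mul]
    exact Commute.mul_right hy hy
  have h3 : F.φ rotA = F.φ e * F.φ (rotA * rotA) * F.φ e := by
    rw [← map_mul, ← map_mul, ← he]
    congr 1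
    rw [← mul_assoc, ← mul_assoc, he2, one_mul, mul_assoc, he2, mul_one]
  calc F.φ e * y * F.φ e * F.φ rotA = F.φ e * (y * F.φ (rotA * rotA)) * F.φ e := by
        rw [h3]
        simp only [mul_assoc]
        rw [← mul_assoc (F.φ e) (F.φ e), e1, one_mul]
    _ = F.φ e * (F.φ (rotA * rotA) * y) * F.φ e := by rw [h2.eq]
    _ = _ := by
        rw [h3]
        simp only [mul_assoc]
        rw [← mul_assoc (F.φ e) (F.φ e), e1, one_mul]

/-- The letter exists. -/
theorem exists_letter (B : Big F) : Nonempty (Letter F) := by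
  obtain ⟨hκa, hκ2, hκ1, h0a, h1a, h2a, h01, h10⟩ := kappa_facts
  obtain ⟨⟨i4, i5, i6⟩, ⟨c40, c42, c41⟩, ⟨c50, c51, c52⟩, ⟨c60, c62, c61⟩⟩ := conj_facts
  have hsq := lM_sq
  have hk4 : (l4 * l5) ^ 4 = 1 := by
    rw [show (4 : ℕ) = 2 * 2 from rfl, pow_mul, pow_two (l4 * l5), hκ2, pow_two]
    exact hsq 0 (by norm_num)
  have four : ∀ {m : Model}, m * m = 1 → m ^ 4 = 1 := fun h => by
    rw [show (4 : ℕ) = 2 * 2 from rfl, pow_mul, pow_two, pow_two, h, one_mul]
  have inL : ∀ {m : Model}, m * rotA = rotA * m → m ^ 4 = 1 → F.φ m ∈ B.L := fun {m} hm h4 =>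
    B.mem_L (F.mem_cent.2 hm) (by rw [← map_pow, h4, map_one])
  set k : B.L := ⟨F.φ (l4 * l5), inL hκa hk4⟩ with hk
  set p0 : B.L := ⟨F.φ l0, inL h0a (four (hsq 0 (by norm_num)))⟩ with hp0
  set p1 : B.L := ⟨F.φ l1, inL h1a (four (hsq 1 (by norm_num)))⟩ with hp1
  set p2 : B.L := ⟨F.φ l2, inL h2a (four (hsq 2 (by norm_num)))⟩ with hp2
  have e0 : k * k = p0 := Subtype.ext (by
    show F.φ (l4 * l5) * F.φ (l4 * l5) = F.φ l0
    rw [← map_mul, hκ2])
  have e2 : k * p1 * k⁻¹ = p2 := Subtype.ext (by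
    show F.φ (l4 * l5) * F.φ l1 * (F.φ (l4 * l5))⁻¹ = F.φ l2
    rw [← map_inv, ← map_mul, ← map_mul, hκ1])
  have hne : k * k ≠ 1 := fun e => h01 (F.inj (by
    have := congrArg Subtype.val (e0 ▸ e : p0 = 1)
    rw [map_one]; exact this))
  have r : ∀ m ∈ [[1, 0, 1, 0, 1, 0], [1, 2, 0, 1, 2, 0], [2, 0, 2, 0, 2, 0]], wordVal lM m = 1 :=
    fun m hm => lM_rels m (by simp only [List.mem_append]; exact Or.inl (Or.inr hm))
  have hm3 : ∀ {a b : Model}, a * b * a * b * a * b = 1 → b * a * (b * a) * (b * a) = 1 := by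
    intro a b h
    rw [show b * a * (b * a) * (b * a) = a⁻¹ * (a * b * a * b * a * b) * a by group, h]; group
  have hpre : Six.Pre k p1 := by
    refine ⟨?_, ?_, ?_, ?_, ?_⟩
    · exact Subtype.ext (by
        show F.φ l1 * F.φ l1 = 1
        rw [← map_mul, ← map_one F.φ]; exact congrArg F.φ (hsq 1 (by norm_num)))
    · rw [e0]; exact fun e => h10 (F.inj (congrArg Subtype.val e))
    · rw [e0]; refine Subtype.ext ?_
      show F.φ l1 * F.φ l0 * (F.φ l1 * F.φ l0) * (F.φ l1 * F.φ l0) = 1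
      have := r [1, 0, 1, 0, 1, 0] (by simp)
      simp only [wordVal, gen, eps, lM, one_mul, show (1 : ℕ) ≠ 31 from by decide,
        show (0 : ℕ) ≠ 31 from by decide, if_false] at this
      rw [← map_mul, ← map_mul, ← map_mul, hm3 this, map_one]
    · rw [e0, e2]; refine Subtype.ext ?_
      show F.φ l2 * F.φ l0 * (F.φ l2 * F.φ l0) * (F.φ l2 * F.φ l0) = 1
      have := r [2, 0, 2, 0, 2, 0] (by simp)
      simp only [wordVal, gen, eps, lM, one_mul, show (2 : ℕ) ≠ 31 from by decide,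
        show (0 : ℕ) ≠ 31 from by decide, if_false] at this
      rw [← map_mul, ← map_mul, ← map_mul, hm3 this, map_one]
    · rw [e0, e2]; refine Subtype.ext ?_
      show F.φ l1 * F.φ l2 * F.φ l0 * (F.φ l1 * F.φ l2 * F.φ l0) = 1
      have : l1 * l2 * l0 * (l1 * l2 * l0) = 1 := by decide +kernel
      rw [← map_mul, ← map_mul, ← map_mul, this, map_one]
  have hinj := B.θ_inj
  obtain ⟨w, hw, hrel, hword, huniq⟩ := Six.exists_unique (k := B.θ k) (p1 := B.θ p1) (B.sign_θ k)
    (by rw [← map_mul, ← map_one B.θ]; exact hinj.ne hne)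
    (by
      rw [← map_mul, ← map_mul, e0, ← map_one B.θ]
      congr 1
      exact Subtype.ext (by
        show F.φ l0 * F.φ l0 = 1
        rw [← map_mul, ← map_one F.φ]; exact congrArg F.φ (hsq 0 (by norm_num))))
    (B.sign_θ p1) ((Six.pre_map hinj).2 hpre)
  obtain ⟨v, rfl⟩ : w ∈ B.θ.range := B.θ_range ▸ Perm.mem_alternatingGroup.2 hw
  simp only [← map_mul, ← map_inv, e0, e2] at hrel hword huniq
  have hrelv := (Six.relV_map hinj).1 hrel
  have hwordv := congrArg Subtype.val (hinj hword)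
  have uniq : ∀ y : G, y ∈ centralizer ({F.φ rotA} : Set G) → y * y = 1 →
      (Six.RelE (p0 : G) p1 p2 y → y = v) ∧
        (Six.RelV (p0 : G) p2 p1 y → y = p1 * p2 * p1 * v * p1 * p2) := by
    intro y hy hy2
    have hyL : y ∈ B.L := B.mem_L hy (by rw [show (4 : ℕ) = 2 * 2 from rfl, pow_mul, pow_two y, hy2, one_pow])
    obtain ⟨u1, u2⟩ := huniq (B.θ ⟨y, hyL⟩) (B.sign_θ _)
    constructor
    · intro h
      exact congrArg Subtype.val (hinj (u1 ((Six.relE_map hinj).2
        ((Six.relE_map (f := B.L.subtype) B.L.subtype_injective).1 h))))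
    · intro h
      exact congrArg Subtype.val (hinj (u2 ((Six.relV_map hinj).2
        ((Six.relV_map (f := B.L.subtype) B.L.subtype_injective).1 h))))
  obtain ⟨v1, v2, v3, v4⟩ := (Six.relV_map (f := B.L.subtype) B.L.subtype_injective).2 hrelv
  change (v : G) * v = 1 at v1
  change (v : G) * F.φ l2 = F.φ l2 * v at v2
  change (v : G) * F.φ l0 * ((v : G) * F.φ l0) * ((v : G) * F.φ l0) = 1 at v3
  change F.φ l0 * F.φ l1 * v * (F.φ l0 * F.φ l1 * v) * (F.φ l0 * F.φ l1 * v) = 1 at v4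
  change F.φ (l4 * l5) = (v : G) * F.φ l1 * F.φ l2 * v * F.φ l0 * F.φ l1 * F.φ l0 * v at hwordv
  have hva : (v : G) ∈ centralizer ({F.φ rotA} : Set G) := B.L_le v.2
  have v4' : (F.φ l1 * F.φ l0 * v) * (F.φ l1 * F.φ l0 * v) * (F.φ l1 * F.φ l0 * (v : G)) = 1 := by
    have i0 : (F.φ l0)⁻¹ = F.φ l0 := inv_eq_of_mul_eq_one_right (by rw [← map_mul, ← map_one F.φ]; exact congrArg F.φ (hsq 0 (by norm_num)))
    have i1 : (F.φ l1)⁻¹ = F.φ l1 := inv_eq_of_mul_eq_one_right (by rw [← map_mul, ← map_one F.φ]; exact congrArg F.φ (hsq 1 (by norm_num)))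
    have iv : (v : G)⁻¹ = v := inv_eq_of_mul_eq_one_right v1
    have h := congrArg (fun y => (v : G) * y⁻¹ * (v : G)⁻¹) v4
    simp only [mul_inv_rev, i0, i1, iv, inv_one, mul_one, v1] at h
    simp only [mul_assoc, ← mul_assoc (v : G) v, v1, one_mul] at h ⊢
    simpa [mul_assoc, v1] using h
  -- conjugation
  have conjE : ∀ e : Model, e * e = 1 → e * rotA * e = rotA * rotA → e * l0 * e = l0 →
      e * l2 * e = l2 → e * (l1 * l0) * e = l0 * l1 → F.φ e * v * F.φ e = v := by
    intro e he ha f0 f2 f1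
    set c : G ≃* G := MulAut.conj (F.φ e) with hc
    have hce : ∀ y, c y = F.φ e * y * F.φ e := fun y => by
      rw [hc, MulAut.conj_apply, inv_eq_of_mul_eq_one_right (show F.φ e * F.φ e = 1 by rw [← map_mul, he, map_one])]
    have m0 : c (F.φ l0) = F.φ l0 := by rw [hce, ← map_mul, ← map_mul, f0]
    have m2 : c (F.φ l2) = F.φ l2 := by rw [hce, ← map_mul, ← map_mul, f2]
    have m10 : c (F.φ l1) * c (F.φ l0) = F.φ l0 * F.φ l1 := by
      rw [← map_mul c, hce, ← map_mul, ← map_mul, ← map_mul, f1, map_mul]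
    rw [← hce]
    refine (uniq _ (hce _ ▸ conj_mem_cent ha he hva) (by rw [← map_mul, v1, map_one])).1 ⟨?_, ?_, ?_, ?_⟩
    · rw [← map_mul, v1, map_one]
    · show c v * F.φ l2 = F.φ l2 * c v
      rw [← m2, ← map_mul, ← map_mul, v2]
    · show c v * F.φ l0 * (c v * F.φ l0) * (c v * F.φ l0) = 1
      rw [← m0, ← map_mul, ← map_mul, ← map_mul, v3, map_one]
    · show F.φ l1 * F.φ l0 * c v * (F.φ l1 * F.φ l0 * c v) * (F.φ l1 * F.φ l0 * c v) = 1
      have m01 : c (F.φ l0 * F.φ l1) = F.φ l1 * F.φ l0 := by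
        rw [← m10, ← map_mul c, hce, hce]
        simp only [mul_assoc, ← mul_assoc (F.φ e) (F.φ e), ← map_mul F.φ e e, he, map_one, one_mul, mul_one]
      rw [← m01, ← map_mul, ← map_mul, ← map_mul, v4, map_one]
  have h4e := conjE l4 (hsq 4 (by norm_num)) i4 c40 c42 c41
  have h6e := conjE l6 (hsq 6 (by norm_num)) i6 c60 c62 c61
  have h5e : F.φ l5 * v * F.φ l5 = F.φ l1 * F.φ l2 * F.φ l1 * v * F.φ l1 * F.φ l2 := by
    set c : G ≃* G := MulAut.conj (F.φ l5) with hc
    have he : l5 * l5 = 1 := hsq 5 (by norm_num)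
    have hce : ∀ y, c y = F.φ l5 * y * F.φ l5 := fun y => by
      rw [hc, MulAut.conj_apply, inv_eq_of_mul_eq_one_right (show F.φ l5 * F.φ l5 = 1 by rw [← map_mul, he, map_one])]
    have m0 : c (F.φ l0) = F.φ l0 := by rw [hce, ← map_mul, ← map_mul, c50]
    have m1 : c (F.φ l2) = F.φ l1 := by
      rw [hce, ← map_mul, ← map_mul, ← c51]
      congr 1
    have m01 : c (F.φ l0 * F.φ l1) = F.φ l0 * F.φ l2 := by
      rw [hce, ← map_mul, ← map_mul, ← map_mul, c52, map_mul]
    rw [← hce]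
    refine (uniq _ (hce _ ▸ conj_mem_cent i5 he hva) (by rw [← map_mul, v1, map_one])).2 ⟨?_, ?_, ?_, ?_⟩
    · rw [← map_mul, v1, map_one]
    · show c v * F.φ l1 = F.φ l1 * c v
      rw [← m1, ← map_mul, ← map_mul, v2]
    · show c v * F.φ l0 * (c v * F.φ l0) * (c v * F.φ l0) = 1
      rw [← m0, ← map_mul, ← map_mul, ← map_mul, v3, map_one]
    · show F.φ l0 * F.φ l2 * c v * (F.φ l0 * F.φ l2 * c v) * (F.φ l0 * F.φ l2 * c v) = 1
      rw [← m01, ← map_mul, ← map_mul, ← map_mul, v4, map_one]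
  let x : ℕ → G := fun g => if g = 3 then (v : G) else F.φ (lM g)
  have hxsq : ∀ g, x g * x g = 1 := by
    intro g
    by_cases h : g = 3
    · simpa [x, h] using v1
    · simp only [x, h, if_false]
      rw [← map_mul, ← map_one F.φ]
      refine congrArg F.φ ?_
      by_cases h8 : g < 8
      · exact hsq g h8
      · unfold lM; split <;> first | omega | exact one_mul 1
  refine ⟨⟨v, x, fun _ => rfl, hxsq, ?_, mem_centralizer_singleton_iff.1 hva⟩⟩
  have hnoV : ∀ w : List ℕ, (∀ g ∈ w, g ≠ 3) → wordVal x w = F.φ (wordVal lM w) := by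
    intro w hw
    induction w with
    | nil => exact (map_one F.φ).symm
    | cons g w ih =>
      rw [wordVal, wordVal, map_mul, ih fun a ha => hw a (by simp [ha])]
      congr 1
      unfold gen
      split
      · exact (map_one F.φ).symm
      · simp [x, hw g (by simp)]
  have viaM : ∀ r ∈ Words.relA ++ [[1, 0, 1, 0, 1, 0], [1, 2, 0, 1, 2, 0], [2, 0, 2, 0, 2, 0]] ++ Words.relH,
      wordVal x r = 1 := by
    intro r hr
    have h3 : ∀ r ∈ Words.relA ++ [[1, 0, 1, 0, 1, 0], [1, 2, 0, 1, 2, 0], [2, 0, 2, 0, 2, 0]] ++ Words.relH,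
        ∀ g ∈ r, g ≠ 3 := by decide +kernel
    rw [hnoV r (h3 r hr), lM_rels r hr, map_one]
  have iv : (v : G)⁻¹ = v := inv_eq_of_mul_eq_one_right v1
  have inv' : ∀ g, (x g)⁻¹ = x g := fun g => inv_eq_of_mul_eq_one_right (hxsq g)
  have vv : ∀ y : G, (v : G) * ((v : G) * y) = y := fun y => by rw [← mul_assoc, v1, one_mul]
  intro r hr
  simp only [Words.relN, List.mem_append] at hr
  rcases hr with (((hr | hr) | hr) | hr) | hr
  · exact viaM r (by simp only [List.mem_append]; exact Or.inl (Or.inl hr))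
  · simp only [Words.relL, List.mem_cons, List.not_mem_nil, or_false] at hr
    rcases hr with rfl | rfl | rfl | rfl | rfl | rfl
    · show 1 * x 2 * x 3 * x 2 * x 3 = 1
      show 1 * F.φ l2 * v * F.φ l2 * v = 1
      rw [one_mul, mul_assoc (F.φ l2 * (v : G)), ← v2, mul_assoc, ← mul_assoc (F.φ l2), ← v2, ← mul_assoc, ← mul_assoc,
        v1, one_mul, ← map_mul, ← map_one F.φ]
      exact congrArg F.φ (hsq 2 (by norm_num))
    · exact viaM _ (by simp)
    · exact viaM _ (by simp)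
    · exact viaM _ (by simp)
    · show 1 * F.φ l0 * v * F.φ l0 * v * F.φ l0 * v = 1
      have := congrArg (fun y => (v : G)⁻¹ * y * v) v3
      simpa [mul_assoc, iv, v1, vv] using this
    · show 1 * v * F.φ l1 * F.φ l0 * v * F.φ l1 * F.φ l0 * v * F.φ l1 * F.φ l0 = 1
      have := congrArg (fun y => (v : G) * y * (v : G)⁻¹) v4'
      simpa [mul_assoc, iv, v1, vv] using this
  · simp only [Words.relC, List.mem_cons, List.not_mem_nil, or_false] at hr
    rcases hr with rfl | rfl | rfl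
    · show 1 * v * F.φ l4 * v * F.φ l4 = 1
      rw [one_mul, mul_assoc, mul_assoc, ← mul_assoc (F.φ l4), h4e, v1]
    · show 1 * F.φ l1 * F.φ l2 * F.φ l1 * v * F.φ l1 * F.φ l2 * F.φ l5 * v * F.φ l5 = 1
      have : (F.φ l5 * v * F.φ l5) * (F.φ l5 * v * F.φ l5) = 1 := by
        have e5 : F.φ l5 * F.φ l5 = 1 := by rw [← map_mul, ← map_one F.φ]; exact congrArg F.φ (hsq 5 (by norm_num))
        simp only [mul_assoc]
        rw [← mul_assoc (F.φ l5) (F.φ l5), e5, one_mul, ← mul_assoc (v : G), v1, one_mul, e5]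
      nth_rewrite 1 [h5e] at this
      simpa [mul_assoc] using this
    · show 1 * v * F.φ l6 * v * F.φ l6 = 1
      rw [one_mul, mul_assoc, mul_assoc, ← mul_assoc (F.φ l6), h6e, v1]
  · simp only [Words.relK, List.mem_cons, List.not_mem_nil, or_false] at hr
    subst hr
    show 1 * v * F.φ l1 * F.φ l2 * v * F.φ l0 * F.φ l1 * F.φ l0 * v * F.φ l5 * F.φ l4 = 1
    rw [one_mul, ← hwordv, ← map_mul, ← map_mul, ← map_one F.φ]
    refine congrArg F.φ ?_
    rw [mul_assoc l4 l5 l5, show l5 * l5 = 1 from hsq 5 (by norm_num), mul_one]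
    exact hsq 4 (by norm_num)
  · exact viaM r (by simp only [List.mem_append]; exact Or.inr hr)

end Big

end Cfsg.Lib.NineThree
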