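import Cfsg.Agent.Lib.NineThree.Letters
import Cfsg.Agent.Lib.NineThree.Perm36

/-!
# The letters as permutations of nine points
-/

set_option autoImplicit false
set_option maxRecDepth 100000
set_option maxHeartbeats 4000000
set_option synthInstance.maxSize 2000
set_option synthInstance.maxHeartbeats 200000

namespace Cfsg.Lib.NineThree

open Cfsg.Lib.Recog.ThreeCubedFour Cfsg.Lib.CosetEnum Equiv

/-- The alternating group of degree nine. -/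
abbrev A9 : Subgroup (Perm (Fin 9)) := alternatingGroup (Fin 9)

/-- Permutations of three and of six points as permutations of nine. -/
def j9 : P36 →* Perm (Fin 9) :=
  (finSumFinEquiv (m := 3) (n := 6)).permCongrHom.toMonoidHom.comp (Perm.sumCongrHom (Fin 3) (Fin 6))

/-- The letters. -/
def x9 (g : ℕ) : Perm (Fin 9) := if g = 3 then swap 3 4 * swap 5 6 else modelPerm (lM g)

theorem x9_facts : (∀ g < 7, j9 (x36 g) = x9 g) ∧ (∀ g < 8, x9 g * x9 g = 1 ∧ Perm.sign (x9 g) = 1) := by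
  decide +kernel

theorem x9_rels : ∀ r ∈ Words.relN ++ Words.relH ++ [Words.crossNine], wordVal x9 r = 1 := by decide +kernel

/-- Words for the images of the first three points. -/
def reps84 : List (List ℕ) := [[], [7], [7, 3], [7, 5], [7, 3, 0], [7, 3, 1], [7, 3, 5], [7, 3, 7], [7, 5, 3], [7, 3, 0, 1], [7, 3, 0, 2], [7, 3, 0, 5], [7, 3, 0, 7], [7, 3, 1, 0], [7, 3, 1, 2], [7, 3, 1, 4], [7, 3, 1, 5], [7, 3, 1, 7], [7, 3, 5, 7], [7, 3, 7, 2], [7, 3, 7, 5], [7, 3, 7, 6], [7, 5, 3, 0], [7, 5, 3, 7], [7, 3, 0, 1, 5], [7, 3, 0, 2, 1], [7, 3, 0, 2, 5], [7, 3, 0, 5, 7], [7, 3, 0, 7, 3], [7, 3, 0, 7, 5], [7, 3, 1, 0, 5], [7, 3, 1, 0, 7], [7, 3, 1, 2, 7], [7, 3, 1, 4, 5], [7, 3, 1, 4, 7], [7, 3, 1, 5, 7], [7, 3, 1, 7, 3], [7, 3, 1, 7, 5], [7, 3, 5, 7, 2], [7, 3, 5, 7, 3], [7, 3, 5, 7, 5], [7, 3, 7, 2, 6], [7, 3, 7, 5, 6], [7, 3, 7, 6, 5], [7, 5, 3, 0, 7], [7, 5, 3, 7, 2], [7, 5, 3, 7,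 3], [7, 5, 3, 7, 5], [7, 5, 3, 7, 6], [7, 3, 0, 1, 5, 7], [7, 3, 0, 5, 7, 3], [7, 3, 0, 5, 7, 5], [7, 3, 0, 7, 3, 7], [7, 3, 0, 7, 5, 6], [7, 3, 1, 4, 7, 3], [7, 3, 1, 5, 7, 5], [7, 3, 5, 7, 2, 3], [7, 3, 5, 7, 2, 5], [7, 3, 5, 7, 3, 0], [7, 3, 5, 7, 3, 1], [7, 3, 5, 7, 3, 5], [7, 3, 5, 7, 3, 7], [7, 3, 7, 5, 6, 7], [7, 3, 7, 6, 5, 7], [7, 5, 3, 0, 7, 5], [7, 5, 3, 7, 2, 3], [7, 5, 3, 7, 3, 1], [7, 5, 3, 7, 3, 6], [7, 5, 3, 7, 5, 3], [7, 3, 0, 5, 7, 3, 0], [7, 3, 0, 5, 7, 3, 1], [7, 3, 0, 5, 7, 3, 5], [7, 3, 1, 5, 7, 5, 3], [7, 3, 5, 7, 2, 3, 7], [7, 3, 5, 7, 3, 0, 1], [7, 3, 5, 7, 3, 0, 5], [7, 3, 5, 7, 3, 0, 7], [7, 3, 5, 7, 3, 1, 0], [7, 3, 5, 7, 3, 1, 4], [7, 3, 5, 7, 3, 1, 5], [7, 3, 5, 7, 3, 5, 4], [7, 3, 5, 7, 3, 7, 0], [7, 5, 3, 7, 2, 3, 0], [7, 3, 0, 5, 7, 3, 0, 1]]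

/-- The set of images of the first three points, as a number. -/
def code9 (s : Perm (Fin 9)) : ℕ := 2 ^ (s 0).val + 2 ^ (s 1).val + 2 ^ (s 2).val

theorem reps84_ok : reps84.length = 84 ∧ (reps84.map fun w => code9 (wordVal x9 w)).Nodup ∧
    ∀ w ∈ reps84, ∀ g ∈ w, g < 8 := by
  decide +kernel

theorem code9_j9 (s : Perm (Fin 9)) (m : P36) : code9 (s * j9 m) = code9 s := by
  have h : ∀ p : Perm (Fin 3), ∀ q : Perm (Fin 6), ∀ i : Fin 3,
      j9 (p, q) (finSumFinEquiv (m := 3) (n := 6) (Sum.inl i)) = finSumFinEquiv (m := 3) (n := 6) (Sum.inl (p i)) := by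
    intro p q i
    simp [j9, Equiv.permCongrHom, Equiv.permCongr_apply]
  have e : ∀ i : Fin 3, (s * j9 m) (finSumFinEquiv (m := 3) (n := 6) (Sum.inl i)) = s (finSumFinEquiv (m := 3) (n := 6) (Sum.inl (m.1 i))) :=
    fun i => by rw [Perm.mul_apply, h]
  have key : ∀ f : Fin 9 → ℕ, ∀ p : Perm (Fin 3),
      f (finSumFinEquiv (m := 3) (n := 6) (Sum.inl (p 0))) + f (finSumFinEquiv (m := 3) (n := 6) (Sum.inl (p 1))) +
        f (finSumFinEquiv (m := 3) (n := 6) (Sum.inl (p 2))) = f 0 + f 1 + f 2 := by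
    intro f p
    have hp : ∀ p : Perm (Fin 3), (p 0 = 0 ∧ p 1 = 1 ∧ p 2 = 2) ∨ (p 0 = 0 ∧ p 1 = 2 ∧ p 2 = 1) ∨
        (p 0 = 1 ∧ p 1 = 0 ∧ p 2 = 2) ∨ (p 0 = 1 ∧ p 1 = 2 ∧ p 2 = 0) ∨ (p 0 = 2 ∧ p 1 = 0 ∧ p 2 = 1) ∨
        (p 0 = 2 ∧ p 1 = 1 ∧ p 2 = 0) := by decide +kernel
    have e0 : finSumFinEquiv (m := 3) (n := 6) (Sum.inl 0) = (0 : Fin 9) := rfl
    have e1 : finSumFinEquiv (m := 3) (n := 6) (Sum.inl 1) = (1 : Fin 9) := rfl
    have e2 : finSumFinEquiv (m := 3) (n := 6) (Sum.inl 2) = (2 : Fin 9) := rfl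
    rcases hp p with ⟨a, b, c⟩ | ⟨a, b, c⟩ | ⟨a, b, c⟩ | ⟨a, b, c⟩ | ⟨a, b, c⟩ | ⟨a, b, c⟩ <;>
      rw [a, b, c, e0, e1, e2] <;> omega
  show 2 ^ ((s * j9 m) (finSumFinEquiv (m := 3) (n := 6) (Sum.inl (0 : Fin 3)))).val +
    2 ^ ((s * j9 m) (finSumFinEquiv (m := 3) (n := 6) (Sum.inl (1 : Fin 3)))).val +
    2 ^ ((s * j9 m) (finSumFinEquiv (m := 3) (n := 6) (Sum.inl (2 : Fin 3)))).val = _
  rw [e, e, e]
  exact key (fun i => 2 ^ (s i).val) m.1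

theorem j9_injective : Function.Injective j9 :=
  (finSumFinEquiv (m := 3) (n := 6)).permCongrHom.injective.comp Perm.sumCongrHom_injective

/-- Words for the block part of the model. -/
def blk24 : List Model :=
  [1, l5, l7, l5 * l7, l7 * l5, l5 * l7 * l5].flatMap fun p => [1, l4, l0, l4 * l0].map fun q => p * q

theorem model_decomp : ∀ x : Model, ∃ p ∈ blk24, InBase (x * p) := by decide +kernel

/-- The model is generated by the letters. -/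
theorem model_closure : Subgroup.closure (lM '' {g | g < 8}) = ⊤ := by
  set T := Subgroup.closure (lM '' {g | g < 8})
  have h : ∀ g < 8, lM g ∈ T := fun g hg => Subgroup.subset_closure ⟨g, hg, rfl⟩
  have h0 := h 0 (by norm_num)
  have h4 := h 4 (by norm_num)
  have h5 := h 5 (by norm_num)
  have h7 := h 7 (by norm_num)
  have hp : ∀ p ∈ blk24, p ∈ T := by
    intro p hp
    simp only [blk24, List.mem_flatMap, List.mem_map, List.mem_cons, List.not_mem_nil, or_false] at hp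
    obtain ⟨q, hq, r, hr, rfl⟩ := hp
    refine mul_mem ?_ ?_
    · rcases hq with rfl | rfl | rfl | rfl | rfl | rfl
      exacts [one_mem _, h5, h7, mul_mem h5 h7, mul_mem h7 h5, mul_mem (mul_mem h5 h7) h5]
    · rcases hr with rfl | rfl | rfl | rfl
      exacts [one_mem _, h4, h0, mul_mem h4 h0]
  have hrot : rotA = lM 4 * lM 6 ∧ rotB = lM 0 * lM 1 ∧ rotC = lM 0 * lM 2 := by decide +kernel
  have hA : rotA ∈ T := hrot.1 ▸ mul_mem h4 (h 6 (by norm_num))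
  have hB : rotB ∈ T := hrot.2.1 ▸ mul_mem h0 (h 1 (by norm_num))
  have hC : rotC ∈ T := hrot.2.2 ▸ mul_mem h0 (h 2 (by norm_num))
  rw [eq_top_iff]
  intro x _
  obtain ⟨p, hpm, hb⟩ := model_decomp x
  obtain ⟨i, j, k, e⟩ := (inBase_iff _).1 hb
  rw [eq_mul_inv_of_mul_eq e]
  exact mul_mem (mul_mem (mul_mem (pow_mem hA _) (pow_mem hB _)) (pow_mem hC _)) (inv_mem (hp p hpm))

theorem modelPerm_even : ∀ m : Model, modelPerm m ∈ A9 := by
  intro m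
  have h : Subgroup.closure (lM '' {g | g < 8}) ≤ A9.comap modelPerm := by
    rw [Subgroup.closure_le]
    rintro _ ⟨g, hg, rfl⟩
    refine Subgroup.mem_comap.2 (Equiv.Perm.mem_alternatingGroup.2 ?_)
    have := (x9_facts.2 g hg).2
    by_cases h3 : g = 3
    · subst h3
      rw [show lM 3 = 1 from rfl, map_one, map_one]
    · rwa [x9, if_neg h3] at this
  exact h (model_closure.ge (Subgroup.mem_top m))

/-- The model inside the alternating group. -/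
def m9 : Model →* A9 := modelPerm.codRestrict A9 modelPerm_even

theorem j9_even (m : E36) : j9 m ∈ A9 := by
  have h : Subgroup.closure (x36 '' {g | g ∈ [0, 1, 2, 3, 4, 5, 6]}) ≤ A9.comap j9 := by
    rw [Subgroup.closure_le]
    rintro _ ⟨g, hg, rfl⟩
    have hg' : g < 7 := by
      simp only [Set.mem_ofPred_eq, List.mem_cons, List.not_mem_nil, or_false] at hg; omega
    refine Subgroup.mem_comap.2 (Equiv.Perm.mem_alternatingGroup.2 ?_)
    rw [x9_facts.1 g hg']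
    exact (x9_facts.2 g (by omega)).2
  exact h (closure_x36.ge m.2)

/-- The even part inside the alternating group. -/
def e9 : E36 →* A9 := (j9.comp E36.subtype).codRestrict A9 fun m => j9_even m

end Cfsg.Lib.NineThree
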