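import Cfsg.Agent.Lib.NineThree.SixCase
import Cfsg.Agent.Lib.NineThree.FourSmall
import Cfsg.Agent.Lib.NineThree.Perm9
import Cfsg.Agent.Lib.NineThree.Cert.Nine

/-!
# The homomorphism from the alternating group of degree nine
-/

set_option autoImplicit false
set_option linter.unusedSectionVars false
set_option linter.style.haveILetI false
set_option maxHeartbeats 1000000
set_option maxRecDepth 100000
set_option synthInstance.maxSize 2000
set_option synthInstance.maxHeartbeats 200000

namespace Cfsg.Lib.NineThree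

open Cfsg.Lib.Recog.ThreeCubedFour Cfsg.Lib.CosetEnum Subgroup

universe u

/-- An embedded alternating group of degree nine extending the known local subgroups. -/
structure NineEmb {G : Type u} [Group G] (F : Frame G) where
  /-- the normaliser of the three-cycle -/
  Z : NOne F
  /-- the embedding -/
  ψ : A9 →* G
  inj : Function.Injective ψ
  on_e : ∀ m : E36, ψ (e9 m) = Z.φ₁ m
  on_m : ∀ m : Model, ψ (m9 m) = F.φ m

namespace NOne

variable {G : Type u} [Group G] [Finite G] {F : Frame G}

/-- The embedding exists. -/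
theorem exists_nineEmb (Z : NOne F) : Nonempty (NineEmb F) := by
  classical
  have hcross := (Z.cross).resolve_right Z.not_crossSix
  let M := Equiv.Perm (Fin 9) × G
  let z : ℕ → M := fun g => if g < 8 then (x9 g, Z.lt.x g) else 1
  have hz : ∀ g, z g * z g = 1 := fun g => by
    by_cases h : g < 8
    · simp only [z, if_pos h]
      exact Prod.ext (x9_facts.2 g h).1 (Z.lt.sq g)
    · simp only [z, if_neg h, one_mul]
  have hzw : ∀ r : List ℕ, (∀ g ∈ r, g < 8) → wordVal z r = (wordVal x9 r, wordVal Z.lt.x r) := by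
    intro r hr
    induction r with
    | nil => rfl
    | cons g r ih =>
      rw [wordVal, wordVal, wordVal, ih fun a ha => hr a (by simp [ha])]
      have hg : g < 8 := hr g (by simp)
      simp only [gen, z, if_neg (show g ≠ eps from fun e => by rw [e] at hg; exact absurd hg (by decide)), if_pos hg]
      rfl
  have hlt : ∀ r ∈ Words.relN ++ Words.relH ++ [Words.crossNine], ∀ g ∈ r, g < 8 := by decide +kernel
  have hR : ∀ r ∈ Words.relN ++ Words.relH ++ [Words.crossNine] ++ [[]], wordVal z r = 1 := by
    intro r hr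
    rcases List.mem_append.1 hr with hr | hr
    · rw [hzw r (hlt r hr), x9_rels r hr]
      rcases List.mem_append.1 hr with hr | hr
      · rw [Z.lt.rels r hr]; rfl
      · rw [List.mem_singleton.1 hr, hcross]; rfl
    · rw [List.mem_singleton.1 hr]; rfl
  have hR1 : ∀ r ∈ Words.relN ++ [[]], wordVal z r = 1 := fun r hr => hR r (by
    rcases List.mem_append.1 hr with hr | hr
    · exact List.mem_append_left _ (List.mem_append_left _ (List.mem_append_left _ hr))
    · exact List.mem_append_right _ hr)
  obtain ⟨hfin1, hle1⟩ := (One.step_valid (R0 := Words.relN ++ [[]]) (by decide +kernel)).card_le hz hR1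
    (K := ⊥) (by simp [One.step]) inferInstance (m := 1) (by rw [card_bot])
  set K1 := closure (z '' {g | g ∈ One.step.S})
  have hU : ∀ u ∈ Nine.step.U, wordVal z u ∈ K1 := by
    intro u hu
    have hsmall : ∀ g < 7, z g ∈ K1 := fun g hg => subset_closure ⟨g, by
      simp only [One.step, Set.mem_ofPred_eq, List.mem_cons, List.not_mem_nil, or_false]; omega, rfl⟩
    simp only [Nine.step, List.mem_cons, List.not_mem_nil, or_false] at hu
    rcases hu with rfl | rfl | rfl | rfl | rfl | rfl | rfl <;>
      (simp only [wordVal, gen, eps, one_mul]; norm_num; exact hsmall _ (by norm_num))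
  obtain ⟨hfin, hle⟩ := (Nine.step_valid (R0 := Words.relN ++ Words.relH ++ [Words.crossNine] ++ [[]])
    (by decide +kernel)).card_le hz hR hU hfin1 (m := 2160) (by simpa [One.step] using hle1)
  set D := closure (z '' {g | g ∈ Nine.step.S})
  haveI := hfin
  have hS : ∀ g, g ∈ Nine.step.S ↔ g < 8 := fun g => by
    simp only [Nine.step, List.mem_cons, List.not_mem_nil, or_false]; omega
  have hzg : ∀ g < 8, z g = (x9 g, Z.lt.x g) := fun g hg => by simp only [z, if_pos hg]
  have hmem : ∀ g < 8, z g ∈ D := fun g hg => subset_closure ⟨g, (hS g).2 hg, rfl⟩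
  set T := D.map (MonoidHom.fst (Equiv.Perm (Fin 9)) G)
  have hx9 : ∀ g < 8, x9 g ∈ T := fun g hg => ⟨z g, hmem g hg, by rw [hzg g hg]; rfl⟩
  have hTle : T ≤ A9 := by
    rw [Subgroup.map_le_iff_le_comap, closure_le]
    rintro _ ⟨g, hg, rfl⟩
    rw [hzg g ((hS g).1 hg)]
    exact Equiv.Perm.mem_alternatingGroup.2 (x9_facts.2 g ((hS g).1 hg)).2
  have hjT : ∀ m : E36, j9 m ∈ T := by
    intro m
    have h : closure (x36 '' {g | g ∈ [0, 1, 2, 3, 4, 5, 6]}) ≤ T.comap j9 := by
      rw [closure_le]
      rintro _ ⟨g, hg, rfl⟩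
      have hg' : g < 7 := by
        simp only [Set.mem_ofPred_eq, List.mem_cons, List.not_mem_nil, or_false] at hg; omega
      show j9 (x36 g) ∈ T
      rw [x9_facts.1 g hg']
      exact hx9 g (by omega)
    exact h (closure_x36.ge m.2)
  have hword : ∀ w : List ℕ, (∀ g ∈ w, g < 8) → wordVal x9 w ∈ T := by
    intro w
    induction w with
    | nil => exact fun _ => one_mem _
    | cons g w ih =>
      intro hw
      refine mul_mem (ih fun a ha => hw a (by simp [ha])) ?_
      unfold gen
      split
      · exact one_mem _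
      · exact hx9 g (hw g (by simp))
  have hA9 : Nat.card A9 = 181440 := by
    rw [nat_card_alternatingGroup, Nat.card_fin]
    rfl
  have hcardT : 181440 ≤ Nat.card T := by
    obtain ⟨hlen, hnd, hletters⟩ := reps84_ok
    let f : Fin reps84.length × E36 → T := fun p =>
      ⟨wordVal x9 (reps84.get p.1) * j9 p.2, mul_mem (hword _ (hletters _ (List.get_mem _ _))) (hjT p.2)⟩
    have hf : Function.Injective f := by
      rintro ⟨i, m⟩ ⟨i', m'⟩ e
      have e' : wordVal x9 (reps84.get i) * j9 m = wordVal x9 (reps84.get i') * j9 m' := congrArg Subtype.val e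
      have hc : code9 (wordVal x9 (reps84.get i)) = code9 (wordVal x9 (reps84.get i')) := by
        rw [← code9_j9 _ m, e', code9_j9]
      have hii : i = i' := by
        have h := List.nodup_iff_injective_get.1 hnd
        have := @h ⟨i.1, by simp⟩ ⟨i'.1, by simp⟩ (by simpa using hc)
        exact Fin.ext (by simpa using this)
      subst hii
      exact Prod.ext rfl (Subtype.ext (j9_injective (mul_left_cancel e')))
    have := Nat.card_le_card_of_injective f hf
    rw [Nat.card_prod, Nat.card_fin, hlen, card_E36] at this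
    exact this
  have hT : T = A9 := eq_of_le_of_card_ge hTle (by omega)
  obtain ⟨ψ, hψ⟩ := exists_hom_of_graph (show D.map (MonoidHom.fst (Equiv.Perm (Fin 9)) G) = A9 from hT) (by
    refine hle.trans ?_
    rw [hA9]
    exact le_of_eq rfl)
  have hgen : ∀ g < 8, ∀ h : x9 g ∈ A9, ψ ⟨x9 g, h⟩ = Z.lt.x g := fun g hg h => by
    have h1 := hzg g hg
    have := hψ (z g) (hmem g hg) (by rw [h1]; exact h)
    rw [show (⟨(z g).1, by rw [h1]; exact h⟩ : A9) = ⟨x9 g, h⟩ from Subtype.ext (show (z g).1 = x9 g by rw [h1])] at this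
    rw [this, h1]
  have honE : ψ.comp e9 = Z.φ₁ := by
    refine MonoidHom.eq_of_eqOn_dense closure_e36 ?_
    rintro _ ⟨g, hg, rfl⟩
    have hg' : g < 7 := by
      simp only [Set.mem_ofPred_eq, List.mem_cons, List.not_mem_nil, or_false] at hg; omega
    show ψ (e9 (e36 g)) = _
    have h9 : x9 g ∈ A9 := Equiv.Perm.mem_alternatingGroup.2 (x9_facts.2 g (by omega)).2
    rw [show e9 (e36 g) = ⟨x9 g, h9⟩ from Subtype.ext (x9_facts.1 g hg'), hgen g (by omega), Z.gens g hg']
  have honM : ψ.comp m9 = F.φ := by
    refine MonoidHom.eq_of_eqOn_dense model_closure ?_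
    rintro _ ⟨g, hg, rfl⟩
    show ψ (m9 (lM g)) = _
    by_cases h3 : g = 3
    · subst h3
      rw [show lM 3 = 1 from rfl, map_one, map_one, map_one]
    · have h9 : x9 g ∈ A9 := Equiv.Perm.mem_alternatingGroup.2 (x9_facts.2 g hg).2
      rw [show m9 (lM g) = ⟨x9 g, h9⟩ from Subtype.ext (show modelPerm (lM g) = x9 g by simp [x9, h3]), hgen g hg, Z.lt.x_eq,
        if_neg h3]
  refine ⟨⟨Z, ψ, ?_, fun m => DFunLike.congr_fun honE m, fun m => DFunLike.congr_fun honM m⟩⟩
  haveI : IsSimpleGroup (alternatingGroup (Fin 9)) := alternatingGroup.isSimpleGroup (by simp)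
  rcases ψ.normal_ker.eq_bot_or_eq_top with h | h
  · exact (MonoidHom.ker_eq_bot_iff _).1 h
  · exfalso
    have h1 : ψ (m9 rotA) = 1 := MonoidHom.mem_ker.1 (h ▸ mem_top _)
    rw [show ψ (m9 rotA) = F.φ rotA from DFunLike.congr_fun honM rotA] at h1
    exact rotA_base.2.1 (F.inj (h1.trans (map_one _).symm))

end NOne

end Cfsg.Lib.NineThree
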