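import Cfsg.Agent.Lib.NineThree.FourSetup
import Cfsg.Agent.Lib.NineThree.CentC
import Cfsg.Agent.Lib.NineThree.Cert.Six

/-!
# The relation of the exceptional configuration does not hold
-/

set_option autoImplicit false
set_option linter.unusedSectionVars false
set_option linter.style.haveILetI false
set_option maxHeartbeats 1000000
set_option maxRecDepth 100000
set_option synthInstance.maxSize 2000
set_option synthInstance.maxHeartbeats 200000

namespace Cfsg.Lib.NineThree

open Cfsg.Lib.Recog.ThreeCubedFour Cfsg.Lib.CosetEnum Subgroup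

universe u

/-- The word of an element normalising the subgroup of order 27. -/
def wSix : List ℕ := [0, 3, 0, 1, 7, 3, 5, 7, 5, 3, 0, 7, 3, 5, 7, 3, 7]

/-- The words of the three-cycles. -/
def aSix : List (List ℕ) := [[4, 6], [7, 4, 6, 7], [5, 7, 4, 6, 7, 5]]

/-- The three relations. -/
def rSix : List (List ℕ) :=
  [wSix ++ [4, 6] ++ wSix.reverse ++ [4, 6], wSix ++ [7, 4, 6, 7] ++ wSix.reverse ++ [7, 4, 6, 7].reverse,
    wSix ++ [5, 7, 4, 6, 7, 5] ++ wSix.reverse ++ [5, 7, 4, 6, 7, 5].reverse]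

/-- The words carrying the base point to five points with trivial common stabiliser. -/
def fiveSix : List (List ℕ) := [[], [7], [7, 5], [7, 3], [7, 3, 7]]

theorem six_walks : ∀ r ∈ rSix, ∀ p ∈ fiveSix,
    ((p ++ r ++ p.reverse).all fun g => Six.step.S.contains g) = true ∧
      twalk Six.step.P Six.step.k (p ++ r ++ p.reverse) 0 = 0 := by
  decide +kernel

theorem six_model : l7 * rotA * l7 = rotB ∧ l5 * rotB * l5 = rotC ∧ l6 * l4 = rotA * rotA ∧
    rotA * rotB * rotC = cC ∧ (∀ g ∈ [0, 1, 2], lM g * rotA = rotA * lM g) ∧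
    l6 * l4 * rotA = rotA * (l6 * l4) ∧
    (∀ m : Model, m * rotA = rotA * m → m * rotB = rotB * m → m * rotC = rotC * m → InBase m) := by
  decide +kernel

theorem six_no_inverter : ∀ m : Model, m * rotA * m⁻¹ = rotA * rotA → m * rotB = rotB * m →
    m * rotC = rotC * m → False := by
  decide +kernel

theorem six_base : ∀ j k : Fin 3,
    (c36.2 ^ j.val * (Equiv.swap 3 4 * Equiv.swap 4 5 : Equiv.Perm (Fin 6)) ^ k.val) * (v36.2 * c36.2 * v36.2) =
      (v36.2 * c36.2 * v36.2) * (c36.2 ^ j.val * (Equiv.swap 3 4 * Equiv.swap 4 5 : Equiv.Perm (Fin 6)) ^ k.val) →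
    c36.2 ^ j.val * (Equiv.swap 3 4 * Equiv.swap 4 5 : Equiv.Perm (Fin 6)) ^ k.val = 1 := by
  decide +kernel

namespace NOne

variable {G : Type u} [Group G] [Finite G] {F : Frame G} (Z : NOne F)

/-- The relation of the exceptional configuration is impossible. -/
theorem not_crossSix : wordVal Z.lt.x Words.crossSix ≠ 1 := by
  intro hcross
  set x := Z.lt.x with hxdef
  have hxM : ∀ g, g ≠ 3 → x g = F.φ (lM g) := fun g hg => by rw [hxdef, Z.lt.x_eq, if_neg hg]
  obtain ⟨hfa, h5b, h64, hcC, hlow, h64a, hJ⟩ := six_model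
  set a := F.φ rotA
  set y := F.φ rotB
  set z := F.φ rotC
  set X := centralizer ({a} : Set G)
  have hR : ∀ r ∈ Words.relN ++ Words.relH ++ [Words.crossSix] ++ [[]], wordVal x r = 1 := by
    intro r hr
    simp only [List.mem_append, List.mem_singleton] at hr
    rcases hr with ((hr | hr) | rfl) | rfl
    · exact Z.lt.rels r (List.mem_append_left _ hr)
    · exact Z.lt.rels r (List.mem_append_right _ hr)
    · exact hcross
    · rfl
  have hvalid := Six.step_valid (R0 := Words.relN ++ Words.relH ++ [Words.crossSix] ++ [[]]) (by decide +kernel)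
  have hsq := Z.lt.sq
  have hU : ∀ u ∈ Six.step.U, wordVal x u ∈ X := by
    intro u hu
    rw [mem_centralizer_singleton_iff]
    simp only [Six.step, List.mem_cons, List.not_mem_nil, or_false] at hu
    rcases hu with rfl | rfl | rfl | rfl | rfl <;> simp only [wordVal, gen, eps, one_mul] <;> norm_num
    · rw [hxM 0 (by norm_num), ← map_mul, ← map_mul, hlow 0 (by simp)]
    · rw [hxM 1 (by norm_num), ← map_mul, ← map_mul, hlow 1 (by simp)]
    · rw [hxM 2 (by norm_num), ← map_mul, ← map_mul, hlow 2 (by simp)]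
    · rw [hxdef, Z.lt.x_eq, if_pos rfl]; exact Z.lt.cent
    · rw [hxM 6 (by norm_num), hxM 4 (by norm_num), ← map_mul, ← map_mul, ← map_mul]
      exact congrArg _ h64a
  -- each relation centralises five conjugates of the three-cycle
  have hfive : ∀ r ∈ rSix, ∀ p ∈ fiveSix,
      wordVal x r * (wordVal x p * a * (wordVal x p)⁻¹) = wordVal x p * a * (wordVal x p)⁻¹ * wordVal x r := by
    intro r hr p hp
    obtain ⟨hall, hfix⟩ := six_walks r hr p hp
    have h := mem_of_twalk hvalid hsq hR hU hall hfix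
    rw [wordVal_append, wordVal_append, wordVal_reverse hsq, mem_centralizer_singleton_iff] at h
    calc wordVal x r * (wordVal x p * a * (wordVal x p)⁻¹)
        = wordVal x p * ((wordVal x p)⁻¹ * (wordVal x r * wordVal x p) * a) * (wordVal x p)⁻¹ := by group
      _ = wordVal x p * (a * ((wordVal x p)⁻¹ * (wordVal x r * wordVal x p))) * (wordVal x p)⁻¹ := by rw [h]
      _ = _ := by group
  have hf := f_sq (F := F)
  have hfi : (F.φ l7)⁻¹ = F.φ l7 := inv_eq_of_mul_eq_one_right hf
  have x7 : x 7 = F.φ l7 := hxM 7 (by norm_num)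
  have x5 : x 5 = F.φ l5 := hxM 5 (by norm_num)
  have x3 : x 3 = Z.φ₁ eV := by rw [Z.map_V, hxdef, Z.lt.x_eq, if_pos rfl]
  have eB : F.φ l7 * a * F.φ l7 = y := by rw [← map_mul, ← map_mul, hfa]
  have eA' : F.φ l7 * y * F.φ l7 = a := by rw [← map_mul, ← map_mul, f_facts.2.2.2.1]
  have hi : ∀ g, (x g)⁻¹ = x g := fun g => inv_eq_of_mul_eq_one_right (hsq g)
  have hone : ∀ r ∈ rSix, wordVal x r = 1 := by
    intro r hr
    set R := wordVal x r
    have c1 : R * a = a * R := by
      have := hfive r hr [] (by simp [fiveSix])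
      simpa [wordVal] using this
    have c2 : R * y = y * R := by
      have := hfive r hr [7] (by simp [fiveSix])
      simp only [wordVal, gen, eps, one_mul, show (7 : ℕ) ≠ 31 by decide, if_false, hi] at this
      rwa [x7, eB] at this
    have c3 : R * z = z * R := by
      have := hfive r hr [7, 5] (by simp [fiveSix])
      simp only [wordVal, gen, eps, one_mul, show (7 : ℕ) ≠ 31 by decide, show (5 : ℕ) ≠ 31 by decide, if_false,
        mul_inv_rev, hi] at this
      rwa [x7, x5, show F.φ l5 * F.φ l7 * a * (F.φ l7 * F.φ l5) = F.φ l5 * (F.φ l7 * a * F.φ l7) * F.φ l5 by group,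
        eB, ← map_mul, ← map_mul, h5b] at this
    have c4 : R * (Z.φ₁ (eV * eC * eV)) = Z.φ₁ (eV * eC * eV) * R := by
      have := hfive r hr [7, 3] (by simp [fiveSix])
      simp only [wordVal, gen, eps, one_mul, show (7 : ℕ) ≠ 31 by decide, show (3 : ℕ) ≠ 31 by decide, if_false,
        mul_inv_rev, hi] at this
      rw [x7, x3, show Z.φ₁ eV * F.φ l7 * a * (F.φ l7 * Z.φ₁ eV) = Z.φ₁ eV * (F.φ l7 * a * F.φ l7) * Z.φ₁ eV by group,
        eB] at this
      rwa [map_mul, map_mul, Z.map_C]
    have c5 : R * (F.φ l7 * Z.φ₁ (eV * eC * eV) * F.φ l7) = F.φ l7 * Z.φ₁ (eV * eC * eV) * F.φ l7 * R := by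
      have := hfive r hr [7, 3, 7] (by simp [fiveSix])
      simp only [wordVal, gen, eps, one_mul, show (7 : ℕ) ≠ 31 by decide, show (3 : ℕ) ≠ 31 by decide, if_false,
        mul_inv_rev, hi] at this
      rw [x7, x3, show F.φ l7 * Z.φ₁ eV * F.φ l7 * a * (F.φ l7 * (Z.φ₁ eV * F.φ l7)) =
        F.φ l7 * (Z.φ₁ eV * (F.φ l7 * a * F.φ l7) * Z.φ₁ eV) * F.φ l7 by group, eB] at this
      rwa [map_mul, map_mul, Z.map_C]
    obtain ⟨m, hm⟩ : R ∈ F.φ.range := F.P_le_H (F.cent_cC_eq.le (mem_centralizer_singleton_iff.2 (by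
      rw [← hcC, map_mul, map_mul]
      exact ((Commute.mul_right c1 c2).mul_right c3).eq)))
    rw [← hm] at c1 c2 c3 c4 c5 ⊢
    have hb := hJ m (F.inj (by rw [map_mul, map_mul]; exact c1)) (F.inj (by rw [map_mul, map_mul]; exact c2))
      (F.inj (by rw [map_mul, map_mul]; exact c3))
    obtain ⟨i, j, k, rfl⟩ := (inBase_iff m).1 hb
    have hCeq : F.φ rotC = Z.φ₁ (e36 0 * e36 2) := by
      rw [map_mul, Z.map_e (by norm_num) (by norm_num), Z.map_e (by norm_num) (by norm_num), ← map_mul,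
        f_facts.2.2.1]
      rfl
    have e : F.φ (rotA ^ i.val * rotB ^ j.val * rotC ^ k.val) =
        Z.φ₁ (eA ^ i.val * eC ^ j.val * (e36 0 * e36 2) ^ k.val) := by
      rw [map_mul, map_mul, map_pow, map_pow, map_pow, ← Z.map_A, ← Z.map_C, hCeq]
      simp only [map_mul, map_pow]
    have hsnd : ∀ j k : Fin 3, ((eA ^ i.val * eC ^ j.val * (e36 0 * e36 2) ^ k.val : E36) : P36).2 =
        c36.2 ^ j.val * (Equiv.swap 3 4 * Equiv.swap 4 5 : Equiv.Perm (Fin 6)) ^ k.val := by
      intro j k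
      have hd : ((e36 0 * e36 2 : E36) : P36).2 = Equiv.swap 3 4 * Equiv.swap 4 5 := by decide +kernel
      rw [Subgroup.coe_mul, Subgroup.coe_mul, Subgroup.coe_pow, Subgroup.coe_pow, Subgroup.coe_pow, Prod.snd_mul,
        Prod.snd_mul, Prod.pow_snd, Prod.pow_snd, Prod.pow_snd, hd, show (eA : P36).2 = 1 from rfl, one_pow, one_mul]
      rfl
    have h4 : (eA ^ i.val * eC ^ j.val * (e36 0 * e36 2) ^ k.val) * (eV * eC * eV) =
        (eV * eC * eV) * (eA ^ i.val * eC ^ j.val * (e36 0 * e36 2) ^ k.val) := Z.inj (by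
      rw [map_mul, map_mul Z.φ₁ (eV * eC * eV), ← e]; exact c4)
    have h4'' := congrArg (fun q : E36 => (q : P36).2) h4
    have hjk := six_base j k (by
      rw [Subgroup.coe_mul (x := eA ^ i.val * eC ^ j.val * (e36 0 * e36 2) ^ k.val), Prod.snd_mul, hsnd,
        Subgroup.coe_mul (y := eA ^ i.val * eC ^ j.val * (e36 0 * e36 2) ^ k.val), Prod.snd_mul, hsnd] at h4''
      exact h4'')
    have hA : eA ^ i.val * eC ^ j.val * (e36 0 * e36 2) ^ k.val = eA ^ i.val := by
      refine Subtype.ext (Prod.ext ?_ ?_)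
      · simp only [Subgroup.coe_mul, Subgroup.coe_pow, Prod.fst_mul, Prod.pow_fst,
          show (eC : P36).1 = 1 from rfl, show (e36 0 : P36).1 = 1 from rfl, show (e36 2 : P36).1 = 1 from rfl,
          one_pow, mul_one]
      · rw [hsnd, hjk, Subgroup.coe_pow, Prod.pow_snd, show (eA : P36).2 = 1 from rfl, one_pow]
    rw [e, hA] at c5 ⊢
    -- conjugate by the swap
    set c : G ≃* G := MulAut.conj (F.φ l7) with hcdef
    have hconj : ∀ q, c q = F.φ l7 * q * F.φ l7 := fun q => by rw [hcdef, MulAut.conj_apply, hfi]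
    have h5 : eC ^ i.val * (eV * eC * eV) = (eV * eC * eV) * eC ^ i.val := by
      refine Z.inj (c.injective ?_)
      have ei : c (Z.φ₁ (eC ^ i.val)) = Z.φ₁ (eA ^ i.val) := by
        rw [map_pow, map_pow, Z.map_C, hconj, eA', map_pow, Z.map_A]
      rw [map_mul Z.φ₁ (eC ^ i.val), map_mul Z.φ₁ (eV * eC * eV), map_mul c, map_mul c, ei, hconj]
      exact c5
    have hfin : ∀ i : Fin 3, c36.2 ^ i.val * (v36.2 * c36.2 * v36.2) = v36.2 * c36.2 * v36.2 * c36.2 ^ i.val →
        i = 0 := by decide +kernel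
    have hi0 := hfin i (by
      have := congrArg (fun q : E36 => (q : P36).2) h5
      simpa [eC, eV] using this)
    rw [hi0]
    show Z.φ₁ (eA ^ 0) = 1
    rw [pow_zero, map_one]
  -- the word normalises the base
  set W := wordVal x wSix
  have ha' : wordVal x [4, 6] = a * a := by
    simp only [wordVal, gen, eps, one_mul, show (4 : ℕ) ≠ 31 by decide, show (6 : ℕ) ≠ 31 by decide, if_false]
    rw [hxM 6 (by norm_num), hxM 4 (by norm_num), ← map_mul, ← map_mul]
    exact congrArg _ h64
  have h7 : wordVal x [7, 4, 6, 7] = y * y := by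
    have e : wordVal x [7, 4, 6, 7] = x 7 * wordVal x [4, 6] * x 7 := by
      simp only [wordVal, gen, eps, one_mul, show (4 : ℕ) ≠ 31 by decide, show (6 : ℕ) ≠ 31 by decide,
        show (7 : ℕ) ≠ 31 by decide, if_false, mul_assoc]
    rw [e, ha', x7, ← eB]
    simp only [mul_assoc]
    simp only [← mul_assoc (F.φ l7) (F.φ l7), hf, one_mul]
  have h57 : wordVal x [5, 7, 4, 6, 7, 5] = z * z := by
    have e : wordVal x [5, 7, 4, 6, 7, 5] = x 5 * wordVal x [7, 4, 6, 7] * x 5 := by
      simp only [wordVal, gen, eps, one_mul, show (4 : ℕ) ≠ 31 by decide, show (6 : ℕ) ≠ 31 by decide,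
        show (7 : ℕ) ≠ 31 by decide, show (5 : ℕ) ≠ 31 by decide, if_false, mul_assoc]
    have e5 : F.φ l5 * y * F.φ l5 = z := by rw [← map_mul, ← map_mul, h5b]
    have s5 : F.φ l5 * F.φ l5 = 1 := by rw [← x5]; exact hsq 5
    rw [e, h7, x5, ← e5]
    simp only [mul_assoc]
    simp only [← mul_assoc (F.φ l5) (F.φ l5), s5, one_mul]
  have hrel : ∀ q : List ℕ, wSix ++ q ++ wSix.reverse ++ q.reverse ∈ rSix →
      W * wordVal x q = wordVal x q * W := by
    intro q hq
    have h := hone _ hq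
    rw [wordVal_append, wordVal_append, wordVal_append, wordVal_reverse hsq, wordVal_reverse hsq] at h
    calc W * wordVal x q = W * wordVal x q * ((wordVal x q)⁻¹ * (W⁻¹ * (wordVal x q * W))) := by rw [h, mul_one]
      _ = _ := by group
  have sq3 : ∀ t : Model, InBase t → F.φ t * F.φ t * (F.φ t * F.φ t) = F.φ t := fun t ht => by
    rw [← map_mul, ← map_mul]
    congr 1
    rw [show t * t * (t * t) = t ^ 3 * t by simp [pow_succ, mul_assoc], inBase_cube t ht, one_mul]
  have hy : W * y = y * W := by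
    have := hrel [7, 4, 6, 7] (by simp [rSix])
    rw [h7] at this
    show W * F.φ rotB = F.φ rotB * W
    rw [← sq3 rotB rotA_base.2.2.1]
    exact (Commute.mul_right this this).eq
  have hz : W * z = z * W := by
    have := hrel [5, 7, 4, 6, 7, 5] (by simp [rSix])
    rw [h57] at this
    show W * F.φ rotC = F.φ rotC * W
    rw [← sq3 rotC rotA_base.2.2.2]
    exact (Commute.mul_right this this).eq
  have hinv : W * a * W⁻¹ = a * a := by
    have h := hone (wSix ++ [4, 6] ++ wSix.reverse ++ [4, 6]) (by simp [rSix])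
    rw [wordVal_append, wordVal_append, wordVal_append, wordVal_reverse hsq, ha'] at h
    have h2 : W⁻¹ * (a * a) * W = a := by
      calc W⁻¹ * (a * a) * W = a * (a * a * (W⁻¹ * (a * a * W))) := by
            rw [show a * (a * a * (W⁻¹ * (a * a * W))) = (a * (a * a)) * (W⁻¹ * (a * a) * W) by group,
              show a * (a * a) = 1 by rw [← map_mul, ← map_mul, ← map_one F.φ]; congr 1,
              one_mul]
        _ = a := by rw [h, mul_one]
    nth_rewrite 1 [← h2]
    group
  obtain ⟨m, hm⟩ : W ∈ F.φ.range := by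
    refine F.norm _ fun t ht => ?_
    obtain ⟨i, j, k, rfl⟩ := (inBase_iff t).1 ht
    rw [map_mul, map_mul, map_pow, map_pow, map_pow, ← conj_mul, ← conj_mul, ← conj_pow, ← conj_pow, ← conj_pow,
      hinv, show W * y * W⁻¹ = y by rw [hy, mul_inv_cancel_right],
      show W * z * W⁻¹ = z by rw [hz, mul_inv_cancel_right]]
    refine mul_mem (mul_mem (pow_mem (mul_mem ?_ ?_) _) (pow_mem ?_ _)) (pow_mem ?_ _) <;>
      refine F.mem_J.2 ?_
    exacts [rotA_eq.2, rotA_eq.2, rotA_base.2.2.1, rotA_base.2.2.2]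
  rw [← hm] at hinv hy hz
  exact six_no_inverter m (F.inj (by rw [map_mul, map_mul, map_inv, map_mul]; exact hinv))
    (F.inj (by rw [map_mul, map_mul]; exact hy)) (F.inj (by rw [map_mul, map_mul]; exact hz))

end NOne

end Cfsg.Lib.NineThree
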